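import Cfsg.Agent.Classical.TensorPowLin.Slot
import Cfsg.Agent.Classical.Unitary.Basic
import Cfsg.Agent.Classical.Unitary.Card

/-!
# Adjoints of matrices for the Hermitian form whose Gram matrix is an involutive permutation
-/

set_option autoImplicit false
set_option linter.unusedSectionVars false
set_option linter.unusedSimpArgs false

namespace Cfsg.Lib.Classical.TensorPowU

open Matrix Finset
open scoped Kronecker MatrixGroups
open Cfsg.Lib.Classical.TensorPowLin

universe u

section gen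

variable {ι : Type} [Fintype ι] [DecidableEq ι] {F : Type u} [Field F] (σ : F →+* F) (ν : Equiv.Perm ι)

/-- The adjoint for the form `∑ a, x a * σ (y (ν a))`. -/
def adj (A : Matrix ι ι F) : Matrix ι ι F := Matrix.of fun a b => σ (A (ν b) (ν a))

/-- The form. -/
def hf (x y : ι → F) : F := ∑ a, x a * σ (y (ν a))

/-- `x ↦ h(x, u) v`. -/
def rk (u v : ι → F) : Matrix ι ι F := vecMulVec v (fun a => σ (u (ν a)))

/-- Isometry. -/
def Iso (A : Matrix ι ι F) : Prop := adj σ ν A * A = 1

variable {σ} {ν}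

theorem adj_apply (A : Matrix ι ι F) (a b : ι) : adj σ ν A a b = σ (A (ν b) (ν a)) := rfl

theorem adj_add (A B : Matrix ι ι F) : adj σ ν (A + B) = adj σ ν A + adj σ ν B := by
  ext a b; simp [adj_apply]

theorem adj_smul (c : F) (A : Matrix ι ι F) : adj σ ν (c • A) = σ c • adj σ ν A := by
  ext a b; simp [adj_apply]

theorem adj_zero : adj σ ν (0 : Matrix ι ι F) = 0 := by ext a b; simp [adj_apply]

theorem adj_neg (A : Matrix ι ι F) : adj σ ν (-A) = -adj σ ν A := by
  ext a b; simp [adj_apply]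

theorem adj_sub (A B : Matrix ι ι F) : adj σ ν (A - B) = adj σ ν A - adj σ ν B := by
  rw [sub_eq_add_neg, adj_add, adj_neg, sub_eq_add_neg]

theorem adj_sum {κ : Type*} (s : Finset κ) (A : κ → Matrix ι ι F) :
    adj σ ν (∑ r ∈ s, A r) = ∑ r ∈ s, adj σ ν (A r) :=
  map_sum (AddMonoidHom.mk' (adj σ ν) adj_add) A s

theorem adj_one : adj σ ν (1 : Matrix ι ι F) = 1 := by
  ext a b
  by_cases h : a = b
  · subst h; simp [adj_apply]
  · rw [adj_apply, one_apply_ne (fun e => h (ν.injective e).symm), map_zero, one_apply_ne h]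

theorem adj_mul (A B : Matrix ι ι F) : adj σ ν (A * B) = adj σ ν B * adj σ ν A := by
  ext a b
  simp only [adj_apply, Matrix.mul_apply, map_sum, map_mul]
  refine (Equiv.sum_comp ν _).symm.trans (Finset.sum_congr rfl fun c _ => mul_comm _ _)

theorem adj_pow (A : Matrix ι ι F) (n : ℕ) : adj σ ν (A ^ n) = adj σ ν A ^ n := by
  induction n with
  | zero => rw [pow_zero, pow_zero, adj_one]
  | succ n ih => rw [pow_succ, adj_mul, ih, ← pow_succ']

variable (hσ : ∀ c, σ (σ c) = c) (hν : ∀ a, ν (ν a) = a)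

include hσ hν in
theorem adj_adj (A : Matrix ι ι F) : adj σ ν (adj σ ν A) = A := by
  ext a b; rw [adj_apply, adj_apply, hσ, hν, hν]

include hν in
theorem adj_single (a b : ι) (c : F) : adj σ ν (Matrix.single a b c) = Matrix.single (ν b) (ν a) (σ c) := by
  ext x y
  rw [adj_apply, single_apply, single_apply]
  by_cases h : a = ν y ∧ b = ν x
  · rw [if_pos h, if_pos ⟨by rw [h.2, hν], by rw [h.1, hν]⟩]
  · rw [if_neg h, if_neg, map_zero]
    exact fun e => h ⟨by rw [← e.2, hν], by rw [← e.1, hν]⟩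

include hν in
theorem rk_single (p q : ι) : rk σ ν (Pi.single p 1) (Pi.single q 1) = Matrix.single q (ν p) (1 : F) := by
  ext a b
  have e : ν b = p ↔ ν p = b := ⟨fun h => by rw [← h, hν], fun h => by rw [← h, hν]⟩
  simp only [rk, vecMulVec_apply, single_apply, Pi.single_apply, e]
  by_cases ha : a = q <;> by_cases hb : ν p = b <;> simp [ha, hb, Ne.symm, eq_comm]

theorem rk_mulVec (u v x : ι → F) : rk σ ν u v *ᵥ x = hf σ ν x u • v := by
  rw [rk, vecMulVec_mulVec, op_smul_eq_smul]
  congr 1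
  exact Finset.sum_congr rfl fun a _ => mul_comm _ _

theorem hf_add_left (x y z : ι → F) : hf σ ν (x + y) z = hf σ ν x z + hf σ ν y z := by
  simp [hf, add_mul, Finset.sum_add_distrib]

theorem hf_smul_left (c : F) (x y : ι → F) : hf σ ν (c • x) y = c * hf σ ν x y := by
  simp [hf, Finset.mul_sum, mul_assoc]

theorem hf_single_right (x : ι → F) (b : ι) : hf σ ν x (Pi.single (ν b) 1) = x b := by
  rw [hf, Finset.sum_eq_single b (fun a _ ha => by
    rw [Pi.single_eq_of_ne (fun e => ha (ν.injective e)), map_zero, mul_zero]) (by simp), Pi.single_eq_same, map_one,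
    mul_one]

include hσ hν in
theorem hf_symm (x y : ι → F) : hf σ ν x y = σ (hf σ ν y x) := by
  simp only [hf, map_sum, map_mul, hσ]
  refine (Equiv.sum_comp ν _).symm.trans (Finset.sum_congr rfl fun a _ => ?_)
  rw [hν, mul_comm]

include hσ hν in
theorem hf_adj (A : Matrix ι ι F) (x y : ι → F) : hf σ ν (A *ᵥ x) y = hf σ ν x (adj σ ν A *ᵥ y) := by
  simp only [hf, mulVec, dotProduct, map_sum, map_mul, adj_apply, hσ, hν, Finset.sum_mul, Finset.mul_sum]
  rw [Finset.sum_comm]
  refine Finset.sum_congr rfl fun b _ => (Equiv.sum_comp ν _).symm.trans (Finset.sum_congr rfl fun a _ => ?_)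
  rw [hν]
  ring

include hσ hν in
theorem Iso.hf_eq {A : Matrix ι ι F} (h : Iso σ ν A) (x y : ι → F) : hf σ ν (A *ᵥ x) (A *ᵥ y) = hf σ ν x y := by
  rw [hf_adj hσ hν, mulVec_mulVec, h, one_mulVec]

include hσ hν in
theorem Iso.mul_adj {A : Matrix ι ι F} (h : Iso σ ν A) : A * adj σ ν A = 1 := mul_eq_one_comm.mp h

include hσ hν in
theorem iso_of_hf {A : Matrix ι ι F} (h : ∀ x y, hf σ ν (A *ᵥ x) (A *ᵥ y) = hf σ ν x y) : Iso σ ν A := by
  refine Matrix.ext_of_mulVec_single fun j => ?_
  rw [← mulVec_mulVec, one_mulVec]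
  funext i
  have h1 := h (Pi.single (ν i) 1) (Pi.single j 1)
  rw [hf_adj hσ hν, hf_symm hσ hν, hf_symm hσ hν (Pi.single (ν i) 1), hf_single_right, hf_single_right] at h1
  exact Function.LeftInverse.injective hσ h1

include hσ hν in
/-- Conjugates of `rk`. -/
theorem conj_rk {A : Matrix ι ι F} (h : Iso σ ν A) (u v : ι → F) :
    A * rk σ ν u v * adj σ ν A = rk σ ν (A *ᵥ u) (A *ᵥ v) := by
  refine Matrix.ext_of_mulVec_single fun j => ?_
  rw [← mulVec_mulVec, ← mulVec_mulVec, rk_mulVec, rk_mulVec, mulVec_smul]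
  congr 1
  rw [← h.hf_eq hσ hν, mulVec_mulVec, h.mul_adj hσ hν, one_mulVec]

include hσ hν in
theorem adj_rk (u v : ι → F) : adj σ ν (rk σ ν u v) = rk σ ν v u := by
  ext a b
  simp only [adj_apply, rk, vecMulVec_apply, map_mul, hσ, hν]
  rw [mul_comm]

theorem rk_mul_rk (u v u' v' : ι → F) : rk σ ν u v * rk σ ν u' v' = hf σ ν v' u • rk σ ν u' v := by
  refine Matrix.ext_of_mulVec_single fun j => ?_
  rw [← mulVec_mulVec, smul_mulVec, rk_mulVec u' v', mulVec_smul, rk_mulVec u v, rk_mulVec u' v, smul_comm]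

theorem rk_add_left (u u' v : ι → F) : rk σ ν (u + u') v = rk σ ν u v + rk σ ν u' v := by
  ext a b; simp [rk, vecMulVec_apply, mul_add]

theorem rk_add_right (u v v' : ι → F) : rk σ ν u (v + v') = rk σ ν u v + rk σ ν u v' := by
  ext a b; simp [rk, vecMulVec_apply, add_mul]

theorem rk_smul_left (c : F) (u v : ι → F) : rk σ ν (c • u) v = σ c • rk σ ν u v := by
  ext a b; simp [rk, vecMulVec_apply, mul_left_comm]

theorem rk_smul_right (c : F) (u v : ι → F) : rk σ ν u (c • v) = c • rk σ ν u v := by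
  ext a b; simp [rk, vecMulVec_apply, mul_assoc]

end gen

section pow

variable {τ γ : Type} [Fintype τ] [DecidableEq τ] [Fintype γ] [DecidableEq γ] {F : Type u} [Field F]
  {σ : F →+* F} {ν : Equiv.Perm γ}

/-- The involution acting in every coordinate. -/
abbrev pnu (τ : Type) (ν : Equiv.Perm γ) : Equiv.Perm (τ → γ) := Equiv.piCongrRight fun _ => ν

theorem pnu_apply (x : τ → γ) (l : τ) : pnu τ ν x l = ν (x l) := rfl

theorem adj_tens (f : τ → Matrix γ γ F) : adj σ (pnu τ ν) (tens f) = tens fun l => adj σ ν (f l) := by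
  ext x y; simp [adj_apply, tens_apply, pnu_apply]

theorem adj_slot (i : τ) (A : Matrix γ γ F) : adj σ (pnu τ ν) (slot i A) = slot i (adj σ ν A) := by
  rw [slot, adj_tens, slot]
  congr 1
  funext l
  by_cases h : l = i
  · subst h; simp
  · simp [h, adj_one]

theorem adj_kron {α : Type} [Fintype α] [DecidableEq α] {να : Equiv.Perm α} (Z : Matrix α α F) (A : Matrix γ γ F) :
    adj σ (να.prodCongr ν) (Z ⊗ₖ A) = adj σ να Z ⊗ₖ adj σ ν A := by
  ext ⟨a, c⟩ ⟨b, d⟩
  simp [adj_apply, kroneckerMap_apply]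

theorem adj_toBig (i : τ) (N : Matrix ((Rest i → γ) × γ) ((Rest i → γ) × γ) F) :
    adj σ (pnu τ ν) (toBig i N) = toBig i (adj σ ((pnu (Rest i) ν).prodCongr ν) N) := by
  ext x y
  rw [adj_apply, toBig_apply, toBig_apply, adj_apply]
  rfl

theorem adj_outer (i : τ) (Z : Matrix (Rest i → γ) (Rest i → γ) F) :
    adj σ (pnu τ ν) (outer i Z) = outer i (adj σ (pnu (Rest i) ν) Z) := by
  rw [outer, adj_toBig, adj_kron, adj_one, outer]

theorem adj_perm (π : Equiv.Perm τ) :
    adj σ (pnu τ ν) (perm π : Matrix (τ → γ) (τ → γ) F) = perm π⁻¹ := by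
  ext x y
  simp only [adj_apply, perm, Matrix.of_apply]
  rw [apply_ite σ, map_one, map_zero]
  refine if_congr ⟨fun h => funext fun l => ?_, fun h => funext fun l => ?_⟩ rfl rfl
  · have := congrFun h (π⁻¹ l)
    simp only [pnu_apply, Function.comp_apply, Equiv.Perm.coe_inv, Equiv.apply_symm_apply] at this
    exact (ν.injective this).symm
  · have := congrFun h (π l)
    simp only [Function.comp_apply, Equiv.Perm.coe_inv, Equiv.symm_apply_apply] at this
    simp [pnu_apply, this]

end pow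

/-- A polarised basis: a hyperbolic pair `o, o'` and orthonormal vectors elsewhere. -/
structure Pol (γ : Type) (F : Type u) [Field F] where
  σ : F →+* F
  conj : IsConj σ
  o : γ
  o' : γ
  ne : o ≠ o'
  a₀ : γ
  a₀o : a₀ ≠ o
  a₀o' : a₀ ≠ o'

namespace Pol

variable {γ : Type} [Fintype γ] [DecidableEq γ] {F : Type u} [Field F] (P : Pol γ F)

/-- The permutation giving the Gram matrix. -/
def nu : Equiv.Perm γ := Equiv.swap P.o P.o'

theorem nu_o : P.nu P.o = P.o' := Equiv.swap_apply_left _ _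

theorem nu_o' : P.nu P.o' = P.o := Equiv.swap_apply_right _ _

theorem nu_of {a : γ} (h : a ≠ P.o) (h' : a ≠ P.o') : P.nu a = a := Equiv.swap_apply_of_ne_of_ne h h'

theorem nu_nu (a : γ) : P.nu (P.nu a) = a := Equiv.swap_apply_self _ _ a

theorem invol (c : F) : P.σ (P.σ c) = c := P.conj.invol c

/-- The Hermitian space of one factor. -/
def herm : HermSpace F (γ → F) where
  σ := P.σ
  h := hf P.σ P.nu
  conj := P.conj
  add_left := hf_add_left
  smul_left := hf_smul_left
  symm := hf_symm P.invol P.nu_nu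
  nondeg v hv := funext fun a => by
    have h1 := hv (Pi.single (P.nu a) 1)
    rw [hf_symm P.invol P.nu_nu, hf_single_right] at h1
    exact (map_eq_zero P.σ).mp h1

theorem herm_h (x y : γ → F) : P.herm.h x y = hf P.σ P.nu x y := rfl

end Pol

end Cfsg.Lib.Classical.TensorPowU
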