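import Cfsg.Agent.Classical.TensorPowU.Stab
import Cfsg.Agent.Classical.TensorPowLin.Avg

/-!
# Averaging: the elements of a group with scalar centres permute the slots
-/

set_option autoImplicit false
set_option linter.unusedSectionVars false
set_option linter.unusedSimpArgs false
set_option linter.unusedVariables false
set_option linter.style.haveILetI false

namespace Cfsg.Lib.Classical.TensorPowU

open Matrix Finset
open scoped MatrixGroups
open Cfsg.Lib.Classical.TensorPowLin (slot slot_mul slot_one slot_add slot_sub slot_smul slot_zero slot_neg slot_sum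
  slot_comm slot_injective conjM conjM_apply conjM_mul conjM_one conjM_conjM conjM_id conjM_inv_conjM
  conjM_conjM_inv commute_conjM Comm Eqj InL tens tens_mul single_eq_tens normalizerSlot qop qop_apply qop_normal
  qop_left Orbit rep rep_mk rep_smul comm_of_normal comm_left ptr ptr_single ptr_eq_zero trace_slot_conjM trace_slot_mul)

universe u

variable {τ γ : Type} [Fintype τ] [DecidableEq τ] [Fintype γ] [DecidableEq γ] {F : Type u} [Field F]

theorem InL.smul {M : Matrix (τ → γ) (τ → γ) F} (c : F) (h : InL M) : InL (c • M) := by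
  obtain ⟨A, rfl⟩ := h
  exact ⟨fun l => c • A l, by rw [Finset.smul_sum]; simp only [slot_smul]⟩

namespace Pol

variable {P : Pol γ F} {X : Subgroup (GL (τ → γ) F)}

theorem N_E {w : γ → F} (hw : P.InQ w) (l : F) : P.N P.eo w l * P.E = 0 ∧ P.E * P.N P.eo w l = 0 := by
  constructor <;>
    simp only [N, E, mul_add, add_mul, mul_sub, sub_mul, smul_mul_assoc, mul_smul_comm, r_mul_r, eo_iso, hw.perp.1,
      hw.perp'.1, zero_smul, smul_zero, sub_zero, add_zero]

theorem InQ.smul {w : γ → F} (hw : P.InQ w) (c : F) : P.InQ (c • w) :=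
  ⟨by simp [hw.1], by simp [hw.2]⟩

theorem N_eo' {w : γ → F} (hw : P.InQ w) (l : F) : P.N P.eo w l *ᵥ P.eo' = w + l • P.eo := by
  rw [Pol.N, add_mulVec, sub_mulVec, smul_mulVec, r_mulVec, r_mulVec, r_mulVec, eo'_eo, hw.perp'.2, one_smul,
    zero_smul, sub_zero, one_smul]

variable (P) in
/-- The part of the root group at `eo` belonging to one vector. -/
def Rw (w : γ → F) (hw : P.InQ w) : Subgroup (GL γ F) where
  carrier := {b | ∃ c l : F, l + P.σ l = -P.h (c • w) (c • w) ∧ (b : Matrix γ γ F) = 1 + P.N P.eo (c • w) l}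
  one_mem' := ⟨0, 0, by rw [zero_smul, map_zero, add_zero, h_zero_left, neg_zero], by
    rw [Units.val_one, zero_smul, N, r_zero_left, r_zero_right, zero_smul, sub_zero, add_zero, add_zero]⟩
  mul_mem' := by
    rintro a b ⟨c, l, hl, ea⟩ ⟨c', l', hl', eb⟩
    refine ⟨c + c', l + l' - P.h (c' • w) (c • w), ?_, ?_⟩
    · rw [map_sub, map_add, ← h_symm, add_smul, h_add_left, h_add_right, h_add_right]
      linear_combination hl + hl'
    · rw [Units.val_mul, ea, eb, add_mul, one_mul, mul_add, mul_one,
        N_mul_N l l' eo_iso (hw.smul c).perp.1 (hw.smul c').perp.1, add_smul, N, N, N, r_add_left, r_add_right]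
      module
  inv_mem' := by
    rintro a ⟨c, l, hl, ea⟩
    refine ⟨-c, P.σ l, ?_, Units.inv_eq_of_mul_eq_one_right ?_⟩
    · rw [P.invol, neg_smul, h_neg_left, show P.h (c • w) (-(c • w)) = -P.h (c • w) (c • w) from P.herm.neg_right _ _,
        neg_neg]
      linear_combination hl
    · rw [ea, neg_smul, add_mul, one_mul, mul_add, mul_one,
        N_mul_N l _ eo_iso (hw.smul c).perp.1 (by rw [h_neg_left, (hw.smul c).perp.1, neg_zero]),
        h_neg_left, neg_neg, N, N, r_neg_left, r_neg_right]
      linear_combination (norm := module) hl • P.r P.eo P.eo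

theorem Rw_le {w : γ → F} (hw : P.InQ w) : P.Rw w hw ≤ P.R := by
  rintro b ⟨c, l, hl, e⟩
  exact ⟨c • w, l, hw.smul c, hl, e⟩

/-- A non-trivial root element is tight. -/
theorem tight_R {b : GL γ F} (hb : b ∈ P.R) (hb1 : b ≠ 1) : P.Tight ((b : Matrix γ γ F) - 1) := by
  obtain ⟨w, l, hw, hl, e⟩ := hb
  rw [e, add_sub_cancel_left]
  have hEN : P.r P.eo P.eo * P.N P.eo w l = 0 := (N_E hw l).2
  by_cases hw0 : w = 0
  · have hl0 : l ≠ 0 := by
      intro hl0
      refine hb1 (Units.ext ?_)
      rw [e, hw0, hl0, N, r_zero_left, r_zero_right, zero_smul, sub_zero, add_zero, add_zero, Units.val_one]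
    refine ⟨P.eo, l⁻¹ • P.eo', eo_ne, eo_iso, ?_, hEN⟩
    rw [mulVec_smul, N_eo' hw, hw0, zero_add, smul_smul, inv_mul_cancel₀ hl0, one_smul]
  · obtain ⟨a, ha⟩ := Function.ne_iff.mp hw0
    have hao : a ≠ P.o := fun h => ha (h ▸ hw.1)
    have hao' : a ≠ P.o' := fun h => ha (h ▸ hw.2)
    set t := -(P.σ (w a))⁻¹
    refine ⟨P.eo, Pi.single a t, eo_ne, eo_iso, ?_, hEN⟩
    have hx := (inQ_single (P := P) hao hao' t).perp.1
    have hxw : P.h (Pi.single a t) w = -1 := by
      show ∑ b, (Pi.single a t : γ → F) b * P.σ (w (P.nu b)) = -1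
      rw [Finset.sum_eq_single a (fun b _ hb => by rw [Pi.single_eq_of_ne hb, zero_mul]) (by simp), Pi.single_eq_same,
        P.nu_of hao hao']
      exact by rw [neg_mul, inv_mul_cancel₀ ((map_ne_zero P.σ).mpr ha)]
    rw [N, add_mulVec, sub_mulVec, smul_mulVec, r_mulVec, r_mulVec, r_mulVec, hxw, hx, zero_smul, zero_smul,
      smul_zero, zero_sub, add_zero, neg_smul, one_smul, neg_neg]

variable [Fintype F]

set_option maxHeartbeats 1000000 in
/-- The conjugates of anything by a root group at `eo` add up to zero. -/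
theorem sum_conj_zero [Nonempty γ] {w : γ → F} (hw : P.InQ w) (hw0 : w ≠ 0)
    (hc : P.h w w = 0 ∨ 3 ≤ P.herm.q) [Fintype (P.Rw w hw)] (i : τ) (M : Matrix (τ → γ) (τ → γ) F) :
    ∑ k : P.Rw w hw, conjM (slotU i (k : GL γ F)) M = 0 := by
  classical
  letI : Fintype (fixedField P.σ) := Fintype.ofFinite _
  obtain ⟨s₀, hs₀, hs₀'⟩ := P.conj.exists_skew
  obtain ⟨θ, hθ⟩ := P.conj.exists_trace_one
  set l0 : F → F := fun c => -(θ * P.h (c • w) (c • w)) with hl0
  have hl0t : ∀ c, l0 c + P.σ (l0 c) = -P.h (c • w) (c • w) := fun c => by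
    simp only [hl0]
    rw [map_neg, map_mul, ← h_symm]
    linear_combination (-P.h (c • w) (c • w)) * hθ
  have hlt : ∀ c (r : fixedField P.σ), (l0 c + s₀ * r) + P.σ (l0 c + s₀ * r) = -P.h (c • w) (c • w) := fun c r => by
    rw [map_add, map_mul, show P.σ (r : F) = r from r.2]
    linear_combination hl0t c + (r : F) * hs₀'
  let Φ : F × fixedField P.σ → P.Rw w hw := fun x =>
    ⟨root (rd_eo (hw.smul x.1) (hlt x.1 x.2)), x.1, _, hlt x.1 x.2, rfl⟩
  have hΦ : Function.Bijective Φ := by
    refine ⟨fun x y hxy => ?_, fun b => ?_⟩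
    · have h1 := congrArg (fun b : P.Rw w hw => ((b : GL γ F) : Matrix γ γ F) *ᵥ P.eo') hxy
      simp only [Φ, root_val, add_mulVec, one_mulVec, N_eo' (hw.smul _)] at h1
      replace h1 := add_left_cancel h1
      obtain ⟨a, ha⟩ := Function.ne_iff.mp hw0
      have hao : a ≠ P.o := fun h => ha (h ▸ hw.1)
      have h2 := congrFun h1 a
      simp [eo, hao] at h2
      have h4 : x.1 = y.1 := h2.resolve_right ha
      have h3 := congrFun h1 P.o
      simp [eo, hw.1, h4] at h3
      exact Prod.ext h4 (h3.resolve_right hs₀)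
    · obtain ⟨c, l, hl, e⟩ := b.2
      have hr : P.σ (s₀⁻¹ * (l - l0 c)) = s₀⁻¹ * (l - l0 c) := by
        rw [map_mul, map_inv₀, map_sub, eq_neg_of_add_eq_zero_right hs₀', inv_neg]
        linear_combination (-s₀⁻¹) * hl + s₀⁻¹ * hl0t c
      refine ⟨(c, ⟨_, hr⟩), Subtype.ext (Units.ext ?_)⟩
      simp only [Φ, root_val]
      rw [e]
      congr 2
      rw [← mul_assoc, mul_inv_cancel₀ hs₀, one_mul]
      ring
  rw [← (Equiv.ofBijective Φ hΦ).sum_comp]
  simp only [Equiv.ofBijective_apply]
  rw [Fintype.sum_prod_type]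
  -- the centre
  set E' : Matrix (τ → γ) (τ → γ) F := slot i P.E
  set G : F := ∑ r : fixedField P.σ, s₀ * (r : F)
  set H : F := ∑ r : fixedField P.σ, s₀ * (r : F) * (s₀ * r)
  set kk : F → Matrix (τ → γ) (τ → γ) F := fun c => slot i (1 + P.N P.eo (c • w) (l0 c))
  set ki : F → Matrix (τ → γ) (τ → γ) F := fun c => slot i ((root (rd_eo (hw.smul c) (hl0t c)))⁻¹.1)
  have hfac : ∀ c (r : fixedField P.σ), conjM (slotU i (Φ (c, r) : GL γ F)) M =
      kk c * ((1 + (s₀ * (r : F)) • E') * M * (1 - (s₀ * (r : F)) • E')) * ki c := by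
    intro c r
    have e1 : ((Φ (c, r) : GL γ F) : Matrix γ γ F) = (1 + P.N P.eo (c • w) (l0 c)) * (1 + (s₀ * (r : F)) • P.E) := by
      simp only [Φ, root_val]
      rw [mul_add, mul_one, mul_smul_comm, add_mul, one_mul, (N_E (hw.smul c) _).1, add_zero, N, N, E]
      module
    have e2 : ((Φ (c, r) : GL γ F)⁻¹).1 = (1 - (s₀ * (r : F)) • P.E) * (root (rd_eo (hw.smul c) (hl0t c)))⁻¹.1 := by
      refine Units.inv_eq_of_mul_eq_one_right ?_
      rw [e1, mul_assoc, ← mul_assoc (1 + (s₀ * (r : F)) • P.E)]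
      have e3 : (1 + (s₀ * (r : F)) • P.E) * (1 - (s₀ * (r : F)) • P.E) = 1 := by
        rw [add_mul, one_mul, mul_sub, mul_one, smul_mul_smul_comm, E_sq, smul_zero, sub_zero, sub_add_cancel]
      rw [e3, one_mul, ← root_val (rd_eo (hw.smul c) (hl0t c)), Units.mul_inv]
    rw [conjM_apply, slotU_val, slotU_inv, e1, e2, slot_mul, slot_mul, slot_add i 1 ((s₀ * (r : F)) • P.E),
      slot_sub i 1 ((s₀ * (r : F)) • P.E), slot_one, slot_smul]
    simp only [kk, ki, E', mul_assoc]
  have hcard : ((Fintype.card (fixedField P.σ) : ℕ) : F) = 0 := by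
    rw [← map_natCast (fixedField P.σ).subtype, FiniteField.cast_card_eq_zero, map_zero]
  have hinner : ∀ c, ∑ r : fixedField P.σ, conjM (slotU i (Φ (c, r) : GL γ F)) M =
      kk c * (G • (E' * M - M * E') - H • (E' * M * E')) * ki c := by
    intro c
    rw [Finset.sum_congr rfl fun r _ => hfac c r, ← Finset.sum_mul, ← Finset.mul_sum]
    congr 2
    have e : ∀ a : F, (1 + a • E') * M * (1 - a • E') = M + a • (E' * M - M * E') - (a * a) • (E' * M * E') := by
      intro a
      simp only [add_mul, mul_sub, one_mul, mul_one, smul_mul_assoc, mul_smul_comm, smul_smul, smul_sub]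
      module
    simp only [e, Finset.sum_sub_distrib, Finset.sum_add_distrib, ← Finset.sum_smul, Finset.sum_const,
      Finset.card_univ, ← Nat.cast_smul_eq_nsmul F, hcard, zero_smul, zero_add, G, H]
  rw [Finset.sum_congr rfl fun c _ => hinner c]
  have hkE : ∀ c, kk c * E' = E' := fun c => by
    simp only [kk, E', ← slot_mul, add_mul, one_mul, (N_E (hw.smul c) _).1, add_zero]
  have hEk : ∀ c, E' * ki c = E' := fun c => by
    have h1 : E' * kk c = E' := by
      simp only [kk, E', ← slot_mul, mul_add, mul_one, (N_E (hw.smul c) _).2, add_zero]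
    calc E' * ki c = E' * kk c * ki c := by rw [h1]
      _ = E' := by
        simp only [kk, ki, mul_assoc, ← slot_mul]
        rw [← root_val (rd_eo (hw.smul c) (hl0t c)), Units.mul_inv, slot_one, mul_one]
  have hEME : ∀ c, kk c * (E' * M * E') * ki c = E' * M * E' := fun c => by
    rw [← mul_assoc, ← mul_assoc, hkE, mul_assoc (E' * M), hEk]
  rcases hc with hww | hq
  · have hl00 : ∀ c, l0 c = 0 := fun c => by
      simp only [hl0]
      rw [h_smul_left, h_smul_right, hww, mul_zero, mul_zero, mul_zero, neg_zero]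
    have hki : ∀ c, ki c = slot i (1 - P.N P.eo (c • w) 0) := fun c => by
      simp only [ki]
      congr 1
      refine Units.inv_eq_of_mul_eq_one_right ?_
      rw [root_val, hl00, add_mul, one_mul, mul_sub, mul_one,
        N_mul_N 0 0 eo_iso (hw.smul c).perp.1 (hw.smul c).perp.1, h_smul_left, h_smul_right, hww, mul_zero, mul_zero,
        neg_zero, zero_smul, sub_zero, sub_add_cancel]
    have hsum : ∑ c : F, c = 0 := by
      by_cases h2 : 2 < Fintype.card F
      · exact TensorPowLin.sum_field_eq_zero h2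
      · exfalso
        obtain ⟨a, ha⟩ := P.conj.ne_id
        have h01 : ∀ a : F, a = 0 ∨ a = 1 := fun a => by
          by_contra hh
          push Not at hh
          have : ({a, 0, 1} : Finset F).card = 3 :=
            Finset.card_eq_three.mpr ⟨a, 0, 1, hh.1, hh.2, zero_ne_one, rfl⟩
          have := this ▸ Finset.card_le_univ ({a, 0, 1} : Finset F)
          omega
        rcases h01 a with rfl | rfl
        · exact ha (map_zero _)
        · exact ha (map_one _)
    have hN : ∑ c : F, P.N P.eo (c • w) 0 = 0 := by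
      let φ : (γ → F) →+ Matrix γ γ F := AddMonoidHom.mk' (fun v => P.r P.eo v - P.r v P.eo) fun u v => by
        rw [r_add_left, r_add_right]; abel
      have : ∀ c : F, P.N P.eo (c • w) 0 = φ (c • w) := fun c => by
        rw [N, zero_smul, add_zero]; rfl
      simp only [this]
      rw [← map_sum, ← Finset.sum_smul, hsum, zero_smul, map_zero]
    have hl : ∑ c : F, kk c * (E' * M) * ki c = 0 := by
      have e : ∀ c, kk c * (E' * M) * ki c = E' * M * slot i (1 - P.N P.eo (c • w) 0) := fun c => by
        rw [← mul_assoc, hkE, hki]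
      simp only [e]
      rw [← Finset.mul_sum, ← slot_sum, Finset.sum_sub_distrib, hN, Finset.sum_const, Finset.card_univ,
        ← Nat.cast_smul_eq_nsmul F, FiniteField.cast_card_eq_zero, zero_smul, sub_zero, slot_zero, mul_zero]
    have hr : ∑ c : F, kk c * (M * E') * ki c = 0 := by
      have e : ∀ c, kk c * (M * E') * ki c = slot i (1 + P.N P.eo (c • w) 0) * (M * E') := fun c => by
        rw [← mul_assoc (kk c), mul_assoc _ E', hEk, mul_assoc]
        simp only [kk, hl00]
      simp only [e]
      rw [← Finset.sum_mul, ← slot_sum, Finset.sum_add_distrib, hN, Finset.sum_const, Finset.card_univ,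
        ← Nat.cast_smul_eq_nsmul F, FiniteField.cast_card_eq_zero, zero_smul, zero_add, slot_zero, zero_mul]
    simp only [mul_sub, sub_mul, mul_smul_comm, smul_mul_assoc, smul_sub, hEME, Finset.sum_sub_distrib,
      ← Finset.smul_sum, hl, hr, smul_zero, Finset.sum_const, Finset.card_univ, ← Nat.cast_smul_eq_nsmul F,
      FiniteField.cast_card_eq_zero, zero_smul, sub_zero]
  · have hG : G = 0 := by
      have h2 : 2 < Fintype.card (fixedField P.σ) := by
        rw [← Nat.card_eq_fintype_card]; exact hq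
      have := congrArg (fixedField P.σ).subtype (TensorPowLin.sum_field_eq_zero h2)
      rw [map_sum, map_zero] at this
      simp only [G]
      rw [← Finset.mul_sum]
      exact mul_eq_zero_of_right _ this
    simp only [hG, zero_smul, zero_sub, mul_neg, neg_mul, mul_smul_comm, smul_mul_assoc, hEME, Finset.sum_neg_distrib,
      Finset.sum_const, Finset.card_univ, ← Nat.cast_smul_eq_nsmul F, FiniteField.cast_card_eq_zero, zero_smul,
      neg_zero]

theorem single_eq_slot (j : τ) (x y : τ → γ) :
    (Matrix.single x y (1 : F) : Matrix (τ → γ) (τ → γ) F) =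
      onSet (Finset.univ.erase j) (fun l => Matrix.single (x l) (y l) (1 : F)) *
        slot j (Matrix.single (x j) (y j) (1 : F)) := by
  rw [single_eq_tens, slot, onSet, tens_mul]
  congr 1
  funext l
  by_cases hl : l = j
  · subst hl
    simp
  · simp [hl]

/-- An invariant subspace containing the central root matrix contains the differences of diagonal units. -/
theorem inv_diag {S : Submodule F (Matrix γ γ F)} (hS : P.Inv S) (hE : P.E ∈ S) (a : γ) :
    Matrix.single a a (1 : F) - Matrix.single P.o P.o (1 : F) ∈ S := by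
  have hoff := (inv_offdiag hS hE).1
  have hu : ∀ a b : γ, P.r (Pi.single (P.nu b) 1) (Pi.single a 1) = Matrix.single a b (1 : F) := fun a b => by
    rw [r, rk_single P.nu_nu, P.nu_nu]
  by_cases ha : a = P.o
  · subst ha; rw [sub_self]; exact zero_mem S
  by_cases ha' : a = P.o'
  · subst ha'
    obtain ⟨s, hs, hs0⟩ := P.conj.exists_skew
    have hrd : P.RD P.eo 0 s := rd_eo ⟨rfl, rfl⟩ (by rw [h_zero_left, neg_zero]; exact hs0)
    have hmem := hS _ (root_mem hrd) _ (hoff P.o' P.o P.ne.symm)
    rw [← hu, P.nu_o, ← eo', conj_r (root_mem hrd), root_val, add_mulVec, one_mulVec,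
      N_eo' (w := (0 : γ → F)) ⟨rfl, rfl⟩, zero_add] at hmem
    simp only [r_add_left, r_add_right, r_smul_left, r_smul_right, smul_add, smul_smul] at hmem
    simp only [eo, eo', r, rk_single P.nu_nu, P.nu_o, P.nu_o', eq_neg_of_add_eq_zero_right hs0] at hmem
    have h1 := sub_mem (sub_mem hmem (hoff P.o' P.o P.ne.symm)) (S.smul_mem (-s * s) (hoff P.o P.o' P.ne))
    have h2 := S.smul_mem (-s⁻¹) h1
    convert h2 using 1
    match_scalars <;> field_simp <;> ring
  · have hrd := rd_eo (inQ_single (P := P) ha ha' 1) (exists_l (P := P) (Pi.single a 1)).choose_spec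
    set l := (exists_l (P := P) (Pi.single a 1)).choose
    have hmem := hS _ (root_mem hrd) _ (hoff a P.o ha)
    rw [← hu, P.nu_o, ← eo', conj_r (root_mem hrd), root_val, add_mulVec, one_mulVec, N_eo' (inQ_single ha ha' 1),
      add_mulVec, one_mulVec] at hmem
    have e2 : P.N P.eo (Pi.single a 1) l *ᵥ Pi.single a 1 = -P.eo := by
      have hxw : P.h (Pi.single a (1 : F)) (Pi.single a 1) = 1 := by
        rw [h_single, P.nu_of ha ha', Pi.single_eq_same]
      rw [N, add_mulVec, sub_mulVec, smul_mulVec, r_mulVec, r_mulVec, r_mulVec, hxw,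
        (inQ_single ha ha' (1 : F)).perp.1, zero_smul, zero_smul, smul_zero, zero_sub, add_zero, one_smul]
    rw [e2] at hmem
    simp only [r_add_left, r_add_right, r_smul_left, r_neg_right, smul_neg, smul_add] at hmem
    simp only [eo, eo', r, rk_single P.nu_nu, P.nu_o, P.nu_o', P.nu_of ha ha'] at hmem
    have h1 := sub_mem (add_mem (add_mem hmem (hoff P.o a (Ne.symm ha)))
      (S.smul_mem (P.σ l) (hoff P.o P.o' P.ne))) (add_mem (hoff a P.o ha) (S.smul_mem (P.σ l) (hoff a P.o' ha')))
    convert h1 using 1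
    abel

/-- The conjugates of a slot that are no slots. -/
noncomputable def bad [Nonempty γ] (X : Subgroup (GL (τ → γ) F)) (i : τ) [Fintype (Orbit X i)] :
    Finset (Orbit X i) :=
  @Finset.filter _ (fun ω : Orbit X i => ∀ l, ¬ Eqj (rep i ω) i l) (_root_.Classical.decPred _) Finset.univ

theorem mem_bad [Nonempty γ] {i : τ} [Fintype (Orbit X i)] {ω : Orbit X i} :
    ω ∈ bad X i ↔ ∀ l, ¬ Eqj (rep i ω) i l := by
  classical
  simp [bad]

set_option maxHeartbeats 1000000 in
/-- The bad classes kill a central root of any slot. -/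
theorem Good.bad_E [Nonempty γ] (hG : P.Good X) (i j : τ) [Fintype (Orbit X i)]
    {N : Matrix (τ → γ) (τ → γ) F} (hNc : CM j N) :
    ∑ ω ∈ bad X i, qop i (rep i ω) (N * slot j P.E) = 0 := by
  classical
  have hX := hG.hyp
  haveI : Nontrivial γ := ⟨⟨P.o, P.o', P.ne⟩⟩
  obtain ⟨p, hp⟩ := CharP.exists F
  haveI : Fact p.Prime := ⟨CharP.char_is_prime F p⟩
  obtain ⟨w, hw, hw0, hwc⟩ : ∃ w, ∃ _ : P.InQ w, w ≠ 0 ∧ (P.h w w = 0 ∨ 3 ≤ P.herm.q) := by
    by_cases hq : 3 ≤ P.herm.q
    · exact ⟨Pi.single P.a₀ 1, inQ_single P.a₀o P.a₀o' 1, Pi.single_ne_zero_iff.mpr one_ne_zero, Or.inr hq⟩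
    · obtain ⟨w, h0, hQ, hh⟩ := exists_iso_Q (P := P) (hX.room.resolve_right fun h => hq h.2)
      exact ⟨w, hQ, h0, Or.inl hh⟩
  set M := N * slot j P.E with hMN
  set C : Finset (Orbit X i) := Finset.univ.filter fun ω : Orbit X i => (∀ l, ¬ Eqj (rep i ω) i l) ∧ ¬ Comm (rep i ω) i j with hC
  -- classes commuting with the slot
  have hcomm : ∀ ω : Orbit X i, Comm (rep i ω) i j → qop i (rep i ω) M = 0 := by
    intro ω hω
    rw [qop_apply, ptr_eq_zero, slot_zero, map_zero]
    intro A
    rw [trace_slot_conjM, hMN]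
    set W := conjM (rep i ω) (slot i A)
    have hW : CM j W := fun B => (hω A B).symm
    have e1 : P.E = Matrix.single P.o P.o (1 : F) * P.E := by rw [E_eq, Matrix.single_mul_single_same, mul_one]
    have e2 : P.E * Matrix.single P.o P.o (1 : F) = 0 := by
      rw [E_eq, Matrix.single_mul_single_of_ne _ _ _ _ P.ne.symm]
    rw [← mul_assoc W N, e1, slot_mul, ← mul_assoc (W * N), Matrix.trace_mul_comm, ← mul_assoc,
      ((hW.mul hNc) P.E).eq, mul_assoc (W * N), ← slot_mul, e2, slot_zero, mul_zero, Matrix.trace_zero]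
  -- classes moved freely by the root group
  have hfree : ∑ ω ∈ C, qop i (rep i ω) M = 0 := by
    let K := P.Rw w hw
    letI : Fintype K := Fintype.ofFinite _
    have hKX : ∀ b : K, slotU j (b : GL γ F) ∈ X := fun b => hX.slotMem j _ (R_le (Rw_le hw b.2))
    let ρ : K →* X := ((slotHom j).comp K.subtype).codRestrict X hKX
    letI : MulAction K (Orbit X i) := MulAction.compHom _ ρ
    have hrep : ∀ (c : K) (ω : Orbit X i), ∃ k : GL (τ → γ) F, Eqj k i i ∧
        rep i (c • ω) = slotU j (c : GL γ F) * rep i ω * k := fun c ω => rep_smul i (ρ c) ω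
    refine TensorOrth.sum_zero_of_free (R := K) (fun ω => qop i (rep i ω) M) _ ?_ ?_ ?_
    · intro c ω hω
      simp only [hC, Finset.mem_filter, Finset.mem_univ, true_and] at hω ⊢
      obtain ⟨k, hk, ek⟩ := hrep c ω
      refine ⟨fun l hl => hω.1 l ?_, fun hc => hω.2 ?_⟩
      · have := (hk.inv.trans hl).trans (slotU_normal j l (c : GL γ F)).inv
        rwa [ek, mul_assoc _ k k⁻¹ |>.trans (by rw [mul_inv_cancel, mul_one]), inv_mul_cancel_left] at this
      · have := comm_left (slotU_normal j j (c : GL γ F)).inv (comm_of_normal hk.inv hc)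
        rwa [ek, mul_inv_cancel_right, inv_mul_cancel_left] at this
    · intro c ω hω hfix
      by_contra hc
      simp only [hC, Finset.mem_filter, Finset.mem_univ, true_and] at hω
      set g := rep i ω with hg
      obtain ⟨k, hk, ek⟩ := hrep c ω
      rw [hfix] at ek
      have hn : Eqj (g⁻¹ * slotU j (c : GL γ F) * g) i i := by
        have e2 : g⁻¹ * slotU j (c : GL γ F) * g = k⁻¹ := by
          calc g⁻¹ * slotU j (c : GL γ F) * g
              = g⁻¹ * (slotU j (c : GL γ F) * g * k) * k⁻¹ := by group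
            _ = k⁻¹ := by rw [← ek, inv_mul_cancel, one_mul]
        rw [e2]
        exact hk.inv
      have hcR : (c : GL γ F) ∈ P.R := Rw_le hw c.2
      rcases hG.root_cases (p := p) (ω.out : X).2 (R_le hcR) (R_pow hcR)
        (tight_R hcR fun h => hc (Subtype.ext h)) hn with h | h
      · exact hω.1 j h
      · exact hω.2 h
    · intro ω _
      have e : ∀ c : K, qop i (rep i (c • ω)) M = conjM (slotU j (c : GL γ F)) (qop i (rep i ω) M) := by
        intro c
        obtain ⟨k, hk, ek⟩ := hrep c ω
        rw [ek, qop_normal hk, qop_left]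
        suffices hfix : conjM (slotU j (c : GL γ F))⁻¹ M = M by rw [hfix]
        obtain ⟨w', l', hw', -, ec⟩ := Rw_le hw c.2
        have hcE : Commute (slot j ((c : GL γ F) : Matrix γ γ F)) (slot j P.E : Matrix (τ → γ) (τ → γ) F) := by
          show _ = _
          rw [← slot_mul, ← slot_mul, ec, add_mul, mul_add, one_mul, mul_one, (N_E hw' l').1, (N_E hw' l').2]
        have hcM : Commute (slot j ((c : GL γ F) : Matrix γ γ F)) M := (hNc _).mul_right hcE
        rw [conjM_apply, inv_inv, slotU_val, mul_assoc, ← hcM.eq, ← mul_assoc, slotU_inv, ← slot_mul, Units.inv_mul,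
          slot_one, one_mul]
      show ∑ c : K, qop i (rep i (c • ω)) M = 0
      exact (Finset.sum_congr rfl fun c _ => e c).trans (sum_conj_zero hw hw0 hwc j _)
  rw [← hfree]
  refine (Finset.sum_subset (fun ω hω => ?_) fun ω h1 h2 => ?_).symm
  · simp only [hC, mem_bad, Finset.mem_filter, Finset.mem_univ, true_and] at hω ⊢
    exact hω.1
  · simp only [hC, mem_bad, Finset.mem_filter, Finset.mem_univ, true_and, not_and, not_not] at h1 h2
    exact hcomm ω (h2 h1)

set_option maxHeartbeats 1000000 in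
/-- The central root of a slot is moved into the span of the slots. -/
theorem Good.conj_E (hG : P.Good X) {g : GL (τ → γ) F} (hg : g ∈ X) (i : τ) : InL (conjM g (slot i P.E)) := by
  classical
  have hX := hG.hyp
  haveI : Nonempty γ := ⟨P.o⟩
  haveI : Nontrivial γ := ⟨⟨P.o, P.o', P.ne⟩⟩
  letI : Fintype (Orbit X i) := Fintype.ofFinite _
  set T : Matrix (τ → γ) (τ → γ) F →ₗ[F] Matrix (τ → γ) (τ → γ) F := ∑ ω : Orbit X i, qop i (rep i ω) with hT
  have hTa : ∀ M, T M = ∑ ω : Orbit X i, qop i (rep i ω) M := fun M => by rw [hT, LinearMap.sum_apply]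
  have hTeq : ∀ x ∈ X, ∀ M, T (conjM x M) = conjM x (T M) := by
    intro x hx M
    rw [hTa, hTa, map_sum]
    refine (Equiv.sum_comp (MulAction.toPerm (⟨x, hx⟩ : X) : Equiv.Perm (Orbit X i)) _).symm.trans ?_
    refine Finset.sum_congr rfl fun ω _ => ?_
    obtain ⟨k, hk, ek⟩ := rep_smul i (⟨x, hx⟩ : X) ω
    rw [MulAction.toPerm_apply, ek, qop_normal hk, qop_left, conjM_inv_conjM]
  set B : Matrix (τ → γ) (τ → γ) F →ₗ[F] Matrix (τ → γ) (τ → γ) F := ∑ ω ∈ bad X i, qop i (rep i ω) with hB
  have hBa : ∀ M, B M = ∑ ω ∈ bad X i, qop i (rep i ω) M := fun M => by rw [hB, LinearMap.sum_apply]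
  have hBeq : ∀ (j : τ) (b : GL γ F), b ∈ P.SU → ∀ M, B (conjM (slotU j b) M) = conjM (slotU j b) (B M) := by
    intro j b hb M
    rw [hBa, hBa, map_sum]
    set e : Equiv.Perm (Orbit X i) := MulAction.toPerm (⟨slotU j b, hX.slotMem j b hb⟩ : X)
    have he : ∀ ω, (e ω ∈ bad X i ↔ ω ∈ bad X i) := fun ω => by
      obtain ⟨k, hk, ek⟩ := rep_smul i (⟨slotU j b, hX.slotMem j b hb⟩ : X) ω
      rw [mem_bad, mem_bad]
      show (∀ l, ¬ Eqj (rep i ((⟨slotU j b, hX.slotMem j b hb⟩ : X) • ω)) i l) ↔ _
      rw [ek]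
      refine ⟨fun h l hl => h l (hk.trans (hl.trans (slotU_normal j l b))), fun h l hl => h l ?_⟩
      have := (hk.inv.trans hl).trans (slotU_normal j l b).inv
      rwa [mul_inv_cancel_right, inv_mul_cancel_left] at this
    refine (Finset.sum_equiv e (fun ω => (he ω).symm) fun ω _ => ?_).symm
    obtain ⟨k, hk, ek⟩ := rep_smul i (⟨slotU j b, hX.slotMem j b hb⟩ : X) ω
    show _ = qop i (rep i ((⟨slotU j b, hX.slotMem j b hb⟩ : X) • ω)) _
    rw [ek, qop_normal hk, qop_left, conjM_inv_conjM]
  let S : τ → Submodule F (Matrix γ γ F) := fun j =>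
    { carrier := {A | ∀ N : Matrix (τ → γ) (τ → γ) F, CM j N → B (N * slot j A) = 0}
      add_mem' := fun ha hb N hN => by rw [slot_add, mul_add, map_add, ha N hN, hb N hN, add_zero]
      zero_mem' := fun N hN => by rw [slot_zero, mul_zero, map_zero]
      smul_mem' := fun c A hA N hN => by rw [slot_smul, mul_smul_comm, map_smul, hA N hN, smul_zero] }
  have hSI : ∀ j, P.Inv (S j) := fun j b hb A hA N hN => by
    have e : conjM (slotU j b) (N * slot j A) = N * slot j ((b : Matrix γ γ F) * A * (b⁻¹ : GL γ F).1) := by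
      rw [conjM_mul, conjM_slotU]
      congr 1
      rw [conjM_apply, slotU_val, (hN _).eq, mul_assoc, slotU_inv, ← slot_mul, Units.mul_inv, slot_one, mul_one]
    rw [← e, hBeq j b hb, hA N hN, map_zero]
  have hSE : ∀ j, P.E ∈ S j := fun j N hN => by rw [hBa]; exact hG.bad_E i j hN
  have hsingle : ∀ x y : τ → γ, x ≠ y → B (Matrix.single x y 1) = 0 := fun x y hxy => by
    obtain ⟨j, hj⟩ := Function.ne_iff.mp hxy
    rw [single_eq_slot j x y]
    exact (inv_offdiag (hSI j) (hSE j)).1 _ _ hj _ (cm_onSet (Finset.notMem_erase j _) _)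
  have hdiag : ∀ x : τ → γ, B (Matrix.single x x 1) = B (Matrix.single (fun _ => P.o) (fun _ => P.o) 1) := by
    have hstep : ∀ (x : τ → γ) (j : τ),
        B (Matrix.single x x 1) = B (Matrix.single (Function.update x j P.o) (Function.update x j P.o) 1) := by
      intro x j
      have hc := cm_onSet (i := j) (Finset.notMem_erase j Finset.univ)
        (fun l => Matrix.single (x l) (x l) (1 : F))
      have h1 := inv_diag (hSI j) (hSE j) (x j) _ hc
      rw [slot_sub, mul_sub, map_sub, sub_eq_zero] at h1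
      rw [single_eq_slot j x x, h1, single_eq_slot j (Function.update x j P.o), Function.update_self]
      congr 2
      exact onSet_congr fun l hl => by rw [Function.update_of_ne (Finset.ne_of_mem_erase hl)]
    intro x
    have key : ∀ s : Finset τ, B (Matrix.single x x 1) =
        B (Matrix.single (fun l => if l ∈ s then P.o else x l) (fun l => if l ∈ s then P.o else x l) 1) := by
      intro s
      induction s using Finset.induction_on with
      | empty => simp
      | insert a s ha ih =>
        rw [ih, hstep _ a]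
        have e : Function.update (fun l => if l ∈ s then P.o else x l) a P.o =
            fun l => if l ∈ insert a s then P.o else x l := by
          funext l
          by_cases h : l = a
          · subst h; simp
          · simp [h]
        rw [e]
    simpa using key Finset.univ
  set x : τ → γ := Function.update (fun _ => P.o) i P.o with hx
  set y : τ → γ := Function.update (fun _ => P.o) i P.o' with hy
  set M : Matrix (τ → γ) (τ → γ) F := Matrix.single x y 1 with hM
  have hxy : x ≠ y := fun e => P.ne (by simpa [x, y] using congrFun e i)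
  have htr : (conjM g M).trace = 0 := by
    rw [conjM_apply, Matrix.trace_mul_comm, ← mul_assoc, Units.inv_mul, one_mul, hM, Matrix.trace_single_eq_of_ne _ _ _ hxy]
  have hBg : B (conjM g M) = 0 := by
    set M' := conjM g M
    conv_lhs => rw [matrix_eq_sum_single M']
    simp only [map_sum]
    have e : ∀ a b, B (Matrix.single a b (M' a b)) =
        if a = b then M' a b • B (Matrix.single (fun _ => P.o) (fun _ => P.o) 1) else 0 := fun a b => by
      rw [show Matrix.single a b (M' a b) = M' a b • Matrix.single a b (1 : F) by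
        rw [Matrix.smul_single, smul_eq_mul, mul_one], map_smul]
      split_ifs with h
      · subst h; rw [hdiag]
      · rw [hsingle a b h, smul_zero]
    simp only [e, Finset.sum_ite_eq, Finset.mem_univ, if_true, ← Finset.sum_smul]
    rw [show ∑ a, M' a a = M'.trace from rfl, htr, zero_smul]
  have hBM : B M = 0 := hsingle x y hxy
  have hTS : ∀ M, T M = B M + ∑ ω ∈ (bad X i)ᶜ, qop i (rep i ω) M := fun M => by
    rw [hTa, hBa, Finset.sum_add_sum_compl]
  have hTL : InL (T (conjM g M)) := by
    rw [hTS, hBg, zero_add]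
    refine InL.sum _ fun ω hω => ?_
    rw [Finset.mem_compl, mem_bad, not_forall_not] at hω
    obtain ⟨l, hl⟩ := hω
    obtain ⟨A, hA⟩ := hl (ptr i (conjM (rep i ω)⁻¹ (conjM g M)))
    rw [qop_apply, hA]
    exact InL.slot l A
  have hbase : T M = slot i P.E := by
    rw [hTS, hBM, zero_add]
    have hb : ∃ k, Eqj k i i ∧ rep i (QuotientGroup.mk (1 : X) : Orbit X i) = k := by
      obtain ⟨k, hk, e⟩ := rep_mk i (1 : X)
      exact ⟨k, hk, by rw [e, Subgroup.coe_one, one_mul]⟩
    obtain ⟨k, hk, ek⟩ := hb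
    have h0 : qop i (rep i (QuotientGroup.mk (1 : X) : Orbit X i)) M = slot i P.E := by
      rw [ek, ← one_mul k, qop_normal hk, qop_apply, inv_one, conjM_id, conjM_id, hM, ptr_single, if_pos]
      · simp [hx, hy, E_eq]
      · intro l hl; simp [hx, hy, hl]
    rw [← h0]
    refine Finset.sum_eq_single _ (fun ω hω hne => ?_) (fun h => absurd ?_ h)
    · rw [Finset.mem_compl, mem_bad, not_forall_not] at hω
      obtain ⟨l, hl⟩ := hω
      have hli : l ≠ i := by
        intro e
        rw [e] at hl
        refine hne ?_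
        rw [← QuotientGroup.out_eq' ω]
        refine (QuotientGroup.eq.mpr ?_)
        show Eqj (((ω.out)⁻¹ * 1 : X) : GL (τ → γ) F) i i
        rw [mul_one]
        exact Eqj.inv hl
      rw [qop_apply, ptr_eq_zero, slot_zero, map_zero]
      intro A
      obtain ⟨A', hA⟩ := hl A
      rw [trace_slot_conjM, hA, trace_slot_mul, hM, ptr_single, if_neg, mul_zero, Matrix.trace_zero]
      exact fun h => P.ne (by simpa [hx, hy] using h i hli.symm)
    · rw [Finset.mem_compl, mem_bad, not_forall_not]
      exact ⟨i, ek ▸ hk⟩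
  rw [← hbase, ← hTeq g hg]
  exact hTL

/-- With scalar centres, every element permutes the slots. -/
theorem Good.permutes_slots [Nonempty τ] (hG : P.Good X) {g : GL (τ → γ) F} (hg : g ∈ X) (i : τ) :
    ∃ j, Eqj g i j := by
  haveI : Nonempty γ := ⟨P.o⟩
  let S : Submodule F (Matrix γ γ F) :=
    { carrier := {A | ∀ x ∈ X, InL (conjM x (slot i A))}
      add_mem' := fun ha hb x hx => by rw [slot_add, map_add]; exact InL.add (ha x hx) (hb x hx)
      zero_mem' := fun x hx => by rw [slot_zero, map_zero]; exact InL.zero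
      smul_mem' := fun c A hA x hx => by rw [slot_smul, map_smul]; exact InL.smul c (hA x hx) }
  have hS : P.Inv S := fun b hb A hA x hx => by
    rw [← conjM_slotU, conjM_conjM]
    exact hA _ (mul_mem hx (hG.hyp.slotMem i b hb))
  have hE : P.E ∈ S := fun x hx => hG.conj_E hx i
  exact TensorPowLin.permutes (three_le_card P) g i fun a b hab => (inv_offdiag hS hE).1 a b hab g hg

end Pol

end Cfsg.Lib.Classical.TensorPowU
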