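import Cfsg.Agent.Classical.TensorPowU.Centre

/-!
# Blocks relative to one slot; stabilisers of layers when all centres are scalar
-/

set_option autoImplicit false
set_option linter.unusedSectionVars false
set_option linter.unusedSimpArgs false
set_option linter.unusedVariables false
set_option linter.style.haveILetI false

namespace Cfsg.Lib.Classical.TensorPowU

open Matrix Finset
open scoped MatrixGroups
open Cfsg.Lib.Classical.TensorPowLin (slot slot_mul slot_one slot_add slot_sub slot_smul slot_zero slot_neg slot_sum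
  slot_comm slot_injective In conjM conjM_apply comm_slot_of_single Eqj eq_scalar_of_comm)

universe u

variable {τ γ : Type} [Fintype τ] [DecidableEq τ] [Fintype γ] [DecidableEq γ] {F : Type u} [Field F]

/-- The block of a matrix at a pair of values of slot `i`, as an operator commuting with that slot. -/
def blk (i : τ) (g : Matrix (τ → γ) (τ → γ) F) (a b : γ) : Matrix (τ → γ) (τ → γ) F :=
  ∑ c, slot i (Matrix.single c a (1 : F)) * g * slot i (Matrix.single b c (1 : F))

theorem cm_blk (i : τ) (g : Matrix (τ → γ) (τ → γ) F) (a b : γ) : CM i (blk i g a b) := by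
  intro A
  refine comm_slot_of_single (fun p q => ?_) A
  show _ = _
  rw [blk, Finset.mul_sum, Finset.sum_mul, Finset.sum_eq_single q, Finset.sum_eq_single p]
  · rw [mul_assoc _ (slot i (Matrix.single b p (1 : F))), ← slot_mul, Matrix.single_mul_single_same, mul_one,
      ← mul_assoc, ← mul_assoc, ← slot_mul, Matrix.single_mul_single_same, mul_one]
  · intro c _ hc
    rw [mul_assoc, ← slot_mul, Matrix.single_mul_single_of_ne _ _ _ _ hc, slot_zero, mul_zero]
  · simp
  · intro c _ hc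
    rw [← mul_assoc, ← mul_assoc, ← slot_mul, Matrix.single_mul_single_of_ne _ _ _ _ (Ne.symm hc), slot_zero,
      zero_mul, zero_mul]
  · simp

theorem sum_slot_diag (i : τ) : ∑ a : γ, slot i (Matrix.single a a (1 : F)) = (1 : Matrix (τ → γ) (τ → γ) F) := by
  rw [← slot_sum, Matrix.sum_single_eq_diagonal, Matrix.diagonal_one, slot_one]

theorem eq_sum_blk (i : τ) (g : Matrix (τ → γ) (τ → γ) F) :
    g = ∑ a, ∑ b, blk i g a b * slot i (Matrix.single a b (1 : F)) := by
  have e : ∀ a b, blk i g a b * slot i (Matrix.single a b (1 : F)) =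
      slot i (Matrix.single a a (1 : F)) * g * slot i (Matrix.single b b (1 : F)) := fun a b => by
    rw [blk, Finset.sum_mul, Finset.sum_eq_single a]
    · rw [mul_assoc, ← slot_mul, Matrix.single_mul_single_same, mul_one]
    · intro c _ hc
      rw [mul_assoc, ← slot_mul, Matrix.single_mul_single_of_ne _ _ _ _ hc, slot_zero, mul_zero]
    · simp
  simp only [e, ← Finset.mul_sum, ← Finset.sum_mul, sum_slot_diag, mul_one, one_mul]

theorem blk_ext {i : τ} {g h : Matrix (τ → γ) (τ → γ) F} (e : ∀ a b, blk i g a b = blk i h a b) : g = h := by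
  rw [eq_sum_blk i g, eq_sum_blk i h]
  simp only [e]

theorem blk_add (i : τ) (g h : Matrix (τ → γ) (τ → γ) F) (a b : γ) : blk i (g + h) a b = blk i g a b + blk i h a b := by
  simp only [blk, mul_add, add_mul, Finset.sum_add_distrib]

theorem blk_sum {ρ : Type*} (i : τ) (s : Finset ρ) (f : ρ → Matrix (τ → γ) (τ → γ) F) (a b : γ) :
    blk i (∑ r ∈ s, f r) a b = ∑ r ∈ s, blk i (f r) a b := by
  simp only [blk, Finset.mul_sum, Finset.sum_mul]
  exact Finset.sum_comm

theorem blk_smul (i : τ) (x : F) (M : Matrix (τ → γ) (τ → γ) F) (a b : γ) : blk i (x • M) a b = x • blk i M a b := by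
  simp only [blk, mul_smul_comm, smul_mul_assoc, Finset.smul_sum]

theorem blk_mul (i : τ) (g h : Matrix (τ → γ) (τ → γ) F) (a c : γ) :
    blk i (g * h) a c = ∑ b, blk i g a b * blk i h b c := by
  have e : ∀ b, blk i g a b * blk i h b c = ∑ d, slot i (Matrix.single d a (1 : F)) * g *
      slot i (Matrix.single b b (1 : F)) * h * slot i (Matrix.single c d (1 : F)) := fun b => by
    rw [blk, blk, Finset.sum_mul]
    refine Finset.sum_congr rfl fun d _ => ?_
    rw [Finset.mul_sum, Finset.sum_eq_single d]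
    · rw [← mul_assoc, ← mul_assoc, mul_assoc (slot i (Matrix.single d a (1 : F)) * g) (slot i (Matrix.single b d (1 : F))),
        ← slot_mul, Matrix.single_mul_single_same, mul_one]
    · intro d' _ hd
      rw [mul_assoc (_ * g), ← mul_assoc (slot i (Matrix.single b d (1 : F))), ← mul_assoc (slot i _) _ h, ← slot_mul,
        Matrix.single_mul_single_of_ne _ _ _ _ (Ne.symm hd), slot_zero, zero_mul, zero_mul, mul_zero]
    · simp
  rw [Finset.sum_congr rfl fun b _ => e b, Finset.sum_comm, blk]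
  refine Finset.sum_congr rfl fun d _ => ?_
  rw [← Finset.sum_mul, ← Finset.sum_mul, ← Finset.mul_sum, sum_slot_diag, mul_one, mul_assoc (slot i _) g h]

theorem blk_cm_mul_slot {i : τ} {M : Matrix (τ → γ) (τ → γ) F} (hM : CM i M) (A : Matrix γ γ F) (a b : γ) :
    blk i (M * slot i A) a b = A a b • M := by
  have e : ∀ c, slot i (Matrix.single c a (1 : F)) * (M * slot i A) * slot i (Matrix.single b c (1 : F)) =
      A a b • (M * slot i (Matrix.single c c (1 : F))) := fun c => by
    rw [← mul_assoc, (hM _).eq, mul_assoc M, mul_assoc M, ← slot_mul, ← slot_mul, ← mul_smul_comm, ← slot_smul]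
    congr 2
    rw [Matrix.single_mul_mul_single, one_mul, mul_one, Matrix.smul_single, smul_eq_mul, mul_one]
  rw [blk, Finset.sum_congr rfl fun c _ => e c, ← Finset.smul_sum, ← Finset.mul_sum, sum_slot_diag, mul_one]

theorem blk_slot (i : τ) (A : Matrix γ γ F) (a b : γ) :
    blk i (slot i A : Matrix (τ → γ) (τ → γ) F) a b = A a b • 1 := by
  rw [← one_mul (slot i A), blk_cm_mul_slot CM.one]

theorem blk_one (i : τ) (a b : γ) :
    blk i (1 : Matrix (τ → γ) (τ → γ) F) a b = if a = b then 1 else 0 := by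
  rw [← slot_one (τ := τ) (F := F) (γ := γ) i, blk_slot, Matrix.one_apply, slot_one]
  split <;> simp

theorem blk_conj_single (i : τ) (g h : Matrix (τ → γ) (τ → γ) F) (p q a b : γ) :
    blk i (g * slot i (Matrix.single p q (1 : F)) * h) a b = blk i g a p * blk i h q b := by
  rw [blk_mul, Finset.sum_eq_single q]
  · rw [blk_mul, Finset.sum_eq_single p]
    · rw [blk_slot, Matrix.single_apply_same, one_smul, mul_one]
    · intro c _ hc
      rw [blk_slot, Matrix.single_apply_of_ne _ _ _ _ _ (fun e => hc e.1.symm), zero_smul, mul_zero]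
    · simp
  · intro c _ hc
    rw [blk_mul, Finset.sum_eq_zero, zero_mul]
    intro d _
    rw [blk_slot, Matrix.single_apply_of_ne _ _ _ _ _ (fun e => hc e.2.symm), zero_smul, mul_zero]
  · simp

namespace Pol

variable {P : Pol γ F} {X : Subgroup (GL (τ → γ) F)}

theorem blk_dag (i : τ) (g : Matrix (τ → γ) (τ → γ) F) (a b : γ) :
    blk i (P.dag g) a b = P.dag (blk i g (P.nu b) (P.nu a)) := by
  rw [blk, blk, show P.dag (∑ c, slot i (Matrix.single c (P.nu b) (1 : F)) * g *
      slot i (Matrix.single (P.nu a) c (1 : F))) = ∑ c, P.dag (slot i (Matrix.single c (P.nu b) (1 : F)) * g *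
      slot i (Matrix.single (P.nu a) c (1 : F))) from adj_sum _ _, ← Equiv.sum_comp P.nu]
  refine Finset.sum_congr rfl fun c _ => ?_
  rw [P.dag_mul, P.dag_mul, P.dag_slot, P.dag_slot, adjoint, adjoint, adj_single P.nu_nu, adj_single P.nu_nu,
    P.nu_nu, P.nu_nu, map_one, mul_assoc]

/-- All centres are scalar. -/
structure Good (P : Pol γ F) (X : Subgroup (GL (τ → γ) F)) : Prop where
  hyp : P.Hyp X
  scal : ∀ i, P.CScal X i

variable [Finite F]

set_option maxHeartbeats 1000000 in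
/-- Conjugates of root elements by an element stabilising the layer of `eo`. -/
theorem Good.stab_key
    (hG : P.Good X) {i : τ} {g : GL (τ → γ) F} (hg : g ∈ X)
    (hcol : ∀ a, a ≠ P.o → blk i (g : Matrix (τ → γ) (τ → γ) F) a P.o = 0) :
    ∀ a ∈ P.Q, ∀ c : F, (∀ k ∈ P.Q, ∃ s : F, c • (blk i (g : Matrix (τ → γ) (τ → γ) F) k a *
      P.dag (blk i (g : Matrix (τ → γ) (τ → γ) F) P.o P.o)) = s • 1) ∧
      ∃ l s : F, c • (blk i (g : Matrix (τ → γ) (τ → γ) F) P.o a * P.dag (blk i (g : Matrix (τ → γ) (τ → γ) F) P.o P.o)) -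
        P.σ c • (blk i (g : Matrix (τ → γ) (τ → γ) F) P.o P.o * P.dag (blk i (g : Matrix (τ → γ) (τ → γ) F) P.o a)) +
        l • (blk i (g : Matrix (τ → γ) (τ → γ) F) P.o P.o * P.dag (blk i (g : Matrix (τ → γ) (τ → γ) F) P.o P.o)) =
        s • 1 := by
  classical
  have hX := hG.hyp
  haveI : Nonempty γ := ⟨P.o⟩
  set G : Matrix (τ → γ) (τ → γ) F := (g : Matrix (τ → γ) (τ → γ) F) with hGdef
  set H : Matrix (τ → γ) (τ → γ) F := ((g⁻¹ : GL (τ → γ) F) : Matrix (τ → γ) (τ → γ) F) with hHdef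
  have hH : H = P.dag G := hX.inv_eq hg
  have hHb : ∀ a b, blk i H a b = P.dag (blk i G (P.nu b) (P.nu a)) := fun a b => by rw [hH, blk_dag]
  have hHG : H * G = 1 := by rw [hHdef, hGdef, Units.inv_mul]
  have hGH : G * H = 1 := by rw [hHdef, hGdef, Units.mul_inv]
  have hcm := fun a b => cm_blk i G a b
  set A := blk i G P.o P.o with hA
  set A' := blk i H P.o P.o with hA'
  set B := blk i G P.o' P.o' with hB
  have hA'B : A' = P.dag B := by rw [hA', hHb, P.nu_o]
  have hA'A : A' * A = 1 := by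
    have := congrArg (fun M => blk i M P.o P.o) hHG
    rwa [blk_mul, Finset.sum_eq_single P.o (fun b _ hb => by rw [hcol b hb, mul_zero]) (by simp), blk_one,
      if_pos rfl] at this
  have hAA' : A * A' = 1 := mul_eq_one_comm.mp hA'A
  have hcolH : ∀ a, a ≠ P.o → blk i H a P.o = 0 := fun a ha => by
    have := congrArg (fun M => blk i M a P.o) hHG
    rw [blk_mul, Finset.sum_eq_single P.o (fun b _ hb => by rw [hcol b hb, mul_zero]) (by simp), blk_one,
      if_neg ha] at this
    calc blk i H a P.o = blk i H a P.o * A * A' := by rw [mul_assoc, hAA', mul_one]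
      _ = 0 := by rw [this, zero_mul]
  have hrow : ∀ b, b ≠ P.o' → blk i G P.o' b = 0 := fun b hb => by
    have := hcolH (P.nu b) (fun e => hb (by rw [← P.nu_nu b, e, P.nu_o]))
    rw [hHb, P.nu_nu, P.nu_o] at this
    rw [← P.dag_dag (blk i G P.o' b), this, P.dag_zero]
  have hrowH : ∀ m, m ≠ P.o' → blk i H P.o' m = 0 := fun m hm => by
    rw [hHb, P.nu_o', hcol _ (fun e => hm (by rw [← P.nu_nu m, e, P.nu_o])), P.dag_zero]
  have hHoo : blk i H P.o' P.o' = P.dag A := by rw [hHb, P.nu_o']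
  intro a ha c
  obtain ⟨hao, hao'⟩ := mem_Q.mp ha
  set w : γ → F := c • Pi.single a 1 with hw
  have hwQ : P.InQ w := by constructor <;> simp [hw, Ne.symm hao, Ne.symm hao']
  obtain ⟨l, hl⟩ := exists_l (P := P) w
  obtain ⟨rt, hr, er⟩ := slot_root_in hX i hwQ hl
  set T := G * P.U i w 1 (l • 1) * H with hT
  have hU : P.U i w 1 (l • 1) = c • slot i (Matrix.single a P.o' (1 : F)) -
      P.σ c • slot i (Matrix.single P.o a (1 : F)) + l • slot i (Matrix.single P.o P.o' (1 : F)) := by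
    rw [U, P.dag_one, one_mul, one_mul, smul_one_mul, E_eq, hw, r_smul_right, r_smul_left, slot_smul, slot_smul,
      eo, r, r, rk_single P.nu_nu, rk_single P.nu_nu, P.nu_o, P.nu_of hao hao']
  have hTb : ∀ k m, blk i T k m = c • (blk i G k a * blk i H P.o' m) - P.σ c • (blk i G k P.o * blk i H a m) +
      l • (blk i G k P.o * blk i H P.o' m) := fun k m => by
    rw [hT, hU, mul_add, add_mul, mul_sub, sub_mul, mul_smul_comm, mul_smul_comm, mul_smul_comm, smul_mul_assoc,
      smul_mul_assoc, smul_mul_assoc, blk_add, sub_eq_add_neg, blk_add, ← neg_smul]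
    rw [blk_smul, blk_smul, blk_smul, blk_conj_single, blk_conj_single, blk_conj_single, neg_smul, ← sub_eq_add_neg]
  set Y : γ → Matrix (τ → γ) (τ → γ) F := fun k => c • (blk i G k a * P.dag A) with hY
  set C := blk i T P.o P.o' with hC
  have hYc : ∀ k, CM i (Y k) := fun k => ((hcm k a).mul (P.cm_dag (hcm _ _))).smul c
  have hin : In X (P.GU' i Y C) := by
    refine ⟨g * rt * g⁻¹, mul_mem (mul_mem hg hr) (inv_mem hg), ?_⟩
    rw [Units.val_mul, Units.val_mul, er, mul_add, mul_one, add_mul, ← hGdef, ← hHdef, hGH, ← hT]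
    congr 1
    refine blk_ext (i := i) fun k m => ?_
    have hUb : ∀ b ∈ P.Q, blk i (P.U i (Pi.single b 1) (Y b) 0) k m =
        (if k = b ∧ m = P.o' then Y b else 0) - (if k = P.o ∧ m = b then P.dag (Y b) else 0) := by
      intro b hb
      rw [U, zero_mul, add_zero, sub_eq_add_neg, blk_add, ← neg_mul, blk_cm_mul_slot (hYc b),
        blk_cm_mul_slot (P.cm_dag (hYc b)).neg, eo, r, r, rk_single P.nu_nu, rk_single P.nu_nu, P.nu_o,
        P.nu_of (mem_Q.mp hb).1 (mem_Q.mp hb).2, sub_eq_add_neg]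
      congr 1
      · by_cases h : k = b ∧ m = P.o'
        · rw [if_pos h, h.1, h.2, Matrix.single_apply_same, one_smul]
        · rw [if_neg h, Matrix.single_apply_of_ne _ _ _ _ _ (fun e => h ⟨e.1.symm, e.2.symm⟩), zero_smul]
      · by_cases h : k = P.o ∧ m = b
        · rw [if_pos h, h.1, h.2, Matrix.single_apply_same, one_smul]
        · rw [if_neg h, Matrix.single_apply_of_ne _ _ _ _ _ (fun e => h ⟨e.1.symm, e.2.symm⟩), zero_smul, neg_zero]
    rw [GU', blk_add, blk_sum, Finset.sum_congr rfl hUb, blk_cm_mul_slot (cm_blk i T P.o P.o'), Finset.sum_sub_distrib,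
      E_eq]
    by_cases hm : m = P.o'
    · subst hm
      rw [Finset.sum_eq_zero (s := P.Q) (f := fun b => if k = P.o ∧ P.o' = b then P.dag (Y b) else 0)
        (fun b hb => if_neg fun e => (mem_Q.mp hb).2 e.2.symm), sub_zero]
      by_cases hk : k = P.o
      · subst hk
        rw [Finset.sum_eq_zero (fun b hb => if_neg fun e => (mem_Q.mp hb).1 e.1.symm), zero_add,
          Matrix.single_apply_same, one_smul]
      rw [Matrix.single_apply_of_ne _ _ _ _ _ (fun e => hk e.1.symm), zero_smul, add_zero, hTb, hcol k hk, zero_mul,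
        zero_mul, smul_zero, smul_zero, sub_zero, add_zero, hHoo]
      by_cases hk' : k = P.o'
      · subst hk'
        rw [hrow a hao', zero_mul, smul_zero]
        exact (Finset.sum_eq_zero fun b hb => if_neg fun e => (mem_Q.mp hb).2 e.1.symm).symm
      · rw [Finset.sum_eq_single k (fun b _ hb => if_neg fun e => hb e.1.symm)
          (fun h => absurd (mem_Q.mpr ⟨hk, hk'⟩) h), if_pos ⟨rfl, rfl⟩]
    rw [Finset.sum_eq_zero (s := P.Q) (f := fun b => if k = b ∧ m = P.o' then Y b else 0)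
      (fun b hb => if_neg fun e => hm e.2), zero_sub,
      Matrix.single_apply_of_ne _ _ _ _ _ (fun e => hm e.2.symm), zero_smul, add_zero, hTb, hrowH m hm, mul_zero,
      mul_zero, smul_zero, smul_zero, add_zero, zero_sub, neg_inj]
    by_cases hk : k = P.o
    · subst hk
      by_cases hm' : m = P.o
      · subst hm'
        rw [hcolH a hao, mul_zero, smul_zero]
        exact (Finset.sum_eq_zero fun b hb => if_neg fun e => (mem_Q.mp hb).1 e.2.symm).symm
      rw [Finset.sum_eq_single m (fun b _ hb => if_neg fun e => hb e.2.symm)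
        (fun h => absurd (mem_Q.mpr ⟨hm', hm⟩) h), if_pos ⟨rfl, rfl⟩]
      simp only [hY, P.dag_smul, P.dag_mul, P.dag_dag, hHb, P.nu_of hao hao', P.nu_of hm' hm, hA]
    · rw [hcol k hk, zero_mul, smul_zero]
      exact (Finset.sum_eq_zero fun b hb => if_neg fun e => hk e.1).symm
  obtain ⟨h1, s, h2⟩ := scal_general hX (hG.scal i) hYc (cm_blk i T P.o P.o') hin
  refine ⟨h1, l, s, ?_⟩
  rw [← h2, hTb, hHoo, hHb a P.o', P.nu_o', P.nu_of hao hao', hA]

set_option maxHeartbeats 1000000 in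
/-- All blocks but one of an element stabilising the layer of `eo` are proportional. -/
theorem Good.stab_blocks
    (hG : P.Good X) {i : τ} {g : GL (τ → γ) F} (hg : g ∈ X)
    (hcol : ∀ a, a ≠ P.o → blk i (g : Matrix (τ → γ) (τ → γ) F) a P.o = 0) :
    ∃ κ : F, κ ≠ 0 ∧ P.σ κ = κ ∧
      P.dag (blk i (g : Matrix (τ → γ) (τ → γ) F) P.o P.o) * blk i (g : Matrix (τ → γ) (τ → γ) F) P.o P.o = κ • 1 ∧
      blk i (g : Matrix (τ → γ) (τ → γ) F) P.o' P.o' = κ⁻¹ • blk i (g : Matrix (τ → γ) (τ → γ) F) P.o P.o ∧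
      ∀ k m, ¬(k = P.o ∧ m = P.o') → ∃ s : F, blk i (g : Matrix (τ → γ) (τ → γ) F) k m =
        s • blk i (g : Matrix (τ → γ) (τ → γ) F) P.o P.o := by
  classical
  have hX := hG.hyp
  haveI : Nonempty γ := ⟨P.o⟩
  set G : Matrix (τ → γ) (τ → γ) F := (g : Matrix (τ → γ) (τ → γ) F) with hGdef
  set H : Matrix (τ → γ) (τ → γ) F := ((g⁻¹ : GL (τ → γ) F) : Matrix (τ → γ) (τ → γ) F) with hHdef
  have hH : H = P.dag G := hX.inv_eq hg
  have hHb : ∀ a b, blk i H a b = P.dag (blk i G (P.nu b) (P.nu a)) := fun a b => by rw [hH, blk_dag]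
  have hHG : H * G = 1 := by rw [hHdef, hGdef, Units.inv_mul]
  have hGH : G * H = 1 := by rw [hHdef, hGdef, Units.mul_inv]
  have hcm := fun a b => cm_blk i G a b
  set A := blk i G P.o P.o with hA
  set A' := blk i H P.o P.o with hA'
  set B := blk i G P.o' P.o' with hB
  have hA'B : A' = P.dag B := by rw [hA', hHb, P.nu_o]
  have hA'A : A' * A = 1 := by
    have := congrArg (fun M => blk i M P.o P.o) hHG
    rwa [blk_mul, Finset.sum_eq_single P.o (fun b _ hb => by rw [hcol b hb, mul_zero]) (by simp), blk_one,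
      if_pos rfl] at this
  have hAA' : A * A' = 1 := mul_eq_one_comm.mp hA'A
  have hcolH : ∀ a, a ≠ P.o → blk i H a P.o = 0 := fun a ha => by
    have := congrArg (fun M => blk i M a P.o) hHG
    rw [blk_mul, Finset.sum_eq_single P.o (fun b _ hb => by rw [hcol b hb, mul_zero]) (by simp), blk_one,
      if_neg ha] at this
    calc blk i H a P.o = blk i H a P.o * A * A' := by rw [mul_assoc, hAA', mul_one]
      _ = 0 := by rw [this, zero_mul]
  have hrow : ∀ b, b ≠ P.o' → blk i G P.o' b = 0 := fun b hb => by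
    have := hcolH (P.nu b) (fun e => hb (by rw [← P.nu_nu b, e, P.nu_o]))
    rw [hHb, P.nu_nu, P.nu_o] at this
    rw [← P.dag_dag (blk i G P.o' b), this, P.dag_zero]
  have hrowH : ∀ m, m ≠ P.o' → blk i H P.o' m = 0 := fun m hm => by
    rw [hHb, P.nu_o', hcol _ (fun e => hm (by rw [← P.nu_nu m, e, P.nu_o])), P.dag_zero]
  have hHoo : blk i H P.o' P.o' = P.dag A := by rw [hHb, P.nu_o']
  have key := hG.stab_key hg hcol
  have hone : ∀ k ∈ P.Q, ∀ a ∈ P.Q, ∃ s : F, blk i G k a * P.dag A = s • 1 := fun k hk a ha => by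
    obtain ⟨s, hs⟩ := (key a ha 1).1 k hk
    exact ⟨s, by rw [← hs, one_smul]⟩
  have hBA : B * P.dag A = 1 := by
    have := congrArg (fun M => blk i M P.o' P.o') hGH
    rwa [blk_mul, Finset.sum_eq_single P.o' (fun b _ hb => by rw [hrow b hb, zero_mul]) (by simp), hHoo, blk_one,
      if_pos rfl] at this
  have hAB : P.dag A * B = 1 := mul_eq_one_comm.mp hBA
  choose! β hβ using hone
  have hGka : ∀ k ∈ P.Q, ∀ a ∈ P.Q, blk i G k a = β k a • B := fun k hk a ha => by
    rw [← mul_one (blk i G k a), ← hAB, ← mul_assoc, hβ k hk a ha, smul_one_mul]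
  have ha₀ : P.a₀ ∈ P.Q := mem_Q.mpr ⟨P.a₀o, P.a₀o'⟩
  have hS : (∑ k ∈ P.Q, P.σ (β k P.a₀) * β k P.a₀) • (P.dag B * B) = 1 := by
    have := congrArg (fun M => blk i M P.a₀ P.a₀) hHG
    rw [blk_mul, blk_one, if_pos rfl] at this
    rw [Finset.sum_smul, ← this, ← Finset.sum_subset (Finset.subset_univ P.Q)]
    · refine Finset.sum_congr rfl fun k hk => ?_
      rw [hHb, P.nu_of P.a₀o P.a₀o', P.nu_of (mem_Q.mp hk).1 (mem_Q.mp hk).2, hGka k hk P.a₀ ha₀, P.dag_smul,
        smul_mul_smul_comm]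
    · intro k _ hk
      rw [mem_Q, not_and_or, not_not, not_not] at hk
      rcases hk with rfl | rfl
      · rw [hHb, P.nu_o, P.nu_of P.a₀o P.a₀o', hrow P.a₀ P.a₀o', P.dag_zero, zero_mul]
      · rw [hrow P.a₀ P.a₀o', mul_zero]
  set κ := ∑ k ∈ P.Q, P.σ (β k P.a₀) * β k P.a₀ with hκ
  have hκ0 : κ ≠ 0 := fun h => by
    rw [h, zero_smul] at hS
    have h1 := congrFun (congrFun hS fun _ => P.o) fun _ => P.o
    rw [Matrix.zero_apply, Matrix.one_apply_eq] at h1
    exact zero_ne_one h1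
  have hBA2 : B = κ⁻¹ • A := by
    have h1 : P.dag B * B = κ⁻¹ • 1 := by rw [← hS, smul_smul, inv_mul_cancel₀ hκ0, one_smul]
    calc B = A * (P.dag B * B) := by rw [← mul_assoc, ← hA'B, hAA', one_mul]
      _ = _ := by rw [h1, mul_smul_comm, mul_one]
  have hμ : A * P.dag A = κ • 1 := by
    have := hBA
    rw [hBA2, smul_mul_assoc] at this
    rw [← this, smul_smul, mul_inv_cancel₀ hκ0, one_smul]
  have hμ' : P.dag A * A = κ • 1 := by
    have := hAB
    rw [hBA2, mul_smul_comm] at this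
    rw [← this, smul_smul, mul_inv_cancel₀ hκ0, one_smul]
  -- the first row is proportional to `A`
  have hrowA : ∀ a ∈ P.Q, ∃ s : F, blk i G P.o a = s • A := by
    intro a ha
    obtain ⟨θ, hθ⟩ := P.conj.ne_id
    obtain ⟨l₁, s₁, h1⟩ := (key a ha 1).2
    obtain ⟨l₂, s₂, h2⟩ := (key a ha θ).2
    rw [hμ, map_one, one_smul, one_smul] at h1
    rw [hμ] at h2
    have h3 : blk i G P.o a * P.dag A = (((θ - P.σ θ)⁻¹ * (s₂ - l₂ * κ - P.σ θ * (s₁ - l₁ * κ))) • 1 :
        Matrix (τ → γ) (τ → γ) F) := by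
      rw [mul_smul, eq_inv_smul_iff₀ (sub_ne_zero.mpr (Ne.symm hθ))]
      linear_combination (norm := module) h2 - P.σ θ • h1
    refine ⟨κ⁻¹ * ((θ - P.σ θ)⁻¹ * (s₂ - l₂ * κ - P.σ θ * (s₁ - l₁ * κ))), ?_⟩
    calc blk i G P.o a = κ⁻¹ • (blk i G P.o a * (P.dag A * A)) := by
          rw [hμ', mul_smul_comm, mul_one, smul_smul, inv_mul_cancel₀ hκ0, one_smul]
      _ = _ := by rw [← mul_assoc, h3, smul_one_mul, smul_smul]
  -- the last column is proportional to `A` by the same argument for the inverse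
  have hcolA : ∀ k ∈ P.Q, ∃ s : F, blk i G k P.o' = s • A := by
    intro k hk
    obtain ⟨θ, hθ⟩ := P.conj.ne_id
    obtain ⟨hko, hko'⟩ := mem_Q.mp hk
    have hHG0 : ∑ b, blk i G k b * blk i H b P.o' = 0 := by
      rw [← blk_mul, hGH, blk_one, if_neg hko']
    choose! s hs using hrowA
    rw [← Finset.sum_subset (Finset.subset_univ (insert P.o' P.Q)) (fun b _ hb => ?_)] at hHG0
    swap
    · rw [Finset.mem_insert, mem_Q, not_or, not_and_or, not_not, not_not] at hb
      rcases hb.2 with rfl | e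
      · rw [hcol k hko, zero_mul]
      · exact absurd e hb.1
    rw [Finset.sum_insert (fun h => (mem_Q.mp h).2 rfl), hHoo] at hHG0
    refine ⟨-(κ⁻¹ * ∑ b ∈ P.Q, β k b * P.σ (s b)), ?_⟩
    have h5 : ∑ b ∈ P.Q, blk i G k b * blk i H b P.o' = (∑ b ∈ P.Q, β k b * P.σ (s b)) • (1 : Matrix (τ → γ) (τ → γ) F) := by
      rw [Finset.sum_smul]
      refine Finset.sum_congr rfl fun b hb => ?_
      rw [hHb, P.nu_o', P.nu_of (mem_Q.mp hb).1 (mem_Q.mp hb).2, hs b hb, P.dag_smul, mul_smul_comm, hβ k hk b hb,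
        smul_smul, mul_comm]
    rw [h5] at hHG0
    calc blk i G k P.o' = κ⁻¹ • (blk i G k P.o' * P.dag A * A) := by
          rw [mul_assoc, hμ', mul_smul_comm, mul_one, smul_smul, inv_mul_cancel₀ hκ0, one_smul]
      _ = _ := by rw [eq_neg_of_add_eq_zero_left hHG0, neg_mul, smul_one_mul, smul_neg, smul_smul, neg_smul]
  have hall : ∀ k m, ¬(k = P.o ∧ m = P.o') → ∃ s : F, blk i G k m = s • A := by
    intro k m hne
    by_cases hm : m = P.o
    · subst hm
      by_cases hk : k = P.o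
      · subst hk; exact ⟨1, by rw [one_smul]⟩
      · exact ⟨0, by rw [hcol k hk, zero_smul]⟩
    by_cases hk' : k = P.o'
    · subst hk'
      by_cases hm' : m = P.o'
      · subst hm'; exact ⟨κ⁻¹, hBA2⟩
      · exact ⟨0, by rw [hrow m hm', zero_smul]⟩
    by_cases hk : k = P.o
    · subst hk
      exact hrowA m (mem_Q.mpr ⟨hm, fun e => hne ⟨rfl, e⟩⟩)
    by_cases hm' : m = P.o'
    · subst hm'; exact hcolA k (mem_Q.mpr ⟨hk, hk'⟩)
    · exact ⟨β k m * κ⁻¹, by
        rw [hGka k (mem_Q.mpr ⟨hk, hk'⟩) m (mem_Q.mpr ⟨hm, hm'⟩), hBA2, smul_smul]⟩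
  refine ⟨κ, hκ0, ?_, hμ', hBA2, hall⟩
  rw [hκ, map_sum]
  exact Finset.sum_congr rfl fun k _ => by rw [map_mul, P.invol, mul_comm]

set_option maxHeartbeats 1000000 in
/-- An element stabilising the layer of `eo` is a Kronecker product times a radical element. -/
theorem Good.stab_factor
    (hG : P.Good X) {i : τ} {g : GL (τ → γ) F} (hg : g ∈ X)
    (hcol : ∀ a, a ≠ P.o → blk i (g : Matrix (τ → γ) (τ → γ) F) a P.o = 0) :
    ∃ (κ : F) (A A' C : Matrix (τ → γ) (τ → γ) F) (B₁ : Matrix γ γ F), κ ≠ 0 ∧ P.σ κ = κ ∧ CM i A ∧ CM i A' ∧ CM i C ∧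
      A * A' = 1 ∧ A' * A = 1 ∧ P.adjoint B₁ * B₁ = κ⁻¹ • 1 ∧
      A' * (g : Matrix (τ → γ) (τ → γ) F) = slot i B₁ * (1 + C * slot i P.E) := by
  classical
  have hX := hG.hyp
  haveI : Nonempty γ := ⟨P.o⟩
  set G : Matrix (τ → γ) (τ → γ) F := (g : Matrix (τ → γ) (τ → γ) F) with hGdef
  set H : Matrix (τ → γ) (τ → γ) F := ((g⁻¹ : GL (τ → γ) F) : Matrix (τ → γ) (τ → γ) F) with hHdef
  have hH : H = P.dag G := hX.inv_eq hg
  have hHb : ∀ a b, blk i H a b = P.dag (blk i G (P.nu b) (P.nu a)) := fun a b => by rw [hH, blk_dag]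
  have hHG : H * G = 1 := by rw [hHdef, hGdef, Units.inv_mul]
  have hGH : G * H = 1 := by rw [hHdef, hGdef, Units.mul_inv]
  have hcm := fun a b => cm_blk i G a b
  set A := blk i G P.o P.o with hA
  set A' := blk i H P.o P.o with hA'
  set B := blk i G P.o' P.o' with hB
  have hA'B : A' = P.dag B := by rw [hA', hHb, P.nu_o]
  have hA'A : A' * A = 1 := by
    have := congrArg (fun M => blk i M P.o P.o) hHG
    rwa [blk_mul, Finset.sum_eq_single P.o (fun b _ hb => by rw [hcol b hb, mul_zero]) (by simp), blk_one,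
      if_pos rfl] at this
  have hAA' : A * A' = 1 := mul_eq_one_comm.mp hA'A
  have hcolH : ∀ a, a ≠ P.o → blk i H a P.o = 0 := fun a ha => by
    have := congrArg (fun M => blk i M a P.o) hHG
    rw [blk_mul, Finset.sum_eq_single P.o (fun b _ hb => by rw [hcol b hb, mul_zero]) (by simp), blk_one,
      if_neg ha] at this
    calc blk i H a P.o = blk i H a P.o * A * A' := by rw [mul_assoc, hAA', mul_one]
      _ = 0 := by rw [this, zero_mul]
  have hrow : ∀ b, b ≠ P.o' → blk i G P.o' b = 0 := fun b hb => by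
    have := hcolH (P.nu b) (fun e => hb (by rw [← P.nu_nu b, e, P.nu_o]))
    rw [hHb, P.nu_nu, P.nu_o] at this
    rw [← P.dag_dag (blk i G P.o' b), this, P.dag_zero]
  have hrowH : ∀ m, m ≠ P.o' → blk i H P.o' m = 0 := fun m hm => by
    rw [hHb, P.nu_o', hcol _ (fun e => hm (by rw [← P.nu_nu m, e, P.nu_o])), P.dag_zero]
  have hHoo : blk i H P.o' P.o' = P.dag A := by rw [hHb, P.nu_o']
  obtain ⟨κ, hκ0, hκσ, hμ', hBA2, hall⟩ := hG.stab_blocks hg hcol
  choose! M₀ hM₀ using hall
  set M₁ : Matrix γ γ F := Matrix.of fun k m => if k = P.o ∧ m = P.o' then 0 else M₀ k m with hM₁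
  set Z := A' * blk i G P.o P.o' with hZ
  have hAc : CM i A := hcm _ _
  have hA'c : CM i A' := cm_blk i H _ _
  have hZc : CM i Z := hA'c.mul (hcm _ _)
  have hAk : ∀ k b, blk i A' k b = if k = b then A' else 0 := fun k b => by
    have h1 := blk_cm_mul_slot hA'c (1 : Matrix γ γ F) k b
    rw [slot_one, mul_one, Matrix.one_apply] at h1
    rw [h1]; split <;> simp
  have hg0 : A' * G = slot i M₁ + Z * slot i P.E := by
    refine blk_ext (i := i) fun k m => ?_
    rw [blk_mul, blk_add, blk_slot, blk_cm_mul_slot hZc,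
      Finset.sum_eq_single k (fun b _ hb => by rw [hAk, if_neg hb.symm, zero_mul]) (by simp), hAk, if_pos rfl, E_eq]
    by_cases h : k = P.o ∧ m = P.o'
    · obtain ⟨rfl, rfl⟩ := h
      simp [hM₁, hZ]
    · rw [hM₁, Matrix.of_apply, if_neg h, Matrix.single_apply_of_ne _ _ _ _ _ (fun e => h ⟨e.1.symm, e.2.symm⟩),
        zero_smul, add_zero, hM₀ k m h, mul_smul_comm, hA'A]
  have hg0iso : P.dag (A' * G) * (A' * G) = κ⁻¹ • 1 := by
    have h1 : P.dag A' * A' = κ⁻¹ • 1 := by
      have h2 : A' = κ⁻¹ • P.dag A := by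
        calc A' = κ⁻¹ • (P.dag A * A * A') := by rw [hμ', smul_one_mul, smul_smul, inv_mul_cancel₀ hκ0, one_smul]
          _ = _ := by rw [mul_assoc, hAA', mul_one]
      calc P.dag A' * A' = κ⁻¹ • (P.dag A' * P.dag A) := by rw [h2]; simp only [mul_smul_comm]
        _ = κ⁻¹ • 1 := by rw [← P.dag_mul, hAA', P.dag_one]
    rw [P.dag_mul, mul_assoc, ← mul_assoc _ A' G, h1, smul_one_mul, mul_smul_comm]
    rw [← hH, hHG]
  have hMo : ∀ k, M₁ k P.o = if k = P.o then 1 else 0 := by
    intro k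
    have h1 := congrArg (fun M => blk i M k P.o) hg0
    have hne : ¬(k = P.o ∧ P.o = P.o') := fun e => P.ne e.2
    rw [blk_mul, blk_add, blk_slot, blk_cm_mul_slot hZc, E_eq,
      Matrix.single_apply_of_ne _ _ _ _ _ (fun e => P.ne e.2.symm), zero_smul, add_zero,
      Finset.sum_eq_single P.o (fun b _ hb => by rw [hcol b hb, mul_zero]) (by simp),
      hAk, ite_mul, zero_mul, hA'A] at h1
    by_cases hk : k = P.o
    · rw [if_pos hk] at h1 ⊢
      have h2 := congrFun (congrFun h1 fun _ => P.o) fun _ => P.o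
      simpa using h2.symm
    · rw [if_neg hk] at h1 ⊢
      have h2 := congrFun (congrFun h1 fun _ => P.o) fun _ => P.o
      simpa using h2.symm
  have hMo' : ∀ m, M₁ P.o' m = if m = P.o' then κ⁻¹ else 0 := by
    intro m
    have h1 := congrArg (fun M => blk i M P.o' m) hg0
    rw [blk_mul, blk_add, blk_slot, blk_cm_mul_slot hZc, E_eq,
      Matrix.single_apply_of_ne _ _ _ _ _ (fun e => P.ne e.1), zero_smul, add_zero,
      Finset.sum_eq_single P.o' (fun b _ hb => by rw [hAk, if_neg hb.symm, zero_mul]) (by simp),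
      hAk, if_pos rfl] at h1
    by_cases hm : m = P.o'
    · subst hm
      rw [hBA2, mul_smul_comm, hA'A] at h1
      have h2 := congrFun (congrFun h1 fun _ => P.o) fun _ => P.o
      simpa using h2.symm
    · rw [hrow m hm, mul_zero] at h1
      have h2 := congrFun (congrFun h1 fun _ => P.o) fun _ => P.o
      simpa [hm] using h2.symm
  have hEM : P.E * M₁ = κ⁻¹ • P.E := by
    ext k m
    rw [E_eq, Matrix.smul_apply, Matrix.mul_apply, Finset.sum_eq_single P.o'
      (fun b _ hb => by rw [Matrix.single_apply_of_ne _ _ _ _ _ (fun e => hb e.2.symm), zero_mul]) (by simp), hMo',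
      Matrix.single_apply, Matrix.single_apply]
    by_cases hk : P.o = k <;> by_cases hm : m = P.o' <;> simp [hk, hm, eq_comm]
  have hME : M₁ * P.E = P.E := by
    ext k m
    rw [E_eq, Matrix.mul_apply, Finset.sum_eq_single P.o
      (fun b _ hb => by rw [Matrix.single_apply_of_ne _ _ _ _ _ (fun e => hb e.1.symm), mul_zero]) (by simp), hMo,
      Matrix.single_apply, Matrix.single_apply]
    by_cases hk : P.o = k <;> by_cases hm : P.o' = m <;> simp [hk, hm, Ne.symm, eq_comm] <;> simp_all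
  have hZZ : slot i (P.adjoint M₁ * M₁) + κ⁻¹ • ((Z + P.dag Z) * slot i P.E) = κ⁻¹ • 1 := by
    rw [← hg0iso, hg0, P.dag_add, P.dag_slot, P.dag_mul Z (slot i P.E), P.dag_slot, adj_E, (P.cm_dag hZc _).eq]
    have hME' : P.adjoint M₁ * P.E = κ⁻¹ • P.E := by
      have := congrArg (fun M => P.adjoint M) hEM
      simp only [adjoint, adj_mul, adj_smul, map_inv₀, hκσ] at this
      rw [show adj P.σ P.nu P.E = P.E from adj_E] at this
      exact this
    have c1 : slot i (P.adjoint M₁) * (Z * slot i P.E) = κ⁻¹ • (Z * slot i P.E) := by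
      rw [← mul_assoc, (hZc _).eq, mul_assoc, ← slot_mul, hME', slot_smul, mul_smul_comm]
    have c2 : P.dag Z * slot i P.E * slot i M₁ = κ⁻¹ • (P.dag Z * slot i P.E) := by
      rw [mul_assoc, ← slot_mul, hEM, slot_smul, mul_smul_comm]
    have c3 : P.dag Z * slot i P.E * (Z * slot i P.E) = 0 := by
      rw [CM.move hZc, E_sq, slot_zero, mul_zero]
    simp only [add_mul, mul_add, smul_add, c1, c2, c3, ← slot_mul]
    abel
  obtain ⟨t, ht⟩ : ∃ t : F, (Z + P.dag Z : Matrix (τ → γ) (τ → γ) F) = t • 1 := by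
    have h := congrArg (fun M => blk i M P.o P.o') hZZ
    have hs : ∀ (x : F) (M : Matrix (τ → γ) (τ → γ) F), blk i (x • M) P.o P.o' = x • blk i M P.o P.o' := fun x M => by
      simp only [blk, mul_smul_comm, smul_mul_assoc, Finset.smul_sum]
    rw [blk_add, blk_slot, hs, hs, blk_cm_mul_slot (hZc.add (P.cm_dag hZc)), E_eq, Matrix.single_apply_same,
      one_smul, blk_one, if_neg P.ne, smul_zero] at h
    refine ⟨-(κ * (P.adjoint M₁ * M₁) P.o P.o'), ?_⟩
    rw [← one_smul F (Z + P.dag Z), ← mul_inv_cancel₀ hκ0, mul_smul, eq_neg_of_add_eq_zero_right h, smul_neg,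
      smul_smul, neg_smul]
  have ht0 : P.σ t = t := by
    have h1 := congrArg P.dag ht
    rw [P.dag_add, P.dag_dag, add_comm, ht, P.dag_smul, P.dag_one] at h1
    have h2 := congrFun (congrFun h1 fun _ => P.o) fun _ => P.o
    simpa using h2.symm
  obtain ⟨θ, hθ⟩ := P.conj.exists_trace_one
  set s := t * θ
  set C := Z - s • (1 : Matrix (τ → γ) (τ → γ) F) with hC
  set B₁ := M₁ + s • P.E with hB₁
  have hCc : CM i C := hZc.sub (CM.one.smul s)
  have hB₁E : B₁ * P.E = P.E := by rw [hB₁, add_mul, hME, smul_mul_assoc, E_sq, smul_zero, add_zero]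
  have hfac : A' * G = slot i B₁ * (1 + C * slot i P.E) := by
    rw [hg0, mul_add, mul_one, ← mul_assoc, (hCc _).eq, mul_assoc C, ← slot_mul, hB₁E, hB₁, hC, slot_add, slot_smul,
      sub_mul, smul_one_mul]
    abel
  have hsim : P.adjoint B₁ * B₁ = κ⁻¹ • 1 := by
    refine slot_injective (τ := τ) i ?_
    rw [slot_smul, slot_one, ← hZZ, hB₁, ht, smul_one_mul, ← slot_smul, ← slot_smul, ← slot_add]
    congr 1
    rw [adjoint, adj_add, adj_smul, show adj P.σ P.nu P.E = P.E from adj_E, add_mul, mul_add, mul_add]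
    have hME' : adj P.σ P.nu M₁ * P.E = κ⁻¹ • P.E := by
      have := congrArg (fun M => P.adjoint M) hEM
      simp only [adjoint, adj_mul, adj_smul, map_inv₀, hκσ] at this
      rwa [show adj P.σ P.nu P.E = P.E from adj_E] at this
    simp only [smul_mul_assoc, mul_smul_comm, hME', hEM, E_sq, smul_zero, add_zero]
    have hst : s + P.σ s = t := by rw [map_mul, ht0, ← mul_add, hθ, mul_one]
    rw [← hst]
    module
  exact ⟨κ, A, A', C, B₁, hκ0, hκσ, hAc, hA'c, hCc, hAA', hA'A, hsim, hfac⟩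

set_option maxHeartbeats 1000000 in
/-- An element stabilising the layer of `eo` normalises the slot. -/
theorem Good.normal_of_stab
    (hG : P.Good X) {i : τ} {g : GL (τ → γ) F} (hg : g ∈ X)
    (hcol : ∀ a, a ≠ P.o → blk i (g : Matrix (τ → γ) (τ → γ) F) a P.o = 0) : Eqj g i i := by
  classical
  have hX := hG.hyp
  obtain ⟨κ, A, A', C, B₁, hκ0, hκσ, hAc, hA'c, hCc, hAA', hA'A, hsim, hfac⟩ := hG.stab_factor hg hcol
  set G : Matrix (τ → γ) (τ → γ) F := (g : Matrix (τ → γ) (τ → γ) F) with hGdef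
  set H : Matrix (τ → γ) (τ → γ) F := ((g⁻¹ : GL (τ → γ) F) : Matrix (τ → γ) (τ → γ) F) with hHdef
  obtain ⟨B₁u, hB₁u⟩ : ∃ u : GL γ F, (u : Matrix γ γ F) = B₁ := by
    refine ⟨⟨B₁, κ • P.adjoint B₁, mul_eq_one_comm.mp ?_, ?_⟩, rfl⟩ <;>
      rw [smul_mul_assoc, hsim, smul_smul, mul_inv_cancel₀ hκ0, one_smul]
  set Au : GL (τ → γ) F := ⟨A, A', hAA', hA'A⟩ with hAu
  suffices hCs : ∃ c : F, C = c • 1 by
    obtain ⟨c, hc⟩ := hCs
    have hU : IsUnit (1 + c • P.E : Matrix γ γ F) := by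
      refine ⟨⟨1 + c • P.E, 1 - c • P.E, ?_, ?_⟩, rfl⟩ <;>
        simp [mul_add, add_mul, mul_sub, sub_mul, E_sq, smul_mul_assoc, mul_smul_comm]
    set Bf : GL γ F := B₁u * hU.unit with hBf
    have hGf : g = Au * slotU i Bf := Units.ext (by
      rw [Units.val_mul, slotU_val, hBf, Units.val_mul, hU.unit_spec, hB₁u, slot_mul, slot_add, slot_one, slot_smul,
        show (Au : Matrix (τ → γ) (τ → γ) F) = A from rfl, ← smul_one_mul c (slot i P.E), ← hc, ← hfac, ← mul_assoc,
        hAA', one_mul])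
    intro K
    refine ⟨(Bf : Matrix γ γ F) * K * (Bf⁻¹ : GL γ F).1, ?_⟩
    rw [conjM_apply, hGf, _root_.mul_inv_rev, Units.val_mul, Units.val_mul, slotU_val, slotU_inv, slot_mul, slot_mul]
    show A * slot i (Bf : Matrix γ γ F) * slot i K * (slot i ((Bf⁻¹ : GL γ F).1) * A') = _
    rw [mul_assoc A, mul_assoc A, ← mul_assoc _ (slot i ((Bf⁻¹ : GL γ F).1)), ← mul_assoc A, ← slot_mul, ← slot_mul,
      ← (hAc _).eq, mul_assoc, hAA', mul_one]
  -- the sieve makes `C` scalar
  obtain ⟨n, b, gg, c, hb, hgg, hc, hsum, horth, horth'⟩ := P.sieve hX.room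
  set C' := A * C * A' with hC'
  have hC'c : CM i C' := (hAc.mul hCc).mul hA'c
  set D : Fin n → Matrix γ γ F := fun m => B₁ * (P.E - (b m : Matrix γ γ F) * P.E * (b m)⁻¹.1) * (κ • P.adjoint B₁)
    with hD
  have hBinv : (B₁u⁻¹ : GL γ F).1 = κ • P.adjoint B₁ := by
    refine Units.inv_eq_of_mul_eq_one_left ?_
    rw [hB₁u, smul_mul_assoc, hsim, smul_smul, mul_inv_cancel₀ hκ0, one_smul]
  have hzero : ∀ m m', (P.E - (b m : Matrix γ γ F) * P.E * (b m)⁻¹.1) *
      (P.E - (b m' : Matrix γ γ F) * P.E * (b m')⁻¹.1) = 0 := fun m m' => by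
    rw [sub_mul, mul_sub, mul_sub, E_sq, horth m' |>.1, (horth m).2, horth' m m']
    abel
  have hsimU : ∀ x : GL γ F, x ∈ P.SU → B₁u * x * B₁u⁻¹ ∈ P.SU := fun x hx => by
    refine ⟨?_, ?_⟩
    · have h1 : B₁ * (κ • P.adjoint B₁) = 1 := mul_eq_one_comm.mp (by
        rw [smul_mul_assoc, hsim, smul_smul, mul_inv_cancel₀ hκ0, one_smul])
      rw [Iso, Units.val_mul, Units.val_mul, hB₁u, hBinv, adj_mul, adj_mul, adj_smul, adj_adj P.invol P.nu_nu, hκσ,
        show adj P.σ P.nu B₁ = P.adjoint B₁ from rfl]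
      calc κ • B₁ * (adj P.σ P.nu (x : Matrix γ γ F) * P.adjoint B₁) * (B₁ * (x : Matrix γ γ F) * (κ • P.adjoint B₁))
          = κ • B₁ * (adj P.σ P.nu (x : Matrix γ γ F) * (P.adjoint B₁ * B₁) * (x : Matrix γ γ F)) *
            (κ • P.adjoint B₁) := by simp only [mul_assoc]
        _ = B₁ * (adj P.σ P.nu (x : Matrix γ γ F) * (x : Matrix γ γ F)) * (κ • P.adjoint B₁) := by
          simp only [hsim, mul_smul_comm, smul_mul_assoc, mul_one, smul_smul, mul_assoc]
          congr 1
          field_simp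
        _ = 1 := by rw [hx.1, mul_one, h1]
    · rw [Units.val_mul, Units.val_mul, det_mul, det_mul, mul_right_comm, ← det_mul, Units.mul_inv, det_one, one_mul,
        hx.2]
  have hterm : ∀ m, In X (C' * slot i (D m)) := by
    intro m
    have hbm := hb m
    refine ⟨g * slotU i (b m) * g⁻¹ * (slotU i (B₁u * b m * B₁u⁻¹))⁻¹,
      mul_mem (mul_mem (mul_mem hg (hX.slotMem i _ hbm)) (inv_mem hg)) (inv_mem (hX.slotMem i _ (hsimU _ hbm))), ?_⟩
    have hW : ∀ W : Matrix γ γ F, G * slot i W * H =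
        (A * slot i B₁) * ((1 + C * slot i P.E) * slot i W * (1 - C * slot i P.E)) * (slot i (κ • P.adjoint B₁) * A') := by
      intro W
      have eG : G = A * (slot i B₁ * (1 + C * slot i P.E)) := by rw [← hfac, ← mul_assoc, hAA', one_mul]
      have eH : H = (1 - C * slot i P.E) * (slot i (κ • P.adjoint B₁) * A') := by
        refine Units.inv_eq_of_mul_eq_one_right ?_
        rw [← hGdef, eG, mul_assoc A, mul_assoc (slot i B₁), ← mul_assoc (1 + C * slot i P.E)]
        have h1 : (1 + C * slot i P.E) * (1 - C * slot i P.E) = 1 := by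
          rw [add_mul, one_mul, mul_sub, mul_one, CM.move hCc, E_sq, slot_zero, mul_zero, sub_zero, sub_add_cancel]
        rw [h1, one_mul, ← mul_assoc (slot i B₁), ← slot_mul, mul_eq_one_comm.mp (by
          rw [smul_mul_assoc, hsim, smul_smul, mul_inv_cancel₀ hκ0, one_smul] : (κ • P.adjoint B₁) * B₁ = 1),
          slot_one, one_mul, hAA']
      rw [eG, eH]
      simp only [mul_assoc]
    rw [Units.val_mul, Units.val_mul, Units.val_mul, slotU_val, slotU_inv, ← hGdef, ← hHdef, hW, _root_.mul_inv_rev,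
      _root_.mul_inv_rev, inv_inv, Units.val_mul, Units.val_mul, hB₁u, hBinv]
    set Bi := κ • P.adjoint B₁
    set bb := (b m : Matrix γ γ F)
    set bi := (b m)⁻¹.1
    have hBB : Bi * B₁ = 1 := by rw [smul_mul_assoc, hsim, smul_smul, mul_inv_cancel₀ hκ0, one_smul]
    have hbb : bb * bi = 1 := Units.mul_inv _
    have hbb' : bi * bb = 1 := Units.inv_mul _
    have e1 : (1 + C * slot i P.E) * slot i bb * (1 - C * slot i P.E) * slot i bi =
        1 + C * slot i (P.E - bb * P.E * bi) := by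
      have h0 : P.E * (bb * P.E * bi) = 0 := (horth m).1
      have e0 : slot i bb * (1 - C * slot i P.E) * slot i bi = 1 - C * slot i (bb * P.E * bi) := by
        rw [mul_sub, mul_one, sub_mul, ← slot_mul, hbb, slot_one, ← mul_assoc, (hCc _).eq, mul_assoc C, ← slot_mul,
          mul_assoc C, ← slot_mul]
      rw [mul_assoc (1 + C * slot i P.E), mul_assoc (1 + C * slot i P.E), e0, add_mul, one_mul, mul_sub, mul_one,
        CM.move hCc, h0, slot_zero, mul_zero, sub_zero, slot_sub, mul_sub]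
      abel
    calc A * slot i B₁ * ((1 + C * slot i P.E) * slot i bb * (1 - C * slot i P.E)) * (slot i Bi * A') *
          slot i (B₁ * (bi * Bi))
        = A * slot i B₁ * ((1 + C * slot i P.E) * slot i bb * (1 - C * slot i P.E) *
          (slot i Bi * slot i (B₁ * (bi * Bi)))) * A' := by
          have hcc := (hA'c (B₁ * (bi * Bi))).eq
          simp only [mul_assoc, hcc]
      _ = A * slot i B₁ * ((1 + C * slot i P.E) * slot i bb * (1 - C * slot i P.E) * slot i bi * slot i Bi) * A' := by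
          rw [← slot_mul, ← mul_assoc Bi, hBB, one_mul, slot_mul]; simp only [mul_assoc]
      _ = A * slot i B₁ * slot i Bi * A' + A * slot i B₁ * C * slot i ((P.E - bb * P.E * bi)) * slot i Bi * A' := by
          rw [e1]; simp only [add_mul, mul_add, one_mul, mul_assoc]
      _ = 1 + C' * slot i (D m) := by
          congr 1
          · rw [mul_assoc A, ← slot_mul, mul_eq_one_comm.mp hBB, slot_one, mul_one, hAA']
          · rw [hD, hC', mul_assoc A, (hCc _).eq, ← mul_assoc A, mul_assoc (A * C), mul_assoc (A * C), ← slot_mul,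
              ← slot_mul, mul_assoc, (hA'c _).eq, ← mul_assoc]
  have hprod : ∀ s : Finset (Fin n), In X (C' * slot i (∑ m ∈ s, D m)) := by
    intro s
    induction s using Finset.induction with
    | empty => exact ⟨1, one_mem X, by rw [Finset.sum_empty, slot_zero, mul_zero, add_zero, Units.val_one]⟩
    | insert m s hm ih =>
      rw [Finset.sum_insert hm, slot_add, mul_add]
      refine (hterm m).add ih ?_
      rw [CM.move hC'c, Finset.mul_sum, Finset.sum_eq_zero, slot_zero, mul_zero]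
      intro m' _
      simp only [hD]
      rw [mul_assoc _ _ (B₁ * _ * _), ← mul_assoc (κ • P.adjoint B₁), ← mul_assoc (κ • P.adjoint B₁) B₁,
        smul_mul_assoc, hsim, smul_smul, mul_inv_cancel₀ hκ0, one_smul, one_mul, mul_assoc B₁, ← mul_assoc _ _ (κ • _),
        hzero, zero_mul, mul_zero]
  have hsumD : ∑ m, D m = -(c * κ) • P.r (B₁ *ᵥ ((gg : Matrix γ γ F) *ᵥ P.eo)) (B₁ *ᵥ ((gg : Matrix γ γ F) *ᵥ P.eo)) := by
    have e1 : ∑ m, D m = B₁ * (-∑ m, ((b m : Matrix γ γ F) * P.E * (b m)⁻¹.1 - P.E)) * (κ • P.adjoint B₁) := by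
      rw [hD, ← Finset.sum_neg_distrib, Finset.mul_sum, Finset.sum_mul]
      simp only [neg_sub]
    rw [e1, hsum, E, conj_r hgg, mul_neg, neg_mul, mul_smul_comm, mul_smul_comm, smul_mul_assoc, smul_smul, neg_smul,
      mul_comm κ c]
    congr 2
    set p := (gg : Matrix γ γ F) *ᵥ P.eo
    refine Matrix.ext_of_mulVec_single fun j => ?_
    rw [← mulVec_mulVec, ← mulVec_mulVec, r_mulVec, r_mulVec, mulVec_smul, h, hf_adj P.invol P.nu_nu,
      adjoint, adj_adj P.invol P.nu_nu]
  set p := B₁ *ᵥ ((gg : Matrix γ γ F) *ᵥ P.eo)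
  have hpne : p ≠ 0 := by
    intro h0
    have h1 := congrArg ((κ • P.adjoint B₁) *ᵥ ·) h0
    simp only [p, mulVec_mulVec, mulVec_zero, smul_mul_assoc] at h1
    rw [← mul_assoc, hsim, smul_mul_assoc, one_mul, smul_smul, mul_inv_cancel₀ hκ0, one_smul] at h1
    have h2 := congrArg ((gg⁻¹ : GL γ F).1 *ᵥ ·) h1
    simp only [mulVec_mulVec, Units.inv_mul, one_mulVec, mulVec_zero] at h2
    exact eo_ne h2
  have hpp : P.h p p = 0 := by
    show hf P.σ P.nu (B₁ *ᵥ _) (B₁ *ᵥ _) = 0
    rw [hf_adj P.invol P.nu_nu, mulVec_mulVec, hsim, smul_mulVec, one_mulVec, ← h, h_smul_right, h_map hgg, eo_iso,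
      mul_zero]
  obtain ⟨mv, hmv, hmvp⟩ := exists_move (P := P) hpne hpp
  have hfin : P.Cen X i (-(c * κ) • C') := by
    refine ⟨hC'c.smul _, ?_⟩
    obtain ⟨k, hk, ek⟩ := hprod Finset.univ
    refine ⟨(slotU i mv)⁻¹ * k * slotU i mv, mul_mem (mul_mem (inv_mem (hX.slotMem i mv hmv)) hk) (hX.slotMem i mv hmv), ?_⟩
    rw [Units.val_mul, Units.val_mul, slotU_inv, slotU_val, ek, mul_add, mul_one, add_mul, ← slot_mul, Units.inv_mul,
      slot_one, hsumD, ← hmvp, ← conj_r hmv, ← mul_assoc, (hC'c _).eq, mul_assoc C', mul_assoc C', ← slot_mul,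
      ← slot_mul, mul_smul_comm, smul_mul_assoc, slot_smul, mul_smul_comm, E]
    simp only [← mul_assoc, Units.inv_mul, one_mul]
    rw [mul_assoc (P.r P.eo P.eo), Units.inv_mul, mul_one, smul_mul_assoc, hC', mul_assoc (A * C)]
  obtain ⟨s₃, hs₃⟩ := hG.scal i _ hfin
  refine ⟨(-(c * κ))⁻¹ * s₃, ?_⟩
  calc C = A' * (C' * A) := by
        rw [hC', mul_assoc (A * C), hA'A, mul_one, ← mul_assoc, hA'A, one_mul]
    _ = A' * (((-(c * κ))⁻¹ • (-(c * κ) • C')) * A) := by
        rw [smul_smul, inv_mul_cancel₀ (neg_ne_zero.mpr (mul_ne_zero hc hκ0)), one_smul]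
    _ = _ := by rw [hs₃, smul_smul, smul_one_mul, mul_smul_comm, hA'A]

end Pol

end Cfsg.Lib.Classical.TensorPowU
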