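import Cfsg.Agent.Classical.TensorPowU.Hyp

/-!
# A non-scalar centre gives a transvection-like element on several slots
-/

set_option autoImplicit false
set_option linter.unusedSectionVars false
set_option linter.unusedSimpArgs false
set_option linter.unusedVariables false
set_option linter.style.haveILetI false
set_option maxHeartbeats 400000

namespace Cfsg.Lib.Classical.TensorPowU

open Matrix Finset
open scoped MatrixGroups
open Cfsg.Lib.Classical.TensorPowLin (slot slot_mul slot_one slot_add slot_sub slot_smul slot_zero slot_neg slot_sum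
  slot_comm slot_injective tens tens_apply tens_mul tens_one tensGL tensGL_val In conjM conjM_apply conjM_one
  conjM_conjM conjM_id slot_single_mul mul_slot_single comm_entries)

universe u

variable {τ γ : Type} [Fintype τ] [DecidableEq τ] [Fintype γ] [DecidableEq γ] {F : Type u} [Field F]

/-- Two elements whose product of nilpotent parts is central. -/
theorem comm_central {R : Type*} [Ring R] {u v : R} (hu : (u * v - v * u) * u = 0) (hv : (u * v - v * u) * v = 0) :
    (1 + u) * (1 + v) = (1 + (u * v - v * u)) * ((1 + v) * (1 + u)) := by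
  have h : (u * v - v * u) * (v * u) = 0 := by rw [← mul_assoc, hv, zero_mul]
  calc (1 + u) * (1 + v) = 1 + v + u + v * u + (u * v - v * u) := by noncomm_ring
    _ = 1 + v + u + v * u + (u * v - v * u) + (u * v - v * u) * v + (u * v - v * u) * u +
        (u * v - v * u) * (v * u) := by rw [hu, hv, h]; simp only [add_zero]
    _ = _ := by noncomm_ring

namespace Pol

variable {P : Pol γ F}

/-- The orthonormal indices. -/
def Q (P : Pol γ F) : Finset γ := Finset.univ.filter fun a => a ≠ P.o ∧ a ≠ P.o'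

theorem mem_Q {a : γ} : a ∈ P.Q ↔ a ≠ P.o ∧ a ≠ P.o' := by simp [Q]

theorem eq_sum_single {w : γ → F} (hw : P.InQ w) : w = ∑ a ∈ P.Q, w a • Pi.single a (1 : F) := by
  funext b
  rw [Finset.sum_apply]
  by_cases hb : b ∈ P.Q
  · rw [Finset.sum_eq_single b (fun a _ ha => by simp [ha.symm]) (fun h => absurd hb h)]
    simp
  · rw [Finset.sum_eq_zero (fun a ha => by
      have : b ≠ a := fun e => hb (e ▸ ha)
      simp [this])]
    rw [mem_Q, not_and_or, not_not, not_not] at hb
    rcases hb with rfl | rfl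
    · exact hw.1
    · exact hw.2

/-- The nilpotent part of a general radical element. -/
def GU' (P : Pol γ F) (i : τ) (Y : γ → Matrix (τ → γ) (τ → γ) F) (C : Matrix (τ → γ) (τ → γ) F) :
    Matrix (τ → γ) (τ → γ) F :=
  (∑ a ∈ P.Q, P.U i (Pi.single a 1) (Y a) 0) + C * slot i P.E

variable {X : Subgroup (GL (τ → γ) F)}

theorem U_one (i : τ) (w : γ → F) (C : Matrix (τ → γ) (τ → γ) F) :
    P.U i w 1 C = slot i (P.r P.eo w - P.r w P.eo) + C * slot i P.E := by
  rw [U, P.dag_one, one_mul, one_mul, slot_sub]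

theorem scal_general [Finite F] (hX : P.Hyp X) {i : τ} (hC : P.CScal X i)
    {Y : γ → Matrix (τ → γ) (τ → γ) F} (hY : ∀ a, CM i (Y a)) {C : Matrix (τ → γ) (τ → γ) F} (hCM : CM i C)
    (h : In X (P.GU' i Y C)) : (∀ a ∈ P.Q, ∃ c : F, Y a = c • 1) ∧ ∃ c : F, C = c • 1 := by
  have hQ : ∀ a ∈ P.Q, P.InQ (Pi.single a (1 : F)) := fun a ha => inQ_single (mem_Q.mp ha).1 (mem_Q.mp ha).2 1
  obtain ⟨g, hg, eg⟩ := h
  have hGU : ∀ (w : γ → F) (Y' C' : Matrix (τ → γ) (τ → γ) F), P.InQ w → CM i Y' → CM i C' →
      P.GU' i Y C * P.U i w Y' C' =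
        -(∑ a ∈ P.Q, P.h w (Pi.single a 1) • (P.dag (Y a) * Y' * slot i P.E)) := by
    intro w Y' C' hw h1 h2
    rw [GU', add_mul, Finset.sum_mul, Finset.sum_congr rfl fun a ha => U_mul (hQ a ha) hw h1 h2,
      ← U_zero i C, U_mul (by exact ⟨rfl, rfl⟩) hw h1 h2, Finset.sum_neg_distrib, P.dag_zero, zero_mul, zero_mul,
      smul_zero, neg_zero, add_zero]
  have hUG : ∀ (w : γ → F) (Y' C' : Matrix (τ → γ) (τ → γ) F), P.InQ w → CM i Y' → CM i C' →
      P.U i w Y' C' * P.GU' i Y C =
        -(∑ a ∈ P.Q, P.h (Pi.single a 1) w • (P.dag Y' * Y a * slot i P.E)) := by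
    intro w Y' C' hw h1 h2
    rw [GU', mul_add, Finset.mul_sum, Finset.sum_congr rfl fun a ha => U_mul hw (hQ a ha) (hY a) CM.zero,
      ← U_zero i C, U_mul hw (by exact ⟨rfl, rfl⟩) CM.zero hCM, Finset.sum_neg_distrib, mul_zero, zero_mul,
      smul_zero, neg_zero, add_zero]
  have hEU : ∀ (M : Matrix (τ → γ) (τ → γ) F) (w : γ → F) (Y' C' : Matrix (τ → γ) (τ → γ) F), P.InQ w → CM i Y' →
      CM i C' → M * slot i P.E * P.U i w Y' C' = 0 := by
    intro M w Y' C' hw h1 h2
    simp only [U, mul_add, mul_sub, CM.move h1, CM.move (P.cm_dag h1), CM.move h2, E, r_mul_r, eo_iso, hw.perp.1,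
      zero_smul, slot_zero, mul_zero, sub_zero, add_zero]
  have hEG : ∀ M : Matrix (τ → γ) (τ → γ) F, M * slot i P.E * P.GU' i Y C = 0 := fun M => by
    rw [GU', mul_add, Finset.mul_sum, Finset.sum_eq_zero (fun a ha => hEU M _ _ _ (hQ a ha) (hY a) CM.zero),
      CM.move hCM, E_sq, slot_zero, mul_zero, add_zero]
  have hcen : ∀ b ∈ P.Q, ∀ c : F, ∃ s : F, P.σ c • Y b - c • P.dag (Y b) = s • 1 := by
    intro b hb c
    set w : γ → F := c • Pi.single b 1 with hw
    have hwQ : P.InQ w := ⟨by simp [hw, Ne.symm (mem_Q.mp hb).1], by simp [hw, Ne.symm (mem_Q.mp hb).2]⟩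
    obtain ⟨l, hl⟩ := exists_l (P := P) w
    obtain ⟨r, hr, er⟩ := slot_root_in hX i hwQ hl
    set Z := P.σ c • Y b - c • P.dag (Y b) with hZ
    have hh : ∀ a ∈ P.Q, P.h w (Pi.single a 1) = if a = b then c else 0 := fun a ha => by
      rw [hw, h_smul_left, h_single, P.nu_of (mem_Q.mp ha).1 (mem_Q.mp ha).2]
      by_cases hab : a = b
      · subst hab; simp
      · simp [hab]
    have hD : P.GU' i Y C * P.U i w 1 (l • 1) - P.U i w 1 (l • 1) * P.GU' i Y C = Z * slot i P.E := by
      rw [hGU w 1 _ hwQ CM.one (CM.one.smul l), hUG w 1 _ hwQ CM.one (CM.one.smul l),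
        Finset.sum_eq_single b (fun a ha hab => by rw [hh a ha, if_neg hab, zero_smul]) (fun h => absurd hb h),
        Finset.sum_eq_single b (fun a ha hab => by rw [h_symm, hh a ha, if_neg hab, map_zero, zero_smul])
          (fun h => absurd hb h), h_symm (Pi.single b 1) w, hh b hb, if_pos rfl, mul_one, P.dag_one, one_mul, hZ, sub_mul,
        smul_mul_assoc, smul_mul_assoc]
      abel
    have hcm : CM i Z := ((hY b).smul _).sub ((P.cm_dag (hY b)).smul _)
    refine hC Z ⟨hcm, g * r * (r * g)⁻¹, mul_mem (mul_mem hg hr) (inv_mem (mul_mem hr hg)), ?_⟩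
    have e : ((g * r : GL (τ → γ) F) : Matrix (τ → γ) (τ → γ) F) =
        (1 + Z * slot i P.E) * ((r * g : GL (τ → γ) F) : Matrix (τ → γ) (τ → γ) F) := by
      rw [Units.val_mul, Units.val_mul, eg, er, comm_central, hD]
      · rw [hD]; exact hEG Z
      · rw [hD]; exact hEU Z _ _ _ hwQ CM.one (CM.one.smul l)
    rw [Units.val_mul, e, mul_assoc, Units.mul_inv, mul_one]
  have hYs : ∀ a ∈ P.Q, ∃ c : F, Y a = c • 1 := by
    intro a ha
    obtain ⟨s₁, h1⟩ := hcen a ha 1
    obtain ⟨θ, hθ⟩ := P.conj.ne_id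
    obtain ⟨s₂, h2⟩ := hcen a ha θ
    rw [map_one, one_smul, one_smul] at h1
    refine ⟨(P.σ θ - θ)⁻¹ * (s₂ - θ * s₁), ?_⟩
    rw [mul_smul, eq_inv_smul_iff₀ (sub_ne_zero.mpr hθ)]
    linear_combination (norm := module) h2 - θ • h1
  refine ⟨hYs, ?_⟩
  choose! y hy using hYs
  set w : γ → F := ∑ a ∈ P.Q, y a • Pi.single a 1 with hw
  have hwQ : P.InQ w := by
    constructor <;>
    · rw [hw, Finset.sum_apply]
      exact Finset.sum_eq_zero fun a ha => by simp [Ne.symm (mem_Q.mp ha).1, Ne.symm (mem_Q.mp ha).2]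
  have eG : P.GU' i Y C = P.U i w 1 C := by
    rw [GU', U_one]
    congr 1
    let L : (γ → F) →+ Matrix (τ → γ) (τ → γ) F := AddMonoidHom.mk'
      (fun v => slot i (P.r P.eo v - P.r v P.eo)) fun u v => by
        rw [r_add_left, r_add_right, ← slot_add]; congr 1; abel
    show _ = L w
    rw [hw, map_sum]
    refine Finset.sum_congr rfl fun a ha => ?_
    show _ = slot i (P.r P.eo (y a • Pi.single a 1) - P.r (y a • Pi.single a 1) P.eo)
    rw [hy a ha, ← U_smul, U_one, zero_mul, add_zero]
  obtain ⟨l, hl⟩ := exists_l (P := P) (-w)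
  have hwn : P.InQ (-w) := ⟨by simp [hwQ.1], by simp [hwQ.2]⟩
  obtain ⟨r, hr, er⟩ := slot_root_in hX i hwn hl
  obtain ⟨s, hs⟩ := hC (C + l • 1 - P.h (-w) w • 1) ⟨(hCM.add (CM.one.smul l)).sub (CM.one.smul _),
    g * r, mul_mem hg hr, by
      rw [Units.val_mul, eg, er, eG, add_mul, one_mul, mul_add, mul_one, U_mul hwQ hwn CM.one (CM.one.smul l),
        P.dag_one, one_mul, one_mul, U_one, U_one, r_neg_left, r_neg_right,
        show -P.r P.eo w - -P.r w P.eo = -(P.r P.eo w - P.r w P.eo) by abel, slot_neg, sub_mul, add_mul, smul_one_mul,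
        smul_one_mul]
      abel⟩
  refine ⟨s - l + P.h (-w) w, ?_⟩
  linear_combination (norm := module) hs

theorem tensGL_mem (hX : P.Hyp X) {b : τ → GL γ F} (hb : ∀ l, b l ∈ P.SU) : tensGL b ∈ X := by
  have : Subgroup.pi Set.univ (fun _ : τ => P.SU) ≤ X.comap tensGL := by
    rw [Subgroup.pi_le_iff]
    rintro l _ ⟨x, hx, rfl⟩
    exact hX.slotMem l x hx
  exact this (fun l _ => hb l)

theorem cm_tensGL {i : τ} {b : τ → GL γ F} (hb : b i = 1) :
    CM i ((tensGL b : GL (τ → γ) F) : Matrix (τ → γ) (τ → γ) F) := by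
  have e : (tensGL b : GL (τ → γ) F).1 = onSet (Finset.univ.erase i) fun l => (b l : Matrix γ γ F) := by
    rw [tensGL_val, onSet]
    congr 1
    funext l
    by_cases h : l = i
    · subst h; simp [hb]
    · simp [h]
  rw [e]
  exact cm_onSet (Finset.notMem_erase i _) _

variable (P) in
/-- The root group at `eo`. -/
def R : Subgroup (GL γ F) where
  carrier := {b | ∃ w l, P.InQ w ∧ l + P.σ l = -P.h w w ∧ (b : Matrix γ γ F) = 1 + P.N P.eo w l}
  one_mem' := ⟨0, 0, ⟨rfl, rfl⟩, by rw [map_zero, add_zero, h_zero_left, neg_zero], by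
    rw [Units.val_one, N, r_zero_left, r_zero_right, zero_smul, sub_zero, add_zero, add_zero]⟩
  mul_mem' := by
    rintro a b ⟨w, l, hw, hl, ea⟩ ⟨w', l', hw', hl', eb⟩
    refine ⟨w + w', l + l' - P.h w' w, ⟨by simp [hw.1, hw'.1], by simp [hw.2, hw'.2]⟩, ?_, ?_⟩
    · rw [map_sub, map_add, ← h_symm, h_add_left, h_add_right, h_add_right]
      linear_combination hl + hl'
    · rw [Units.val_mul, ea, eb, add_mul, one_mul, mul_add, mul_one, N_mul_N l l' eo_iso hw.perp.1 hw'.perp.1, N, N, N,
        r_add_left, r_add_right]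
      module
  inv_mem' := by
    rintro a ⟨w, l, hw, hl, ea⟩
    refine ⟨-w, P.σ l, ⟨by simp [hw.1], by simp [hw.2]⟩, ?_, Units.inv_eq_of_mul_eq_one_right ?_⟩
    · rw [P.invol, h_neg_left, show P.h w (-w) = -P.h w w from P.herm.neg_right w w, neg_neg]
      linear_combination hl
    · rw [ea, add_mul, one_mul, mul_add, mul_one, N_mul_N l _ eo_iso hw.perp.1 (by rw [h_neg_left, hw.perp.1, neg_zero]),
        h_neg_left, neg_neg, N, N, r_neg_left, r_neg_right]
      linear_combination (norm := module) hl • P.r P.eo P.eo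

theorem R_le : P.R ≤ P.SU := by
  rintro b ⟨w, l, hw, hl, e⟩
  have : b = root (rd_eo hw hl) := Units.ext (by rw [e, root_val])
  rw [this]
  exact root_mem _

theorem R_pow {p : ℕ} [Fact p.Prime] [CharP F p] {b : GL γ F} (hb : b ∈ P.R) : b ^ (p ^ 2) = 1 := by
  obtain ⟨w, l, hw, hl, e⟩ := hb
  haveI : Nonempty γ := ⟨P.o⟩
  haveI : CharP (Matrix γ γ F) p := Matrix.charP p
  refine Units.ext ?_
  rw [Units.val_pow_eq_pow_val, e, add_pow_char_pow_of_commute p 2 (Commute.one_left _), one_pow, Units.val_one,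
    add_eq_left]
  have h3 : 3 ≤ p ^ 2 := by
    have := (Fact.out : p.Prime).two_le
    calc 3 ≤ 2 ^ 2 := by norm_num
      _ ≤ p ^ 2 := Nat.pow_le_pow_left this 2
  refine pow_eq_zero_of_le h3 ?_
  have hNE : P.N P.eo w l * P.r P.eo P.eo = 0 := by
    simp only [N, add_mul, sub_mul, smul_mul_assoc, r_mul_r, eo_iso, hw.perp'.1, zero_smul, smul_zero, sub_zero,
      add_zero]
  rw [pow_succ', pow_two, N_mul_N l l eo_iso hw.perp.1 hw.perp.1, mul_smul_comm, hNE, smul_zero]

theorem exists_fixed [Finite F] (hX : P.Hyp X) {i : τ} (hC : ¬ P.CScal X i) :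
    ∃ M, P.Cen X i M ∧ (∀ c : F, M ≠ c • 1) ∧ ∀ l ≠ i, ∀ b ∈ P.R,
      ∃ c : F, conjM (slotU l b) M = M + c • 1 := by
  classical
  obtain ⟨p, hp⟩ := CharP.exists F
  haveI : Fact p.Prime := ⟨CharP.char_is_prime F p⟩
  let sc : Submodule F (Matrix (τ → γ) (τ → γ) F) := F ∙ 1
  let V := Matrix (τ → γ) (τ → γ) F ⧸ sc
  let G : Subgroup (τ → GL γ F) := Subgroup.pi Set.univ fun l => if l = i then ⊥ else P.R
  have hG : ∀ b : G, (b : τ → GL γ F) i = 1 ∧ (∀ l, (b : τ → GL γ F) l ∈ P.R) := fun b => by
    have hb := fun l => b.2 l (Set.mem_univ l)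
    refine ⟨by simpa using hb i, fun l => ?_⟩
    have h1 := hb l
    by_cases h : l = i
    · subst h
      simp only [if_pos rfl, Subgroup.mem_bot] at h1
      rw [h1]; exact one_mem _
    · simpa [h] using h1
  let act : GL (τ → γ) F → V →ₗ[F] V := fun g => sc.mapQ sc (conjM g) (by
    rw [Submodule.span_singleton_le_iff_mem, Submodule.mem_comap, conjM_one]
    exact Submodule.mem_span_singleton_self _)
  let cen : AddSubgroup (Matrix (τ → γ) (τ → γ) F) :=
    { carrier := {M | P.Cen X i M}
      add_mem' := hX.cen_add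
      zero_mem' := hX.cen_zero i
      neg_mem' := hX.cen_neg }
  let Ξ : AddSubgroup V := cen.map sc.mkQ.toAddMonoidHom
  have hact : ∀ (b : G) (x : V), x ∈ Ξ → act (tensGL (b : τ → GL γ F)) x ∈ Ξ := by
    rintro b _ ⟨M, hM, rfl⟩
    refine ⟨conjM (tensGL (b : τ → GL γ F)) M, ?_, rfl⟩
    exact hX.cen_conj (tensGL_mem hX fun l => R_le ((hG b).2 l)) (cm_tensGL (hG b).1) hM
  letI : MulAction G Ξ :=
    { smul := fun b x => ⟨act (tensGL (b : τ → GL γ F)) x.1, hact b x.1 x.2⟩
      one_smul := fun x => by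
        refine Subtype.ext ?_
        show act (tensGL ((1 : G) : τ → GL γ F)) x.1 = x.1
        obtain ⟨M, hM⟩ := Submodule.Quotient.mk_surjective _ x.1
        rw [← hM]
        show Submodule.Quotient.mk (conjM _ M) = _
        rw [Subgroup.coe_one, map_one, conjM_id]
      mul_smul := fun b b' x => by
        refine Subtype.ext ?_
        show act (tensGL ((b * b' : G) : τ → GL γ F)) x.1 =
          act (tensGL (b : τ → GL γ F)) (act (tensGL (b' : τ → GL γ F)) x.1)
        obtain ⟨M, hM⟩ := Submodule.Quotient.mk_surjective _ x.1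
        rw [← hM]
        show Submodule.Quotient.mk (conjM _ M) = Submodule.Quotient.mk (conjM _ (conjM _ M))
        rw [Subgroup.coe_mul, map_mul, conjM_conjM] }
  have hpG : IsPGroup p G := fun b => ⟨2, Subtype.ext (funext fun l => R_pow ((hG b).2 l))⟩
  haveI : Finite V := Module.finite_of_finite F
  have hdvd : p ∣ Nat.card Ξ := by
    rw [CScal] at hC
    push Not at hC
    obtain ⟨M, hM, hns⟩ := hC
    let x : Ξ := ⟨Submodule.Quotient.mk M, M, hM, rfl⟩
    have hx : addOrderOf x = p := addOrderOf_eq_prime (Subtype.ext (by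
      rw [AddSubgroup.coe_nsmul, ← Nat.cast_smul_eq_nsmul F, CharP.cast_eq_zero, zero_smul]; rfl)) fun h => by
        have h0 : (Submodule.Quotient.mk M : V) = 0 := congrArg Subtype.val h
        rw [Submodule.Quotient.mk_eq_zero, Submodule.mem_span_singleton] at h0
        obtain ⟨c, hc⟩ := h0
        exact hns c hc.symm
    exact hx ▸ addOrderOf_dvd_natCard x
  have h0 : (0 : Ξ) ∈ MulAction.fixedPoints G Ξ := fun b => Subtype.ext (map_zero (act _))
  obtain ⟨x, hx, hne⟩ := hpG.exists_fixed_point_of_prime_dvd_card_of_fixed_point Ξ hdvd h0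
  obtain ⟨M, hM, hMx⟩ := x.2
  refine ⟨M, hM, fun c hc => hne (Subtype.ext ?_), fun l hl b hb => ?_⟩
  · rw [← hMx]
    exact ((Submodule.Quotient.mk_eq_zero _).mpr (Submodule.mem_span_singleton.mpr ⟨c, hc.symm⟩)).symm
  · have hmem : (Pi.mulSingle l b : τ → GL γ F) ∈ G := fun o _ => by
      by_cases ho : o = l
      · subst ho; simp [hl, hb]
      · rw [Pi.mulSingle_eq_of_ne ho]; exact Subgroup.one_mem _
    have h1 := congrArg Subtype.val (hx ⟨_, hmem⟩)
    rw [← hMx] at h1
    change act (tensGL (Pi.mulSingle l b)) x.1 = _ at h1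
    rw [← hMx] at h1
    have h2 : conjM (slotU l b) M - M ∈ sc := (Submodule.Quotient.eq sc).mp h1
    obtain ⟨c, hc⟩ := Submodule.mem_span_singleton.mp h2
    exact ⟨c, by rw [hc, add_sub_cancel]⟩

theorem EI_apply (J : Finset τ) (x y : τ → γ) :
    (P.EI J : Matrix (τ → γ) (τ → γ) F) x y =
      if (∀ l ∈ J, x l = P.o ∧ y l = P.o') ∧ ∀ l ∉ J, x l = y l then 1 else 0 := by
  rw [EI, onSet, tens_apply]
  split_ifs with h
  · refine Finset.prod_eq_one fun l _ => ?_
    by_cases hl : l ∈ J
    · rw [if_pos hl, E_eq, (h.1 l hl).1, (h.1 l hl).2, single_apply_same]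
    · rw [if_neg hl, h.2 l hl, one_apply_eq]
  · rcases not_and_or.mp h with h | h <;> push Not at h <;> obtain ⟨l, hl, hne⟩ := h <;>
      refine Finset.prod_eq_zero (Finset.mem_univ l) ?_
    · rw [if_pos hl, E_eq, single_apply_of_ne _ _ _ _ _ (fun e => hne e.1.symm e.2.symm)]
    · rw [if_neg hl, one_apply_ne hne]

theorem onSet_conj {J : Finset τ} (b : τ → GL γ F) (hb : ∀ l ∉ J, b l = 1) (f : τ → Matrix γ γ F) :
    conjM (tensGL b) (onSet J f) =
      onSet J fun l => (b l : Matrix γ γ F) * f l * ((b l)⁻¹ : GL γ F).1 := by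
  rw [conjM_apply, ← map_inv, tensGL_val, tensGL_val, onSet, tens_mul, tens_mul, onSet]
  congr 1
  funext l
  by_cases hl : l ∈ J <;> simp [hl, hb]

/-- The matrices fixed by the root groups up to scalars are combinations of products of `E`. -/
theorem exists_decomp [Finite F] (hX : P.Hyp X) {i : τ} {M : Matrix (τ → γ) (τ → γ) F} (hM : CM i M)
    (hfix : ∀ l ≠ i, ∀ b ∈ P.R, ∃ c : F, conjM (slotU l b) M = M + c • 1) :
    ∃ coef : Finset τ → F, M = ∑ J ∈ (Finset.univ.erase i).powerset, coef J • P.EI J := by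
  classical
  haveI : Nonempty γ := ⟨P.o⟩
  have hroot : ∀ w l', P.InQ w → l' + P.σ l' = -P.h w w → ∃ b ∈ P.R, (b : Matrix γ γ F) = 1 + P.N P.eo w l' :=
    fun w l' hw hl' => ⟨root (rd_eo hw hl'), ⟨w, l', hw, hl', root_val _⟩, root_val _⟩
  have hEc : ∀ l ≠ i, Commute (slot l P.E) M := by
    intro l hl
    obtain ⟨θ, hθ⟩ := P.conj.ne_id
    set w : γ → F := Pi.single P.a₀ 1 with hw
    set w' : γ → F := θ • w with hw'
    have hwQ : P.InQ w := inQ_single P.a₀o P.a₀o' 1
    have hwQ' : P.InQ w' := ⟨by simp [hw', hwQ.1], by simp [hw', hwQ.2]⟩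
    obtain ⟨l₁, hl₁⟩ := exists_l (P := P) w
    obtain ⟨l₂, hl₂⟩ := exists_l (P := P) w'
    obtain ⟨b, hb, eb⟩ := hroot w l₁ hwQ hl₁
    obtain ⟨b', hb', eb'⟩ := hroot w' l₂ hwQ' hl₂
    obtain ⟨c, hc⟩ := hfix l hl b hb
    obtain ⟨c', hc'⟩ := hfix l hl b' hb'
    have h1 : conjM (slotU l (b * b')) M = conjM (slotU l (b' * b)) M := by
      rw [show slotU (τ := τ) l (b * b') = slotU l b * slotU l b' by rw [slotU, slotU, slotU, ← map_mul, ← Pi.mulSingle_mul],
        show slotU (τ := τ) l (b' * b) = slotU l b' * slotU l b by rw [slotU, slotU, slotU, ← map_mul, ← Pi.mulSingle_mul],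
        ← conjM_conjM, ← conjM_conjM]
      simp only [hc, hc', map_add, map_smul, conjM_one]
      abel
    set d := P.h w w' - P.h w' w with hd
    have hd0 : d ≠ 0 := by
      rw [hd, hw', h_smul_left, h_smul_right, hw, h_single_self P.a₀o P.a₀o', map_one, mul_one, mul_one, mul_one]
      exact sub_ne_zero.mpr hθ
    have hrd : P.RD P.eo 0 d := rd_eo ⟨rfl, rfl⟩ (by
      rw [h_zero_left, neg_zero, hd, map_sub, ← h_symm, ← h_symm, sub_add_sub_cancel, sub_self])
    have e : b * b' = root hrd * (b' * b) := Units.ext (by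
      rw [Units.val_mul, Units.val_mul, Units.val_mul, root_val, eb, eb']
      have hEN : ∀ v l', P.InQ v → P.r P.eo P.eo * P.N P.eo v l' = 0 := fun v l' hv => by
        simp only [N, mul_add, mul_sub, mul_smul_comm, r_mul_r, eo_iso, hv.perp.1, zero_smul, smul_zero, sub_zero,
          add_zero]
      rw [comm_central]
      · congr 1
        rw [N_mul_N l₁ l₂ eo_iso hwQ.perp.1 hwQ'.perp.1, N_mul_N l₂ l₁ eo_iso hwQ'.perp.1 hwQ.perp.1, N, r_zero_left,
          r_zero_right, sub_zero, zero_add, hd]
        module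
      · rw [N_mul_N l₁ l₂ eo_iso hwQ.perp.1 hwQ'.perp.1, N_mul_N l₂ l₁ eo_iso hwQ'.perp.1 hwQ.perp.1, ← sub_smul,
          smul_mul_assoc, hEN w l₁ hwQ, smul_zero]
      · rw [N_mul_N l₁ l₂ eo_iso hwQ.perp.1 hwQ'.perp.1, N_mul_N l₂ l₁ eo_iso hwQ'.perp.1 hwQ.perp.1, ← sub_smul,
          smul_mul_assoc, hEN w' l₂ hwQ', smul_zero])
    rw [e, show slotU (τ := τ) l (root hrd * (b' * b)) = slotU l (root hrd) * slotU l (b' * b) by
      rw [slotU, slotU, slotU, ← map_mul, ← Pi.mulSingle_mul], ← conjM_conjM] at h1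
    have h2 : conjM (slotU l (root hrd)) M = M := by
      have h3 : conjM (slotU l (b' * b)) M = M + (c' + c) • 1 := by
        rw [show slotU (τ := τ) l (b' * b) = slotU l b' * slotU l b by rw [slotU, slotU, slotU, ← map_mul, ← Pi.mulSingle_mul],
          ← conjM_conjM, hc, map_add, map_smul, conjM_one, hc', add_assoc, add_smul]
      rw [h3, map_add, map_smul, conjM_one] at h1
      exact add_right_cancel h1
    rw [conjM_apply, slotU_val, slotU_inv] at h2
    have h4 : Commute (slot l (root hrd : GL γ F).1) M := by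
      show _ * M = M * _
      conv_rhs => rw [← h2]
      rw [mul_assoc, ← slot_mul, Units.inv_mul, slot_one, mul_one]
    rw [root_val, slot_add, slot_one, N, r_zero_left, r_zero_right, sub_zero, zero_add, slot_smul] at h4
    have := (h4.sub_left (Commute.one_left M)).smul_left d⁻¹
    rwa [add_sub_cancel_left, smul_smul, inv_mul_cancel₀ hd0, one_smul] at this
  have hNc : ∀ l ≠ i, ∀ w l', P.InQ w → l' + P.σ l' = -P.h w w → Commute (slot l (P.N P.eo w l')) M := by
    intro l hl w l' hw hl'
    obtain ⟨b, hb, eb⟩ := hroot w l' hw hl'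
    obtain ⟨c, hc⟩ := hfix l hl b hb
    set n := (slot l (P.N P.eo w l') : Matrix (τ → γ) (τ → γ) F) with hn
    have h1 : (1 + n) * M = (M + c • 1) * (1 + n) := by
      rw [← hc, conjM_apply, slotU_val, slotU_inv, eb, slot_add, slot_one, ← hn, mul_assoc _ _ (1 + n)]
      have : slot l (b⁻¹ : GL γ F).1 * (1 + n) = 1 := by
        rw [hn, ← slot_one (τ := τ) (F := F) (γ := γ) l, ← slot_add, ← eb, ← slot_mul, Units.inv_mul, slot_one]
      rw [this, mul_one]
    have hEn : slot l P.E * n = 0 := by
      rw [hn, ← slot_mul]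
      simp only [E, N, mul_add, mul_sub, mul_smul_comm, r_mul_r, eo_iso, hw.perp.1, zero_smul, smul_zero, sub_zero,
        add_zero, slot_zero]
    have hc0 : c = 0 := by
      have h2 := congrArg (slot l P.E * ·) h1
      simp only [← mul_assoc, mul_add, add_mul, mul_one, one_mul, smul_mul_assoc, mul_smul_comm, hEn, zero_mul,
        (hEc l hl).eq] at h2
      rw [mul_assoc M (slot l P.E) n, hEn] at h2
      simp only [mul_zero, add_zero, smul_zero, left_eq_add] at h2
      refine (smul_eq_zero.mp h2).resolve_right fun h3 => ?_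
      exact E_ne (P := P) (slot_injective (τ := τ) (F := F) l (h3.trans (slot_zero l).symm))
    rw [hc0, zero_smul, add_zero, add_mul, one_mul, mul_add, mul_one, add_right_inj] at h1
    exact h1
  have hAB : ∀ l ≠ i, ∀ a ∈ P.Q, Commute (slot l (Matrix.single a P.o' (1 : F))) M ∧
      Commute (slot l (Matrix.single P.o a (1 : F))) M := by
    intro l hl a ha
    have hT : ∀ c : F, Commute (slot l (c • Matrix.single a P.o' (1 : F) - P.σ c • Matrix.single P.o a (1 : F))) M := by
      intro c
      have hw : P.InQ (c • Pi.single a (1 : F)) := by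
        constructor <;> simp [Ne.symm (mem_Q.mp ha).1, Ne.symm (mem_Q.mp ha).2]
      obtain ⟨l', hl'⟩ := exists_l (P := P) (c • Pi.single a (1 : F))
      have h1 := (hNc l hl _ l' hw hl').sub_left ((hEc l hl).smul_left l')
      rw [← slot_smul, ← slot_sub, N, E, add_sub_cancel_right, r_smul_left, r_smul_right, eo, r, r,
        rk_single P.nu_nu, rk_single P.nu_nu, P.nu_o, P.nu_of (mem_Q.mp ha).1 (mem_Q.mp ha).2] at h1
      exact h1
    obtain ⟨θ, hθ⟩ := P.conj.ne_id
    have hne : P.σ θ - θ ≠ 0 := sub_ne_zero.mpr hθ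
    have h1 := hT 1
    rw [map_one, one_smul, one_smul] at h1
    have hB : Commute (slot l (Matrix.single P.o a (1 : F))) M := by
      have h3 := ((h1.smul_left θ).sub_left (hT θ)).smul_left (P.σ θ - θ)⁻¹
      rw [← slot_smul, ← slot_sub, ← slot_smul] at h3
      have e : Matrix.single P.o a (1 : F) = (P.σ θ - θ)⁻¹ • (θ • (Matrix.single a P.o' (1 : F) -
          Matrix.single P.o a (1 : F)) - (θ • Matrix.single a P.o' (1 : F) - P.σ θ • Matrix.single P.o a (1 : F))) := by
        rw [eq_inv_smul_iff₀ hne]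
        module
      rw [e]
      exact h3
    refine ⟨?_, hB⟩
    have := h1.add_left hB
    rwa [← slot_add, sub_add_cancel] at this
  have hval : ∀ l ≠ i, (∀ x y : τ → γ, x l ≠ y l → ¬(x l = P.o ∧ y l = P.o') → M x y = 0) ∧
      ∀ x y : τ → γ, x l = y l → M x y = M (Function.update x l P.o) (Function.update y l P.o) := by
    intro l hl
    have hA : ∀ a ∈ P.Q, ∀ x y : τ → γ, (if x l = a then M (Function.update x l P.o') y else 0) =
        if y l = P.o' then M x (Function.update y l a) else 0 := fun a ha x y => by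
      have h := congrFun (congrFun (hAB l hl a ha).1.eq x) y
      rwa [slot_single_mul, mul_slot_single, one_mul, mul_one] at h
    have hB : ∀ a ∈ P.Q, ∀ x y : τ → γ, (if x l = P.o then M (Function.update x l a) y else 0) =
        if y l = a then M x (Function.update y l P.o) else 0 := fun a ha x y => by
      have h := congrFun (congrFun (hAB l hl a ha).2.eq x) y
      rwa [slot_single_mul, mul_slot_single, one_mul, mul_one] at h
    constructor
    · intro x y hxy hne
      by_cases hy : y l ∈ P.Q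
      · have h1 := hA (y l) hy x (Function.update y l P.o')
        rw [if_neg hxy, Function.update_self, if_pos rfl, Function.update_idem, Function.update_eq_self] at h1
        exact h1.symm
      by_cases hx : x l ∈ P.Q
      · have h1 := hB (x l) hx (Function.update x l P.o) y
        rw [Function.update_self, if_pos rfl, if_neg (Ne.symm hxy), Function.update_idem, Function.update_eq_self] at h1
        exact h1
      rw [mem_Q, not_and_or, not_not, not_not] at hx hy
      have hxy' : x l = P.o' ∧ y l = P.o := by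
        rcases hx with hx | hx <;> rcases hy with hy | hy
        · exact absurd (hx.trans hy.symm) hxy
        · exact absurd ⟨hx, hy⟩ hne
        · exact ⟨hx, hy⟩
        · exact absurd (hx.trans hy.symm) hxy
      have h1 := hA P.a₀ (mem_Q.mpr ⟨P.a₀o, P.a₀o'⟩) (Function.update x l P.a₀) y
      rw [Function.update_self, if_pos rfl, Function.update_idem, ← hxy'.1, Function.update_eq_self, hxy'.1,
        if_neg (by rw [hxy'.2]; exact P.ne)] at h1
      exact h1
    · intro x y hxy
      have key : ∀ a ∈ P.Q, M (Function.update x l a) (Function.update y l a) =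
          M (Function.update x l P.o) (Function.update y l P.o) ∧
          M (Function.update x l P.o') (Function.update y l P.o') = M (Function.update x l a) (Function.update y l a) := by
        intro a ha
        constructor
        · have h1 := hB a ha (Function.update x l P.o) (Function.update y l a)
          rwa [Function.update_self, Function.update_self, if_pos rfl, if_pos rfl, Function.update_idem,
            Function.update_idem] at h1
        · have h1 := hA a ha (Function.update x l a) (Function.update y l P.o')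
          rwa [Function.update_self, Function.update_self, if_pos rfl, if_pos rfl, Function.update_idem,
            Function.update_idem] at h1
      conv_lhs => rw [← Function.update_eq_self l x, ← Function.update_eq_self l y, ← hxy]
      by_cases hx : x l = P.o
      · rw [hx]
      by_cases hx' : x l = P.o'
      · rw [hx']
        have h := key P.a₀ (mem_Q.mpr ⟨P.a₀o, P.a₀o'⟩)
        rw [h.2, h.1]
      · exact (key (x l) (mem_Q.mpr ⟨hx, hx'⟩)).1
  obtain ⟨hi0, hi1⟩ := comm_entries (fun p q => hM (Matrix.single p q (1 : F)))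
  have hnorm : ∀ (s : Finset τ) (x y : τ → γ), (∀ l ∈ s, x l = y l) →
      M x y = M (fun l => if l ∈ s then P.o else x l) (fun l => if l ∈ s then P.o else y l) := by
    intro s
    induction s using Finset.induction with
    | empty => intro x y _; simp
    | insert a s ha ih =>
      intro x y h
      have hxy := h a (Finset.mem_insert_self a s)
      have e : M x y = M (Function.update x a P.o) (Function.update y a P.o) := by
        by_cases hai : a = i
        · subst hai; exact hi1 x y P.o hxy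
        · exact (hval a hai).2 x y hxy
      rw [e, ih _ _ fun l hl => by
        have hla : l ≠ a := fun e => ha (e ▸ hl)
        rw [Function.update_of_ne hla, Function.update_of_ne hla, h l (Finset.mem_insert_of_mem hl)]]
      congr 1 <;> funext l <;> by_cases hla : l = a <;> simp [hla, ha]
  refine ⟨fun J => M (fun _ => P.o) (fun l => if l ∈ J then P.o' else P.o), ?_⟩
  ext x y
  simp only [Matrix.sum_apply, Matrix.smul_apply, smul_eq_mul, EI_apply, mul_ite, mul_one, mul_zero]
  set D := Finset.univ.filter fun l => x l ≠ y l with hD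
  by_cases hv : i ∉ D ∧ ∀ l ∈ D, x l = P.o ∧ y l = P.o'
  · rw [Finset.sum_eq_single D, if_pos ⟨hv.2, fun l hl => by simpa [hD] using hl⟩,
      hnorm (Finset.univ \ D) x y (fun l hl => by simpa [hD] using hl)]
    · congr 1 <;> funext l <;> by_cases hl : l ∈ D
      · simp [hl, hv.2 l hl]
      · simp [hl]
      · simp [hl, hv.2 l hl]
      · simp [hl]
    · intro J _ hJ
      refine if_neg fun h => hJ ?_
      ext l
      simp only [hD, Finset.mem_filter, Finset.mem_univ, true_and]
      refine ⟨fun hl e => P.ne ?_, fun hne => by_contra fun hl => hne (h.2 l hl)⟩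
      rw [← (h.1 l hl).1, ← (h.1 l hl).2, e]
    · intro h
      exact absurd (Finset.mem_powerset.mpr fun l hl => Finset.mem_erase.mpr ⟨fun e => hv.1 (by rw [← e]; exact hl), Finset.mem_univ l⟩) h
  · rw [Finset.sum_eq_zero fun J hJ => if_neg fun h => hv ⟨?_, fun l hl => ?_⟩]
    · rw [not_and_or, not_not] at hv
      rcases hv with hv | hv
      · exact hi0 x y (by simpa [hD] using hv)
      · push Not at hv
        obtain ⟨l, hl, hne⟩ := hv
        have hl' : x l ≠ y l := by simpa [hD] using hl
        by_cases hli : l = i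
        · subst hli; exact hi0 x y hl'
        · exact (hval l hli).1 x y hl' fun e => hne e.1 e.2
    · have hiJ : i ∉ J := fun e => (Finset.mem_erase.mp (Finset.mem_powerset.mp hJ e)).1 rfl
      simpa [hD] using h.2 i hiJ
    · have hl' : x l ≠ y l := by simpa [hD] using hl
      exact h.1 l (by_contra fun hlJ => hl' (h.2 l hlJ))

/-- A non-scalar centre gives a transvection-like element on at least two slots. -/
theorem exists_mon [Finite F] (hX : P.Hyp X) {i : τ} (hC : ¬ P.CScal X i) :
    ∃ I : Finset τ, i ∈ I ∧ 2 ≤ I.card ∧ P.Mon X I := by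
  classical
  obtain ⟨M, hM, hns, hfix⟩ := exists_fixed hX hC
  obtain ⟨coef, hdec⟩ := exists_decomp hX hM.1 hfix
  set pw := (Finset.univ.erase i).powerset with hpw
  obtain ⟨J₀, hJ₀, hmax⟩ : ∃ J₀ ∈ pw.filter (fun J => coef J ≠ 0),
      ∀ J ∈ pw.filter (fun J => coef J ≠ 0), J.card ≤ J₀.card := by
    refine Finset.exists_max_image _ _ ?_
    by_contra h
    rw [Finset.not_nonempty_iff_eq_empty] at h
    refine hns 0 ?_
    rw [hdec, zero_smul]
    refine Finset.sum_eq_zero fun J hJ => ?_
    have : coef J = 0 := by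
      by_contra hne
      exact Finset.notMem_empty J (h ▸ Finset.mem_filter.mpr ⟨hJ, hne⟩)
    rw [this, zero_smul]
  rw [Finset.mem_filter] at hJ₀
  have hiJ : i ∉ J₀ := fun e => (Finset.mem_erase.mp (Finset.mem_powerset.mp hJ₀.1 e)).1 rfl
  have hne : J₀ ≠ ∅ := by
    rintro rfl
    refine hns (coef ∅) ?_
    rw [hdec, Finset.sum_eq_single ∅ (fun J hJ hJ0 => ?_) (fun h => absurd hJ₀.1 h), EI, onSet_empty]
    have : coef J = 0 := by
      by_contra hne
      have := hmax J (Finset.mem_filter.mpr ⟨hJ, hne⟩)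
      rw [Finset.card_empty, Nat.le_zero, Finset.card_eq_zero] at this
      exact hJ0 this
    rw [this, zero_smul]
  obtain ⟨n, b, g, c, hb, hg, hc, hsum, -, -⟩ := P.sieve hX.room
  set G := (g : Matrix γ γ F) * P.E * (g⁻¹ : GL γ F).1 with hG
  have key : ∀ A : Finset τ, A ⊆ J₀ → ∃ k : F, k ≠ 0 ∧ P.Cen X i (k • ∑ J ∈ pw.filter (fun J => A ⊆ J),
      coef J • onSet J fun l => if l ∈ A then G else P.E) := by
    intro A
    induction A using Finset.induction with
    | empty =>
      intro _
      refine ⟨1, one_ne_zero, ?_⟩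
      rw [Finset.filter_true_of_mem fun J _ => Finset.empty_subset J, one_smul]
      simp only [Finset.notMem_empty, if_false]
      rw [show ∑ J ∈ pw, coef J • onSet J (fun _ => P.E) = M from hdec.symm]
      exact hM
    | insert a A ha ih =>
      intro hsub
      have haJ : a ∈ J₀ := hsub (Finset.mem_insert_self a A)
      have hai : a ≠ i := fun e => hiJ (e ▸ haJ)
      obtain ⟨k, hk, hcen⟩ := ih fun l hl => hsub (Finset.mem_insert_of_mem hl)
      refine ⟨k * c, mul_ne_zero hk hc, ?_⟩
      have hstep : P.Cen X i (∑ m, (conjM (slotU a (b m)) (k • ∑ J ∈ pw.filter (fun J => A ⊆ J),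
          coef J • onSet J fun l => if l ∈ A then G else P.E) - k • ∑ J ∈ pw.filter (fun J => A ⊆ J),
          coef J • onSet J fun l => if l ∈ A then G else P.E)) := by
        refine Finset.sum_induction _ (P.Cen X i) (fun _ _ => hX.cen_add) (hX.cen_zero i) fun m _ => ?_
        rw [sub_eq_add_neg]
        exact hX.cen_add (hX.cen_conj (hX.slotMem a _ (hb m)) (by rw [slotU_val]; exact CM.slot hai.symm _) hcen)
          (hX.cen_neg hcen)
      convert hstep using 1
      simp only [map_smul, map_sum, ← smul_sub, ← Finset.sum_sub_distrib, ← Finset.smul_sum]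
      rw [mul_smul]
      congr 1
      rw [Finset.sum_comm, Finset.smul_sum]
      have hfil : pw.filter (fun J => insert a A ⊆ J) = (pw.filter (fun J => A ⊆ J)).filter (fun J => a ∈ J) := by
        ext J; simp [Finset.insert_subset_iff]; tauto
      rw [hfil, Finset.sum_filter]
      refine Finset.sum_congr rfl fun J hJ => ?_
      simp only [← smul_sub, ← Finset.smul_sum]
      by_cases haJ' : a ∈ J
      · rw [if_pos haJ', smul_comm c]
        congr 1
        have hsplit : ∀ f : τ → Matrix γ γ F, onSet J f = onSet (J.erase a) f * slot a (f a) := fun f => by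
          rw [← onSet_insert (Finset.notMem_erase a J), Finset.insert_erase haJ']
        have hrest : ∀ B, onSet (J.erase a) (fun l => if l ∈ insert a A then G else P.E) * B =
            onSet (J.erase a) (fun l => if l ∈ A then G else P.E) * B := fun B => by
          congr 1
          exact onSet_congr fun l hl => by simp [Finset.ne_of_mem_erase hl]
        rw [hsplit, hrest, if_pos (Finset.mem_insert_self a A), ← mul_smul_comm, ← slot_smul, hG, ← hsum, slot_sum,
          Finset.mul_sum]
        refine Finset.sum_congr rfl fun m _ => ?_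
        rw [slot_sub, mul_sub, hsplit, if_neg ha, conjM_apply, slotU_val, slotU_inv, ← mul_assoc,
          (cm_onSet (Finset.notMem_erase a J) _ _).eq, mul_assoc (onSet _ _), ← slot_mul, mul_assoc (onSet _ _),
          ← slot_mul]
      · rw [if_neg haJ', Finset.sum_eq_zero fun m _ => ?_, smul_zero]
        rw [sub_eq_zero, conjM_apply, slotU_val, slotU_inv, (cm_onSet haJ' _ _).eq, mul_assoc, ← slot_mul,
          Units.mul_inv, slot_one, mul_one]
  obtain ⟨k, hk, hcen⟩ := key J₀ subset_rfl
  rw [Finset.sum_eq_single J₀ (fun J hJ hJ' => ?_) (fun h => absurd (Finset.mem_filter.mpr ⟨hJ₀.1, subset_rfl⟩) h),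
    smul_smul] at hcen
  swap
  · rw [Finset.mem_filter] at hJ
    have : coef J = 0 := by
      by_contra hne'
      exact hJ' (Finset.eq_of_subset_of_card_le hJ.2 (hmax J (Finset.mem_filter.mpr ⟨hJ.1, hne'⟩))).symm
    rw [this, zero_smul]
  set bb : τ → GL γ F := fun l => if l ∈ J₀ then g⁻¹ else 1 with hbb
  have h1 := hX.cen_conj (tensGL_mem hX (b := bb) fun l => by
      by_cases hl : l ∈ J₀
      · simp [hbb, hl, inv_mem hg]
      · simp [hbb, hl, one_mem]) (cm_tensGL (by simp [hbb, hiJ])) hcen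
  rw [← conjM_apply, map_smul, onSet_conj bb (fun l hl => by simp [hbb, hl]),
    show onSet J₀ (fun l => (bb l : Matrix γ γ F) * (if l ∈ J₀ then G else P.E) * ((bb l)⁻¹ : GL γ F).1) = P.EI J₀
      from onSet_congr fun l hl => by
        simp only [hbb, if_pos hl, inv_inv, hG, ← mul_assoc, Units.inv_mul, one_mul]
        rw [mul_assoc, Units.inv_mul, mul_one]] at h1
  set s := k * coef J₀
  have hs : s ≠ 0 := mul_ne_zero hk hJ₀.2
  have hskew := hX.skew h1
  rw [P.dag_smul, show P.dag (P.EI J₀) = P.EI J₀ by rw [EI, P.dag_onSet]; exact onSet_congr fun l _ => adj_E,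
    ← neg_smul] at hskew
  have hs0 : s + P.σ s = 0 := by
    have h2 := congrFun (congrFun hskew fun _ => P.o) fun l => if l ∈ J₀ then P.o' else P.o
    rw [Matrix.smul_apply, Matrix.smul_apply, EI_apply, if_pos ⟨fun l hl => ⟨rfl, if_pos hl⟩,
      fun l hl => (if_neg hl).symm⟩, smul_eq_mul, smul_eq_mul, mul_one, mul_one] at h2
    rw [h2, add_neg_cancel]
  refine ⟨insert i J₀, Finset.mem_insert_self i J₀, ?_, hX.mon_of_ne hiJ hs hs0 h1⟩
  rw [Finset.card_insert_of_notMem hiJ]
  have := Finset.card_pos.mpr (Finset.nonempty_iff_ne_empty.mpr hne)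
  omega

end Pol

end Cfsg.Lib.Classical.TensorPowU
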