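import Cfsg.Agent.Classical.TensorPowU.Grow

/-!
# A non-scalar centre gives all unitary transvections
-/

set_option autoImplicit false
set_option linter.unusedSectionVars false
set_option linter.unusedSimpArgs false
set_option linter.unusedVariables false

namespace Cfsg.Lib.Classical.TensorPowU

open Matrix Finset
open scoped MatrixGroups
open Cfsg.Lib.Classical.TensorPowLin (slot slot_mul slot_one slot_add slot_sub slot_smul slot_zero slot_neg slot_sum
  slot_comm slot_single_apply In conjM conjM_apply comm_slot_of_single)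

universe u

variable {τ γ : Type} [Fintype τ] [DecidableEq τ] [Fintype γ] [DecidableEq γ] {F : Type u} [Field F]

namespace Pol

variable {P : Pol γ F} {X : Subgroup (GL (τ → γ) F)}

/-- A vector supported on the coordinates with value `a` in slot `i`. -/
def Lay (i : τ) (a : γ) (v : (τ → γ) → F) : Prop := ∀ x : τ → γ, x i ≠ a → v x = 0

theorem slot_single_mulVec (i : τ) (a b : γ) (v : (τ → γ) → F) (x : τ → γ) :
    (slot i (Matrix.single a b (1 : F)) *ᵥ v) x = if x i = a then v (Function.update x i b) else 0 := by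
  rw [mulVec, dotProduct]
  simp only [slot_single_apply]
  by_cases h : x i = a <;> simp [h]

theorem lay_slot (i : τ) (a b : γ) (v : (τ → γ) → F) : Lay i a (slot i (Matrix.single a b (1 : F)) *ᵥ v) :=
  fun x hx => by rw [slot_single_mulVec, if_neg hx]

theorem Lay.fix {i : τ} {a : γ} {v : (τ → γ) → F} (h : Lay i a v) :
    slot i (Matrix.single a a (1 : F)) *ᵥ v = v := funext fun x => by
  rw [slot_single_mulVec]
  by_cases hx : x i = a
  · rw [if_pos hx]; congr 1; rw [← hx, Function.update_eq_self]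
  · rw [if_neg hx, h x hx]

theorem Lay.kill {i : τ} {a b c : γ} {v : (τ → γ) → F} (h : Lay i a v) (hb : b ≠ a) :
    slot i (Matrix.single c b (1 : F)) *ᵥ v = 0 := funext fun x => by
  rw [slot_single_mulVec]
  by_cases hx : x i = c
  · rw [if_pos hx, h _ (by rw [Function.update_self]; exact hb)]; rfl
  · rw [if_neg hx]; rfl

variable (P) in
/-- The form on the tensor power. -/
abbrev H (x y : (τ → γ) → F) : F := hf P.σ (pnu τ P.nu) x y

variable (P) in
/-- `x ↦ h(x, u) v` on the tensor power. -/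
abbrev RK (u v : (τ → γ) → F) : Matrix (τ → γ) (τ → γ) F := rk P.σ (pnu τ P.nu) u v

theorem exists_lift (i : τ) (c : γ) (K : Matrix (τ → γ) (τ → γ) F)
    (hK : ∀ x y : τ → γ, ¬(x i = P.o ∧ y i = c) → K x y = 0) :
    ∃ M, CM i M ∧ M * slot i (Matrix.single P.o c (1 : F)) = K ∧ (c = P.o' → P.dag K = -K → P.dag M = -M) := by
  set M := ∑ a, slot i (Matrix.single a P.o (1 : F)) * K * slot i (Matrix.single c a (1 : F)) with hM
  refine ⟨M, ?_, ?_, ?_⟩
  · intro A
    refine comm_slot_of_single (fun p q => ?_) A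
    show _ = _
    rw [hM, Finset.mul_sum, Finset.sum_mul, Finset.sum_eq_single q, Finset.sum_eq_single p]
    · rw [mul_assoc _ (slot i (Matrix.single c p (1 : F))), ← slot_mul, Matrix.single_mul_single_same, mul_one,
        ← mul_assoc, ← mul_assoc, ← slot_mul, Matrix.single_mul_single_same, mul_one]
    · intro a _ ha
      rw [mul_assoc, ← slot_mul, Matrix.single_mul_single_of_ne _ _ _ _ ha, slot_zero, mul_zero]
    · simp
    · intro a _ ha
      rw [← mul_assoc, ← mul_assoc, ← slot_mul, Matrix.single_mul_single_of_ne _ _ _ _ (Ne.symm ha), slot_zero,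
        zero_mul, zero_mul]
    · simp
  · rw [hM, Finset.sum_mul, Finset.sum_eq_single P.o]
    · rw [mul_assoc, ← slot_mul, Matrix.single_mul_single_same, mul_one]
      ext x y
      rw [TensorPowLin.mul_slot_single]
      by_cases hy : y i = c
      · rw [if_pos hy, TensorPowLin.slot_single_mul, one_mul, mul_one, ← hy, Function.update_eq_self]
        by_cases hx : x i = P.o
        · rw [if_pos hx, ← hx, Function.update_eq_self]
        · rw [if_neg hx, hK x y (fun e => hx e.1)]
      · rw [if_neg hy, hK x y (fun e => hy e.2)]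
    · intro a _ ha
      rw [mul_assoc, ← slot_mul, Matrix.single_mul_single_of_ne _ _ _ _ ha, slot_zero, mul_zero]
    · simp
  · rintro rfl hsk
    rw [hM, show P.dag (∑ a, slot i (Matrix.single a P.o (1 : F)) * K * slot i (Matrix.single P.o' a (1 : F))) =
      ∑ a, P.dag (slot i (Matrix.single a P.o (1 : F)) * K * slot i (Matrix.single P.o' a (1 : F))) from adj_sum _ _,
      ← Finset.sum_neg_distrib, ← Equiv.sum_comp P.nu]
    refine Finset.sum_congr rfl fun a _ => ?_
    rw [P.dag_mul, P.dag_mul, hsk, P.dag_slot, P.dag_slot, adjoint, adjoint, adj_single P.nu_nu, adj_single P.nu_nu,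
      P.nu_nu, P.nu_o, P.nu_o', map_one, neg_mul, mul_neg, mul_assoc]

theorem H_mulVec {A : Matrix (τ → γ) (τ → γ) F} (x y : (τ → γ) → F) : P.H (A *ᵥ x) y = P.H x (P.dag A *ᵥ y) :=
  hf_adj P.invol P.pnu_pnu A x y

theorem H_symm (x y : (τ → γ) → F) : P.H x y = P.σ (P.H y x) := hf_symm P.invol P.pnu_pnu x y

theorem H_lay {i : τ} {a b : γ} {x y : (τ → γ) → F} (hx : Lay i a x) (hy : Lay i b y) (hab : b ≠ P.nu a) :
    P.H x y = 0 := by
  refine Finset.sum_eq_zero fun z _ => ?_
  by_cases hz : z i = a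
  · rw [hy _ (by rw [pnu_apply, hz]; exact hab.symm), map_zero, mul_zero]
  · rw [hx z hz, zero_mul]

theorem transv_lay [Finite F] (hX : P.Hyp X) {i₀ : τ} (hC : ¬ P.CScal X i₀) {i : τ} {v : (τ → γ) → F}
    (hv : Lay i P.o' v) {s : F} (hs : s + P.σ s = 0) : In X (s • P.RK v v) := by
  obtain ⟨b, hb, hbo⟩ := exists_move (P := P) eo_ne eo_iso
  obtain ⟨m, hm, hmo⟩ := exists_move (P := P) eo'_ne eo'_iso
  set u := slot i (Matrix.single P.o P.o' (1 : F)) *ᵥ v with hu
  have hul : Lay i P.o u := lay_slot i _ _ v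
  obtain ⟨M, hM, hMK, hsk⟩ := exists_lift (P := P) i P.o' (s • P.RK u u) fun x y hxy => by
    rw [Matrix.smul_apply, RK, rk, vecMulVec_apply]
    rcases not_and_or.mp hxy with h | h
    · rw [hul x h, zero_mul, smul_zero]
    · rw [hul (pnu τ P.nu y) (fun e => h (by
        rw [pnu_apply] at e
        rw [← P.nu_nu (y i), e, P.nu_o])), map_zero, mul_zero, smul_zero]
  have hcen := cen_full hX hC i hM (hsk rfl (by
    rw [P.dag_smul, show P.dag (P.RK u u) = P.RK u u from adj_rk P.invol P.pnu_pnu u u,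
      eq_neg_of_add_eq_zero_right hs, neg_smul]))
  have h1 : In X (s • P.RK u u) := by
    have := hcen.2
    rwa [E_eq, hMK] at this
  have hk := hX.slotMem i m hm
  have h2 := In.conj' hk h1
  rw [map_smul, conjM_apply, hX.inv_eq hk, conj_rk P.invol P.pnu_pnu (hX.iso _ hk)] at h2
  have hmv : slot i (m : Matrix γ γ F) *ᵥ u = v := by
    have e : (m : Matrix γ γ F) * Matrix.single P.o P.o' (1 : F) = Matrix.single P.o' P.o' (1 : F) := by
      have e1 : ∀ a, (m : Matrix γ γ F) a P.o = (Pi.single P.o' 1 : γ → F) a := fun a => by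
        have h := congrFun hmo a
        rwa [eo, eo', mulVec_single_one, Matrix.col_apply] at h
      ext a c
      rw [Matrix.mul_apply, Finset.sum_eq_single P.o (fun z _ hz => by
        rw [Matrix.single_apply_of_ne _ _ _ _ _ (fun e => hz e.1.symm), mul_zero]) (by simp)]
      rw [e1, Matrix.single_apply, Matrix.single_apply, Pi.single_apply]
      by_cases ha : a = P.o' <;> by_cases hc : P.o' = c <;> simp [ha, hc, eq_comm]
    rw [hu, mulVec_mulVec, ← slot_mul, e, hv.fix]
  rwa [slotU_val, hmv] at h2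

/-- Every unitary transvection is in `X`. -/
theorem transv_in [Finite F] (hX : P.Hyp X) {i₀ : τ} (hCn : ¬ P.CScal X i₀) {y : (τ → γ) → F} (hy : P.H y y = 0)
    {s : F} (hs : s + P.σ s = 0) : In X (s • P.RK y y) := by
  classical
  by_cases hy0 : y = 0
  · refine ⟨1, one_mem X, ?_⟩
    have : P.RK y y = 0 := by rw [hy0]; ext a b; simp [RK, rk, vecMulVec_apply]
    rw [this, smul_zero, add_zero, Units.val_one]
  set i := i₀
  -- a slot element moving `y` off the hyperplane
  obtain ⟨b, hb, hne⟩ : ∃ b ∈ P.SU, slot i (Matrix.single P.o P.o' (1 : F) * (b : Matrix γ γ F)) *ᵥ y ≠ 0 := by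
    by_contra hh
    push Not at hh
    let S : Submodule F (Matrix γ γ F) :=
      { carrier := {A | ∀ b ∈ P.SU, slot i (A * (b : Matrix γ γ F)) *ᵥ y = 0}
        add_mem' := fun {A A'} hA hA' b hb => by rw [add_mul, slot_add, add_mulVec, hA b hb, hA' b hb, add_zero]
        zero_mem' := fun b hb => by rw [zero_mul, slot_zero, zero_mulVec]
        smul_mem' := fun c A hA b hb => by rw [smul_mul_assoc, slot_smul, smul_mulVec, hA b hb, smul_zero] }
    have hS : P.Inv S := fun c hc A hA b hb => by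
      rw [mul_assoc, mul_assoc, slot_mul, ← mulVec_mulVec]
      have := hA (c⁻¹ * b) (mul_mem (inv_mem hc) hb)
      rw [Units.val_mul] at this
      rw [this, mulVec_zero]
    have hoff := (inv_offdiag hS (fun b hb => by rw [E_eq]; exact hh b hb)).1
    have hz : ∀ a c, a ≠ c → slot i (Matrix.single a c (1 : F)) *ᵥ y = 0 := fun a c hac => by
      have := hoff a c hac 1 (one_mem _)
      rwa [Units.val_one, mul_one] at this
    apply hy0
    funext x
    obtain ⟨a, ha⟩ : ∃ a, a ≠ x i := by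
      by_cases h : x i = P.o
      · exact ⟨P.o', by rw [h]; exact P.ne.symm⟩
      · exact ⟨P.o, Ne.symm h⟩
    have := congrFun (hz a (x i) ha) (Function.update x i a)
    rwa [slot_single_mulVec, if_pos (Function.update_self _ _ _), Function.update_idem, Function.update_eq_self] at this
  suffices key : ∀ z : (τ → γ) → F, P.H z z = 0 → slot i (Matrix.single P.o P.o' (1 : F)) *ᵥ z ≠ 0 →
      In X (s • P.RK z z) by
    have hk := hX.slotMem i b hb
    have h1 := key (slot i (b : Matrix γ γ F) *ᵥ y) (by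
      rw [← slotU_val]; exact ((hX.iso _ hk).hf_eq P.invol P.pnu_pnu y y).trans hy)
      (by rw [mulVec_mulVec, ← slot_mul]; exact hne)
    have h2 := In.conj' (inv_mem hk) h1
    rwa [map_smul, conjM_apply, hX.inv_eq (inv_mem hk), conj_rk P.invol P.pnu_pnu (hX.iso _ (inv_mem hk)), slotU_inv,
      mulVec_mulVec, ← slot_mul, Units.inv_mul, slot_one, one_mulVec] at h2
  clear hne hb b hy hy0 y
  intro y hy hne
  set u := slot i (Matrix.single P.o P.o' (1 : F)) *ᵥ y with hu
  set u' := slot i (Matrix.single P.o' P.o' (1 : F)) *ᵥ y with hu'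
  have hul : Lay i P.o u := lay_slot i _ _ y
  have hu'l : Lay i P.o' u' := lay_slot i _ _ y
  have huu' : slot i (Matrix.single P.o P.o' (1 : F)) *ᵥ u' = u := by
    rw [hu', mulVec_mulVec, ← slot_mul, Matrix.single_mul_single_same, mul_one]
  obtain ⟨x₀, hx₀⟩ := Function.ne_iff.mp hne
  have hx₀i : x₀ i = P.o := by
    by_contra h
    exact hx₀ (hul x₀ h)
  -- the components along the orthonormal indices
  have step : ∀ T : Finset γ, T ⊆ P.Q → ∃ k ∈ X, ∃ z, Lay i P.o z ∧ (k : Matrix (τ → γ) (τ → γ) F) *ᵥ u' =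
      u' + (∑ a ∈ T, slot i (Matrix.single a a (1 : F)) *ᵥ y) + z := by
    intro T
    induction T using Finset.induction with
    | empty =>
      intro _
      exact ⟨1, one_mem X, 0, fun _ _ => rfl, by rw [Units.val_one, one_mulVec, Finset.sum_empty, add_zero, add_zero]⟩
    | insert a T ha ih =>
      intro hsub
      obtain ⟨k, hk, z, hz, hkz⟩ := ih fun c hc => hsub (Finset.mem_insert_of_mem hc)
      obtain ⟨hao, hao'⟩ := mem_Q.mp (hsub (Finset.mem_insert_self a T))
      set ya := slot i (Matrix.single P.o a (1 : F)) *ᵥ y with hya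
      set φ : (τ → γ) → F := Pi.single x₀ (u x₀)⁻¹ with hφ
      obtain ⟨Y, hY, hYK, -⟩ := exists_lift (P := P) i P.o (vecMulVec ya φ) fun x x' hxx => by
        rw [vecMulVec_apply]
        rcases not_and_or.mp hxx with h | h
        · rw [show ya x = 0 from lay_slot i _ _ y x h, zero_mul]
        · rw [hφ, Pi.single_eq_of_ne (fun e => h (by rw [e, hx₀i])), mul_zero]
      have hYu : Y *ᵥ u = ya := by
        have h1 := congrArg (· *ᵥ u) hYK
        simp only [← mulVec_mulVec, hul.fix] at h1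
        rw [h1, vecMulVec_mulVec, hφ, single_dotProduct, inv_mul_cancel₀ hx₀]
        simp
      obtain ⟨C, hC, g, hg, eg⟩ := ((mem_rads hX i Y).mp (rads_full hX hCn i hY)).2 _
        (inQ_single hao hao' 1)
      have hr1 : P.r P.eo (Pi.single a 1) = Matrix.single a P.o' 1 := by rw [eo, r, rk_single P.nu_nu, P.nu_o]
      have hr2 : P.r (Pi.single a 1) P.eo = Matrix.single P.o a 1 := by
        rw [eo, r, rk_single P.nu_nu, P.nu_of hao hao']
      have hlayC : ∀ (M : Matrix (τ → γ) (τ → γ) F) (v : (τ → γ) → F), CM i M → Lay i P.o v → Lay i P.o (M *ᵥ v) :=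
        fun M v hM hv x hx => by
          rw [← hv.fix, mulVec_mulVec, ← (hM _).eq, ← mulVec_mulVec, slot_single_mulVec, if_neg hx]
      refine ⟨g * k, mul_mem hg hk, z + C *ᵥ u, fun x hx => by
        rw [Pi.add_apply, hz x hx, hlayC C u hC hul x hx, add_zero], ?_⟩
      rw [Units.val_mul, ← mulVec_mulVec, hkz, eg, U, hr1, hr2, E_eq, add_mulVec, one_mulVec]
      simp only [add_mulVec, sub_mulVec, ← mulVec_mulVec, mulVec_add, mulVec_sum, hz.kill hao, hz.kill P.ne.symm,
        hu'l.kill hao', mulVec_zero]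
      have hT : ∀ c ∈ T, ∀ d e : γ, d ≠ c →
          slot i (Matrix.single e d (1 : F)) *ᵥ (slot i (Matrix.single c c (1 : F)) *ᵥ y) = 0 :=
        fun c hc d e hdc => (lay_slot i c c y).kill hdc
      have z1 : ∑ c ∈ T, Y *ᵥ (slot i (Matrix.single a P.o' (1 : F)) *ᵥ (slot i (Matrix.single c c 1) *ᵥ y)) = 0 :=
        Finset.sum_eq_zero fun c hc => by
          rw [hT c hc P.o' a (fun e => (mem_Q.mp (hsub (Finset.mem_insert_of_mem hc))).2 e.symm), mulVec_zero]
      have z2 : ∑ c ∈ T, P.dag Y *ᵥ (slot i (Matrix.single P.o a (1 : F)) *ᵥ (slot i (Matrix.single c c 1) *ᵥ y)) = 0 :=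
        Finset.sum_eq_zero fun c hc => by
          rw [hT c hc a P.o (fun e => ha (e ▸ hc)), mulVec_zero]
      have z3 : ∑ c ∈ T, C *ᵥ (slot i (Matrix.single P.o P.o' (1 : F)) *ᵥ (slot i (Matrix.single c c 1) *ᵥ y)) = 0 :=
        Finset.sum_eq_zero fun c hc => by
          rw [hT c hc P.o' P.o (fun e => (mem_Q.mp (hsub (Finset.mem_insert_of_mem hc))).2 e.symm), mulVec_zero]
      simp only [Finset.sum_add_distrib, Finset.sum_sub_distrib, z1, z2, z3, huu', Finset.sum_insert ha]
      have e2 : Y *ᵥ (slot i (Matrix.single a P.o' (1 : F)) *ᵥ u') = slot i (Matrix.single a a (1 : F)) *ᵥ y := by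
        have e3 : slot i (Matrix.single a P.o' (1 : F)) *ᵥ u' = slot i (Matrix.single a P.o (1 : F)) *ᵥ u := by
          conv_rhs => rw [← huu', mulVec_mulVec, ← slot_mul, Matrix.single_mul_single_same, mul_one]
        rw [e3, mulVec_mulVec, ← (hY _).eq, ← mulVec_mulVec, hYu, hya, mulVec_mulVec, ← slot_mul,
          Matrix.single_mul_single_same, mul_one]
      rw [e2]
      abel
  obtain ⟨k, hk, z, hz, hkz⟩ := step P.Q subset_rfl
  set δ := slot i (Matrix.single P.o P.o (1 : F)) *ᵥ y - z with hδ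
  have hδl : Lay i P.o δ := fun x hx => by rw [hδ, Pi.sub_apply, lay_slot i _ _ y x hx, hz x hx, sub_zero]
  have hdec : y = u' + (∑ a ∈ P.Q, slot i (Matrix.single a a (1 : F)) *ᵥ y) +
      slot i (Matrix.single P.o P.o (1 : F)) *ᵥ y := by
    funext x
    simp only [Pi.add_apply, Finset.sum_apply, hu', slot_single_mulVec]
    have hup : ∀ a, x i = a → y (Function.update x i a) = y x := fun a e => by rw [← e, Function.update_eq_self]
    by_cases h1 : x i = P.o'
    · rw [if_pos h1, hup _ h1, if_neg (by rw [h1]; exact P.ne.symm),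
        Finset.sum_eq_zero (fun a ha => if_neg (by rw [h1]; exact (Ne.symm (mem_Q.mp ha).2)))]
      abel
    by_cases h2 : x i = P.o
    · rw [if_neg h1, if_pos h2, hup _ h2,
        Finset.sum_eq_zero (fun a ha => if_neg (by rw [h2]; exact (Ne.symm (mem_Q.mp ha).1)))]
      abel
    rw [if_neg h1, if_neg h2, Finset.sum_eq_single (x i) (fun a _ ha => if_neg (Ne.symm ha))
      (fun h => absurd (mem_Q.mpr ⟨h2, h1⟩) h), if_pos rfl, hup _ rfl]
    abel
  set w := (k : Matrix (τ → γ) (τ → γ) F) *ᵥ u' with hw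
  have hyw : y = w + δ := by
    rw [hkz, hδ]
    conv_lhs => rw [hdec]
    abel
  have huu : P.H u' u' = 0 := H_lay hu'l hu'l (by rw [P.nu_o']; exact P.ne.symm)
  have hww : P.H w w = 0 := ((hX.iso k hk).hf_eq P.invol P.pnu_pnu u' u').trans huu
  have hδδ : P.H δ δ = 0 := H_lay hδl hδl (by rw [P.nu_o]; exact P.ne)
  have hQl : ∀ a ∈ P.Q, P.H (slot i (Matrix.single a a (1 : F)) *ᵥ y) δ = 0 := fun a ha =>
    H_lay (lay_slot i a a y) hδl (by rw [P.nu_of (mem_Q.mp ha).1 (mem_Q.mp ha).2]; exact Ne.symm (mem_Q.mp ha).1)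
  have hwd : P.H w δ = P.H u' δ := by
    rw [hkz, H, hf_add_left, hf_add_left]
    have e1 : P.H (∑ a ∈ P.Q, slot i (Matrix.single a a (1 : F)) *ᵥ y) δ = 0 := by
      rw [H, hf, Finset.sum_congr rfl fun x _ => by rw [Finset.sum_apply, Finset.sum_mul], Finset.sum_comm]
      exact Finset.sum_eq_zero fun a ha => hQl a ha
    have e2 : P.H z δ = 0 := H_lay hz hδl (by rw [P.nu_o]; exact P.ne)
    show P.H u' δ + P.H _ δ + P.H z δ = _
    rw [e1, e2, add_zero, add_zero]
  set α := P.H u' δ with hα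
  have hskew : α + P.σ α = 0 := by
    have h1 := hy
    rw [hyw] at h1
    have h2 : ∀ a b c : (τ → γ) → F, P.H a (b + c) = P.H a b + P.H a c := fun a b c => by
      rw [H_symm, H, hf_add_left, map_add, ← H, ← H, ← H_symm, ← H_symm]
    rw [H, hf_add_left, ← H, ← H, h2, h2, hww, hδδ, hwd, H_symm δ w, hwd] at h1
    linear_combination h1
  -- a centre moving `w` to `y`
  obtain ⟨x₁, hx₁⟩ := Function.ne_iff.mp (show u' ≠ 0 from fun h => hne (by rw [← huu', h, mulVec_zero]))
  have hx₁i : x₁ i = P.o' := by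
    by_contra h
    exact hx₁ (hu'l x₁ h)
  set v : (τ → γ) → F := P.σ (u' x₁)⁻¹ • Pi.single (pnu τ P.nu x₁) 1 with hv
  have hvl : Lay i P.o v := fun x hx => by
    rw [hv, Pi.smul_apply, Pi.single_eq_of_ne (fun e => hx (by rw [e, pnu_apply, hx₁i, P.nu_o'])), smul_zero]
  have huv : P.H u' v = 1 := by
    rw [H, hf, Finset.sum_eq_single x₁]
    · rw [hv, Pi.smul_apply, Pi.single_eq_same, smul_eq_mul, mul_one, P.invol, mul_inv_cancel₀ hx₁]
    · intro x _ hx
      rw [hv, Pi.smul_apply, Pi.single_eq_of_ne (fun e => hx ((pnu τ P.nu).injective e)), smul_zero, map_zero, mul_zero]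
    · simp
  set K := P.RK v δ - P.RK δ v + α • P.RK v v with hK
  have hKs : ∀ x x' : τ → γ, ¬(x i = P.o ∧ x' i = P.o') → K x x' = 0 := fun x x' hxx => by
    simp only [hK, Matrix.add_apply, Matrix.sub_apply, Matrix.smul_apply, RK, rk, vecMulVec_apply]
    rcases not_and_or.mp hxx with h | h
    · rw [hvl x h, hδl x h]; simp
    · have h' : (pnu τ P.nu x') i ≠ P.o := fun e => h (by
        rw [pnu_apply] at e
        rw [← P.nu_nu (x' i), e, P.nu_o])
      rw [hvl _ h', hδl _ h']; simp
  obtain ⟨C, hCc, hCK, hCsk⟩ := exists_lift (P := P) i P.o' K hKs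
  have hcen := cen_full hX hCn i hCc (hCsk rfl (by
    rw [hK, P.dag_add, P.dag_smul, show P.dag (P.RK v δ - P.RK δ v) = P.dag (P.RK v δ) - P.dag (P.RK δ v) from adj_sub _ _,
      show P.dag (P.RK v δ) = P.RK δ v from adj_rk P.invol P.pnu_pnu _ _,
      show P.dag (P.RK δ v) = P.RK v δ from adj_rk P.invol P.pnu_pnu _ _,
      show P.dag (P.RK v v) = P.RK v v from adj_rk P.invol P.pnu_pnu _ _, eq_neg_of_add_eq_zero_right hskew, neg_smul]
    abel))
  obtain ⟨-, c, hc, ec⟩ := hcen
  rw [E_eq, hCK] at ec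
  have hKw : K *ᵥ w = δ := by
    have h1 : K *ᵥ w = K *ᵥ u' := by
      rw [← hCK, ← mulVec_mulVec, ← mulVec_mulVec, hkz]
      congr 1
      rw [mulVec_add, mulVec_add, mulVec_sum,
        hz.kill P.ne.symm, Finset.sum_eq_zero (fun a ha => (lay_slot i a a y).kill (Ne.symm (mem_Q.mp ha).2)),
        add_zero, add_zero]
    rw [h1, hK, add_mulVec, sub_mulVec, smul_mulVec, rk_mulVec, rk_mulVec, rk_mulVec, ← H, ← H, huv, ← hα, one_smul,
      one_smul, sub_add_cancel]
  have hcy : ((c * k : GL (τ → γ) F) : Matrix (τ → γ) (τ → γ) F) *ᵥ u' = y := by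
    rw [Units.val_mul, ← mulVec_mulVec, ← hw, ec, add_mulVec, one_mulVec, hKw, ← hyw]
  have h1 := transv_lay hX hCn hu'l hs
  have hck := mul_mem hc hk
  have h2 := In.conj' hck h1
  rwa [map_smul, conjM_apply, hX.inv_eq hck, conj_rk P.invol P.pnu_pnu (hX.iso _ hck), hcy] at h2

end Pol

end Cfsg.Lib.Classical.TensorPowU
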