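import Cfsg.Agent.Classical.TensorPowU.Centre

/-!
# A non-scalar centre gives all operators of radical elements
-/

set_option autoImplicit false
set_option linter.unusedSectionVars false
set_option linter.unusedSimpArgs false
set_option linter.unusedVariables false
set_option linter.style.haveILetI false

namespace Cfsg.Lib.Classical.TensorPowU

open Matrix Finset
open scoped MatrixGroups
open Cfsg.Lib.Classical.TensorPowLin (slot slot_mul slot_one slot_add slot_sub slot_smul slot_zero slot_neg slot_sum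
  slot_comm tens tens_apply tens_mul tens_one tensGL tensGL_val In conjM conjM_apply conjM_one perm perm_tens
  comm_entries)

universe u

variable {τ γ : Type} [Fintype τ] [DecidableEq τ] [Fintype γ] [DecidableEq γ] {F : Type u} [Field F]

namespace Pol

variable {P : Pol γ F} {X : Subgroup (GL (τ → γ) F)}

theorem In.conj' {M : Matrix (τ → γ) (τ → γ) F} {k : GL (τ → γ) F} (hk : k ∈ X) (h : In X M) :
    In X (conjM k M) := by
  obtain ⟨g, hg, e⟩ := h
  exact ⟨k * g * k⁻¹, mul_mem (mul_mem hk hg) (inv_mem hk), by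
    rw [Units.val_mul, Units.val_mul, e, mul_add, mul_one, add_mul, Units.mul_inv, conjM_apply]⟩

variable (P) in
/-- The opposite of `EI`. -/
def EI' (I : Finset τ) : Matrix (τ → γ) (τ → γ) F := onSet I fun _ => P.r P.eo' P.eo'

variable (P) in
/-- The projection on the coordinates `o'` in `I`. -/
def PI' (I : Finset τ) : Matrix (τ → γ) (τ → γ) F := onSet I fun _ => P.r P.eo P.eo'

variable (P) in
/-- The projection on the coordinates `o` in `I`. -/
def PI (I : Finset τ) : Matrix (τ → γ) (τ → γ) F := onSet I fun _ => P.r P.eo' P.eo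

theorem dag_PI' (I : Finset τ) : P.dag (P.PI' I : Matrix (τ → γ) (τ → γ) F) = P.PI I := by
  rw [PI', P.dag_onSet, PI]
  exact onSet_congr fun l _ => adj_rk P.invol P.nu_nu _ _

theorem exists_flip [Finite F] (hX : P.Hyp X) (I : Finset τ) :
    ∃ b : τ → GL γ F, (∀ l, b l ∈ P.SU) ∧ (∀ l ∉ I, b l = 1) ∧ conjM (tensGL b) (P.EI I) = P.EI' I := by
  obtain ⟨m, hm, hmo⟩ := exists_move (P := P) eo'_ne eo'_iso
  refine ⟨fun l => if l ∈ I then m else 1, fun l => ?_, fun l hl => if_neg hl, ?_⟩
  · by_cases h : l ∈ I <;> simp [h, hm, one_mem]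
  rw [EI, onSet_conj _ (fun l hl => if_neg hl), EI']
  refine onSet_congr fun l hl => ?_
  simp only [if_pos hl, E, conj_r hm, hmo]

theorem cm_PI {i : τ} {I : Finset τ} (h : i ∉ I) :
    CM i (P.PI I : Matrix (τ → γ) (τ → γ) F) ∧ CM i (P.PI' I : Matrix (τ → γ) (τ → γ) F) :=
  ⟨cm_onSet h _, cm_onSet h _⟩

theorem boost_big [Finite F] (hX : P.Hyp X) {i : τ} {J : Finset τ} (hi : i ∉ J) (hq : 3 ≤ P.herm.q)
    (hM : P.Mon X (insert i J)) : P.PI' J ∈ rads hX i := by
  obtain ⟨κ, hκ, hκ0, hκ1⟩ := exists_fixed_ne hq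
  obtain ⟨s, hs, hs0⟩ := P.conj.exists_skew
  set I := insert i J with hI
  obtain ⟨b, hb, hb1, hflip⟩ := exists_flip hX I
  set Pp := (P.EI I : Matrix (τ → γ) (τ → γ) F)
  set Pm := (P.EI' I : Matrix (τ → γ) (τ → γ) F)
  have hmul : ∀ f g : γ → F, ∀ f' g' : γ → F,
      (onSet I (fun _ => P.r f g) * onSet I (fun _ => P.r f' g') : Matrix (τ → γ) (τ → γ) F) =
        onSet I (fun _ => P.h g' f • P.r f' g) := fun f g f' g' => by
    rw [onSet_mul]; exact onSet_congr fun l _ => r_mul_r f g f' g'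
  have hz : (onSet I (fun _ => (0 : Matrix γ γ F)) : Matrix (τ → γ) (τ → γ) F) = 0 := by
    rw [hI, onSet_insert hi, slot_zero, mul_zero]
  have pp : Pp * Pp = 0 := by rw [show Pp = onSet I fun _ => P.r P.eo P.eo from rfl, hmul]; simpa [eo_iso] using hz
  have mm : Pm * Pm = 0 := by rw [show Pm = onSet I fun _ => P.r P.eo' P.eo' from rfl, hmul]; simpa [eo'_iso] using hz
  have pm : Pp * Pm = P.PI I := by
    rw [show Pm = onSet I fun _ => P.r P.eo' P.eo' from rfl, show Pp = onSet I fun _ => P.r P.eo P.eo from rfl, hmul]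
    simp [eo'_eo, PI]
  have mp : Pm * Pp = P.PI' I := by
    rw [show Pm = onSet I fun _ => P.r P.eo' P.eo' from rfl, show Pp = onSet I fun _ => P.r P.eo P.eo from rfl, hmul]
    simp [eo_eo', PI']
  have pmp : Pp * Pm * Pp = Pp := by
    rw [pm, show Pp = onSet I fun _ => P.r P.eo P.eo from rfl, PI, hmul]
    simp [eo_eo']
  have mpm : Pm * Pp * Pm = Pm := by
    rw [mp, show Pm = onSet I fun _ => P.r P.eo' P.eo' from rfl, PI', hmul]
    simp [eo'_eo]
  have hu : ∀ a : F, a + P.σ a = 0 → In X (a • Pp) ∧ In X (a • Pm) := fun a ha => by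
    refine ⟨hM a ha, ?_⟩
    have := In.conj' (tensGL_mem hX hb) (hM a ha)
    rwa [map_smul, hflip] at this
  have hw : ∀ a : F, a ≠ 0 → a + P.σ a = 0 →
      ∃ g ∈ X, (g : Matrix (τ → γ) (τ → γ) F) = 1 - Pp * Pm - Pm * Pp + a • Pp - a⁻¹ • Pm := by
    intro a ha ha0
    obtain ⟨g₁, hg₁, e₁⟩ := (hu a ha0).1
    obtain ⟨g₂, hg₂, e₂⟩ := (hu (-a⁻¹) (by
      rw [map_neg, map_inv₀, eq_neg_of_add_eq_zero_right ha0, inv_neg, neg_neg, neg_add_cancel])).2
    refine ⟨g₁ * g₂ * g₁, mul_mem (mul_mem hg₁ hg₂) hg₁, ?_⟩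
    rw [Units.val_mul, Units.val_mul, e₁, e₂]
    have e3 : (1 + a • Pp) * (1 + -a⁻¹ • Pm) = 1 + a • Pp - a⁻¹ • Pm - Pp * Pm := by
      rw [add_mul, one_mul, mul_add, mul_one, smul_mul_smul_comm, mul_neg, mul_inv_cancel₀ ha]
      module
    rw [e3, mul_add, mul_one, sub_mul, sub_mul, add_mul, one_mul, smul_mul_smul_comm, pp, smul_zero,
      mul_smul_comm a (Pp * Pm), pmp, smul_mul_smul_comm, inv_mul_cancel₀ ha]
    module
  obtain ⟨g₁, hg₁, e₁⟩ := hw (κ * s) (mul_ne_zero hκ0 hs) (by rw [map_mul, hκ]; linear_combination κ * hs0)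
  obtain ⟨g₂, hg₂, e₂⟩ := hw (-s) (neg_ne_zero.mpr hs) (by rw [map_neg]; linear_combination -hs0)
  set T := (1 : Matrix (τ → γ) (τ → γ) F) - Pp * Pm - Pm * Pp with hT
  have hTT : ∀ a a' : F, a ≠ 0 → a' ≠ 0 → (T + a • Pp - a⁻¹ • Pm) * (T + a' • Pp - a'⁻¹ • Pm) =
      T - (a * a'⁻¹) • (Pp * Pm) - (a⁻¹ * a') • (Pm * Pp) := by
    intro a a' ha ha'
    have ppx : ∀ x, Pp * (Pp * x) = 0 := fun x => by rw [← mul_assoc, pp, zero_mul]
    have mmx : ∀ x, Pm * (Pm * x) = 0 := fun x => by rw [← mul_assoc, mm, zero_mul]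
    have pmp' : Pp * (Pm * Pp) = Pp := by rw [← mul_assoc, pmp]
    have mpm' : Pm * (Pp * Pm) = Pm := by rw [← mul_assoc, mpm]
    have pmx : ∀ x, Pp * (Pm * (Pp * x)) = Pp * x := fun x => by rw [← mul_assoc, ← mul_assoc, pmp]
    have mpx : ∀ x, Pm * (Pp * (Pm * x)) = Pm * x := fun x => by rw [← mul_assoc, ← mul_assoc, mpm]
    simp only [hT, add_mul, mul_add, sub_mul, mul_sub, one_mul, mul_one, smul_mul_assoc, mul_smul_comm, smul_smul,
      mul_assoc, pp, mm, ppx, mmx, pmp', mpm', pmx, mpx, mul_zero, smul_zero, sub_zero, add_zero, sub_self]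
    module
  set a := κ - 1
  set a' := κ⁻¹ - 1
  have hD : ((g₁ * g₂ : GL (τ → γ) F) : Matrix (τ → γ) (τ → γ) F) = 1 + a • P.PI I + a' • P.PI' I := by
    rw [Units.val_mul, e₁, e₂, hTT _ _ (mul_ne_zero hκ0 hs) (neg_ne_zero.mpr hs), hT, ← pm, ← mp,
      show κ * s * (-s)⁻¹ = -κ by field_simp, show (κ * s)⁻¹ * -s = -κ⁻¹ by field_simp]
    simp only [a, a', sub_smul, neg_smul, one_smul]
    abel
  have hPI : P.PI I = P.PI J * slot i (P.r P.eo' P.eo) := by rw [PI, PI, hI, onSet_insert hi]
  have hPI' : P.PI' I = P.PI' J * slot i (P.r P.eo P.eo') := by rw [PI', PI', hI, onSet_insert hi]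
  set D := g₁ * g₂ with hDdef
  have hDX : D ∈ X := mul_mem hg₁ hg₂
  have hDi : ((D⁻¹ : GL (τ → γ) F) : Matrix (τ → γ) (τ → γ) F) = 1 + a' • P.PI I + a • P.PI' I := by
    refine Units.inv_eq_of_mul_eq_one_right ?_
    rw [hD, ← pm, ← mp]
    have pmx : Pp * Pm * (Pp * Pm) = Pp * Pm := by rw [← mul_assoc, pmp]
    have mpx : Pm * Pp * (Pm * Pp) = Pm * Pp := by rw [← mul_assoc, mpm]
    have x1 : Pp * Pm * (Pm * Pp) = 0 := by rw [← mul_assoc, mul_assoc Pp, mm, mul_zero, zero_mul]
    have x2 : Pm * Pp * (Pp * Pm) = 0 := by rw [← mul_assoc, mul_assoc Pm, pp, mul_zero, zero_mul]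
    have ha : a + a' + a * a' = 0 := by simp only [a, a']; field_simp; ring
    simp only [add_mul, mul_add, one_mul, mul_one, smul_mul_assoc, mul_smul_comm, smul_smul, pmx, mpx, x1, x2,
      smul_zero, add_zero]
    linear_combination (norm := module) ha • (Pp * Pm) + ha • (Pm * Pp)
  obtain ⟨hcP, hcP'⟩ := cm_PI (P := P) hi
  set Y : Matrix (τ → γ) (τ → γ) F := 1 + a • P.PI' J with hY
  have hYmem : Y ∈ rads hX i := by
    refine ⟨CM.one.add (hcP'.smul a), fun w hw => ?_⟩
    obtain ⟨l, hl⟩ := exists_l (P := P) w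
    refine ⟨l • ((1 + a • P.PI J) * (1 + a • P.PI' J)),
      ((CM.one.add (hcP.smul a)).mul (CM.one.add (hcP'.smul a))).smul l, ?_⟩
    obtain ⟨g, hg, eg⟩ := slot_root_in hX i hw hl
    refine ⟨D * g * D⁻¹, mul_mem (mul_mem hDX hg) (inv_mem hDX), ?_⟩
    rw [Units.val_mul, Units.val_mul, eg, mul_add, mul_one, add_mul, Units.mul_inv, hD, hDi]
    congr 1
    have hσa : P.σ a = a := by simp only [a, map_sub, hκ, map_one]
    rw [U, U, hY, P.dag_one, P.dag_add, P.dag_one, P.dag_smul, hσa, dag_PI', hPI, hPI', one_mul, one_mul, smul_one_mul]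
    have hmv : ∀ (M : Matrix (τ → γ) (τ → γ) F) (A B : Matrix γ γ F),
        M * slot i A * slot i B = M * slot i (A * B) := fun M A B => by rw [mul_assoc, ← slot_mul]
    have hmv' : ∀ (M N : Matrix (τ → γ) (τ → γ) F) (A B : Matrix γ γ F), CM i N →
        M * slot i A * (N * slot i B) = M * N * slot i (A * B) := fun M N A B h => CM.move h A B
    have hsl : ∀ (N : Matrix (τ → γ) (τ → γ) F) (A B : Matrix γ γ F), CM i N →
        slot i A * (N * slot i B) = N * slot i (A * B) := fun N A B h => by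
      rw [← mul_assoc, (h A).eq, mul_assoc, ← slot_mul]
    simp only [add_mul, mul_add, sub_mul, mul_sub, one_mul, mul_one, smul_mul_assoc, mul_smul_comm, hmv,
      hmv' _ _ _ _ hcP, hmv' _ _ _ _ hcP', hsl _ _ _ hcP, hsl _ _ _ hcP', E, r_mul_r, eo_iso, eo'_iso, eo_eo',
      eo'_eo, hw.perp.1, hw.perp.2, hw.perp'.1, hw.perp'.2, zero_smul, one_smul, slot_zero, slot_smul, mul_zero,
      smul_zero, sub_zero, add_zero, zero_add, zero_sub, smul_smul, neg_mul, smul_neg, smul_add, smul_sub]
    module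
  have := (rads hX i).smul_mem a⁻¹ (sub_mem hYmem (one_mem_rads hX i))
  rwa [hY, add_sub_cancel_left, smul_smul, inv_mul_cancel₀ (sub_ne_zero.mpr hκ1), one_smul] at this

theorem cen_le_rads [Finite F] (hX : P.Hyp X) (h4 : 4 ≤ Fintype.card γ) {i : τ} {M : Matrix (τ → γ) (τ → γ) F}
    (h : P.Cen X i M) : M ∈ rads hX i := by
  have hsk := hX.skew h
  refine ⟨h.1, ?_⟩
  let W : AddSubmonoid (γ → F) :=
    { carrier := {w | P.InQ w ∧ ∃ C, CM i C ∧ In X (P.U i w M C)}
      zero_mem' := ⟨⟨rfl, rfl⟩, 0, CM.zero, 1, one_mem X, by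
        rw [U, r_zero_right, r_zero_left, slot_zero, mul_zero, mul_zero, zero_mul, sub_zero, add_zero, add_zero,
          Units.val_one]⟩
      add_mem' := fun {w w'} hw hw' => by
        obtain ⟨hwQ, C, hC, g, hg, eg⟩ := hw
        obtain ⟨hwQ', C', hC', g', hg', eg'⟩ := hw'
        refine ⟨⟨by simp [hwQ.1, hwQ'.1], by simp [hwQ.2, hwQ'.2]⟩, C + C' + -(P.h w' w • (P.dag M * M)),
          (hC.add hC').add (((P.cm_dag h.1).mul h.1).smul _).neg, g * g', mul_mem hg hg', ?_⟩
        rw [Units.val_mul, eg, eg', add_mul, one_mul, mul_add, mul_one, U_mul hwQ hwQ' h.1 hC', U, U, U, r_add_left,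
          r_add_right, slot_add, slot_add]
        simp only [add_mul, mul_add, neg_mul, smul_mul_assoc]
        abel }
  have hiso : ∀ w, P.InQ w → P.h w w = 0 → w ∈ W := by
    intro w hwQ hww
    by_cases hw0 : w = 0
    · rw [hw0]; exact W.zero_mem
    obtain ⟨hMc, g, hg, eg⟩ := h
    have hz : ∀ v, v ≠ 0 → P.h v v = 0 → In X (M * slot i (P.r v v)) := by
      intro v hv hvv
      obtain ⟨b, hb, hbv⟩ := exists_move (P := P) hv hvv
      have := In.conj' (hX.slotMem i b hb) (⟨g, hg, eg⟩ : In X (M * slot i P.E))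
      rwa [conjM_apply, slotU_val, slotU_inv, ← mul_assoc, (hMc _).eq, mul_assoc M, mul_assoc M, ← slot_mul,
        ← slot_mul, E, conj_r hb, hbv] at this
    have hp0 : P.eo + w ≠ 0 := fun e => by simpa [eo, hwQ.1] using congrFun e P.o
    have hpp : P.h (P.eo + w) (P.eo + w) = 0 := by
      rw [h_add_left, h_add_right, h_add_right, eo_iso, hww, hwQ.perp.1, hwQ.perp'.1, add_zero, add_zero]
    have hn : ∀ v, v ≠ 0 → P.h v v = 0 → In X (-M * slot i (P.r v v)) := fun v hv hvv => by
      obtain ⟨k, hk, ek⟩ := hz v hv hvv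
      refine ⟨k⁻¹, inv_mem hk, Units.inv_eq_of_mul_eq_one_right ?_⟩
      rw [ek, neg_mul, add_mul, one_mul, mul_add, mul_one, mul_neg, CM.move hMc, r_mul_r, hvv, zero_smul, slot_zero,
        mul_zero, neg_zero, add_zero, neg_add_cancel_right]
    refine ⟨hwQ, 0, CM.zero, ?_⟩
    obtain ⟨k₁, hk₁, ek₁⟩ := hz _ hp0 hpp
    obtain ⟨k₂, hk₂, ek₂⟩ := hn w hw0 hww
    obtain ⟨k₃, hk₃, ek₃⟩ := hn P.eo eo_ne eo_iso
    refine ⟨k₁ * k₂ * k₃, mul_mem (mul_mem hk₁ hk₂) hk₃, ?_⟩
    rw [Units.val_mul, Units.val_mul, ek₁, ek₂, ek₃, U, hsk]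
    simp only [add_mul, mul_add, one_mul, mul_one, neg_mul, mul_neg, CM.move hMc, r_mul_r, r_add_left, r_add_right,
      h_add_left, h_add_right, eo_iso, hww, hwQ.perp.1, hwQ.perp'.1, zero_smul, slot_zero, slot_add, slot_smul,
      mul_zero, zero_mul, add_zero, zero_add, neg_zero, sub_neg_eq_add]
    abel
  intro w hw
  have hall : ∀ b ∈ P.Q, ∀ c : F, (Pi.single b c : γ → F) ∈ W := by
    intro b hb c
    obtain ⟨a, ha⟩ : ∃ a, a ∉ ({P.o, P.o', b} : Finset γ) := by
      by_contra hh
      push Not at hh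
      have := (Finset.card_le_card (fun x _ => hh x : (Finset.univ : Finset γ) ⊆ _)).trans Finset.card_le_three
      rw [Finset.card_univ] at this
      omega
    simp only [Finset.mem_insert, Finset.mem_singleton, not_or] at ha
    obtain ⟨z, hz⟩ := P.conj.norm_surjective (a := (-1 : F)) (by rw [map_neg, map_one])
    obtain ⟨θ, hθ⟩ := P.conj.ne_id
    have hθ0 : θ ≠ 0 := fun e => hθ (by rw [e, map_zero])
    have hz0 : z ≠ 0 := fun e => by rw [e, zero_mul] at hz; exact neg_ne_zero.mpr one_ne_zero hz.symm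
    set z' := z * (P.σ θ / θ) with hz'
    have hzz' : z' * P.σ z' = -1 := by
      rw [hz', map_mul, map_div₀, P.invol, ← hz]
      field_simp [(map_ne_zero P.σ).mpr hθ0]
    have hne : z - z' ≠ 0 := by
      rw [hz', ← mul_one_sub, mul_ne_zero_iff, sub_ne_zero]
      exact ⟨hz0, fun e => hθ ((div_eq_one_iff_eq hθ0).mp e.symm)⟩
    have hv : ∀ (d x : F), x * P.σ x = -1 → d • (Pi.single a 1 + Pi.single b x : γ → F) ∈ W := by
      intro d x hx
      have hb' := mem_Q.mp hb
      refine hiso _ ?_ ?_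
      · constructor <;> simp [Ne.symm ha.1, Ne.symm ha.2.1, Ne.symm hb'.1, Ne.symm hb'.2]
      · rw [h_smul_left, h_smul_right, h_add_left, h_add_right, h_add_right, h_single_self ha.1 ha.2.1,
          h_single_self hb'.1 hb'.2,
          show (Pi.single b x : γ → F) = x • Pi.single b 1 by rw [← Pi.single_smul, smul_eq_mul, mul_one],
          h_smul_left, h_smul_right, h_single, h_single, P.nu_of hb'.1 hb'.2, P.nu_of ha.1 ha.2.1,
          Pi.single_eq_of_ne (Ne.symm ha.2.2), Pi.single_eq_of_ne ha.2.2, map_one, hx]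
        ring
    have := W.add_mem (hv (c / (z - z')) z hz) (hv (-(c / (z - z'))) z' hzz')
    convert this using 1
    funext x
    simp only [Pi.add_apply, Pi.smul_apply, smul_eq_mul]
    by_cases hxb : x = b
    · subst hxb; simp only [Pi.single_eq_same, Pi.single_eq_of_ne (Ne.symm ha.2.2), zero_add]; field_simp; ring
    · simp [hxb]
  have hw' : w ∈ W := by
    rw [eq_sum_single hw]
    refine sum_mem fun a ha => ?_
    rw [← Pi.single_smul, smul_eq_mul, mul_one]
    exact hall a ha _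
  exact hw'.2

theorem boost [Finite F] (hX : P.Hyp X) {i : τ} {J : Finset τ} (hi : i ∉ J) (hM : P.Mon X (insert i J)) :
    P.PI' J ∈ rads hX i := by
  by_cases hq : 3 ≤ P.herm.q
  · exact boost_big hX hi hq hM
  have h4 : 4 ≤ Fintype.card γ := hX.room.resolve_right fun h => hq h.2
  obtain ⟨s, hs, hs0⟩ := P.conj.exists_skew
  have hE : P.EI J ∈ rads hX i := by
    have := (rads hX i).smul_mem s⁻¹ (cen_le_rads hX h4 ((hX.cen_iff hi s).mpr (hM s hs0)))
    rwa [smul_smul, inv_mul_cancel₀ hs, one_smul] at this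
  obtain ⟨b, hb, hb1, hflip⟩ := exists_flip hX J
  have hE' : P.EI' J ∈ rads hX i := by
    rw [← hflip, conjM_apply]
    exact rads_conj hX (tensGL_mem hX hb) (cm_tensGL (hb1 i hi)) hE
  obtain ⟨θ, hθ⟩ := P.conj.ne_id
  have hne : θ - P.σ θ ≠ 0 := sub_ne_zero.mpr (Ne.symm hθ)
  have h1 := cen_le_rads hX h4 (cen_pair hX hE hE' 1)
  have h2 := cen_le_rads hX h4 (cen_pair hX hE hE' θ)
  have h3 := (rads hX i).smul_mem (θ - P.σ θ)⁻¹ (sub_mem h2 ((rads hX i).smul_mem (P.σ θ) h1))
  have e : P.PI' J = P.dag (P.EI' J) * P.EI J := by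
    rw [EI', P.dag_onSet, EI, onSet_mul, PI']
    refine onSet_congr fun l _ => ?_
    rw [Pi.mul_apply, adjoint, r, adj_rk P.invol P.nu_nu, E, r_mul_r, eo_eo', one_smul]
  rw [e]
  convert h3 using 1
  rw [eq_inv_smul_iff₀ hne, map_one]
  module

/-- All pure tensors on `J` are operators of radical elements. -/
def AllOn (hX : P.Hyp X) (i : τ) (J : Finset τ) : Prop := ∀ f, onSet J f ∈ rads hX i

theorem allOn_of_proj [Finite F] (hX : P.Hyp X) {i : τ} {J : Finset τ} (hi : i ∉ J) (h : P.PI' J ∈ rads hX i) :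
    AllOn hX i J := by
  suffices key : ∀ A : Finset τ, A ⊆ J → ∀ f : τ → Matrix γ γ F,
      onSet J (fun l => if l ∈ A then f l else P.r P.eo P.eo') ∈ rads hX i by
    intro f
    have := key J subset_rfl f
    rwa [show onSet J (fun l => if l ∈ J then f l else P.r P.eo P.eo') = onSet J f from
      onSet_congr fun l hl => if_pos hl] at this
  intro A
  induction A using Finset.induction with
  | empty =>
    intro _ f
    simpa [PI'] using h
  | insert a A ha ih =>
    intro hsub f
    have haJ : a ∈ J := hsub (Finset.mem_insert_self a A)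
    set Z := onSet (J.erase a) (fun l => if l ∈ A then f l else P.r P.eo P.eo') with hZ
    have hsplit : ∀ g : τ → Matrix γ γ F, onSet J g = onSet (J.erase a) g * slot a (g a) := fun g => by
      rw [← onSet_insert (Finset.notMem_erase a J), Finset.insert_erase haJ]
    have hai : i ≠ a := fun e => hi (e ▸ haJ)
    let S : Submodule F (Matrix γ γ F) :=
      { carrier := {B | Z * slot a B ∈ rads hX i}
        add_mem' := fun {B B'} hB hB' => by
          show _ ∈ rads hX i
          rw [slot_add, mul_add]; exact add_mem hB hB'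
        zero_mem' := by show _ ∈ rads hX i; rw [slot_zero, mul_zero]; exact zero_mem _
        smul_mem' := fun c B hB => by
          show _ ∈ rads hX i
          rw [slot_smul, mul_smul_comm]; exact (rads hX i).smul_mem c hB }
    have hS : P.Inv S := by
      intro b hb B hB
      have := rads_conj hX (hX.slotMem a b hb) (by rw [slotU_val]; exact CM.slot hai _) hB
      show _ ∈ rads hX i
      rwa [slotU_val, slotU_inv, ← mul_assoc, (cm_onSet (Finset.notMem_erase a J) _ _).eq, mul_assoc Z, mul_assoc Z,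
        ← slot_mul, ← slot_mul] at this
    have h0 : P.r P.eo P.eo' ∈ S := by
      show _ ∈ rads hX i
      have := ih (fun l hl => hsub (Finset.mem_insert_of_mem hl)) f
      rwa [hsplit, if_neg ha] at this
    obtain ⟨s, hs, hs0⟩ := P.conj.exists_skew
    have hrd : P.RD P.eo 0 s := rd_eo ⟨rfl, rfl⟩ (by rw [h_zero_left, neg_zero]; exact hs0)
    have hN : P.N P.eo 0 s = s • P.E := by rw [N, r_zero_left, r_zero_right, sub_zero, zero_add, E]
    have hi' : ((root hrd)⁻¹ : GL γ F).1 = 1 - s • P.E := by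
      refine Units.inv_eq_of_mul_eq_one_right ?_
      rw [root_val, hN, add_mul, one_mul, mul_sub, mul_one, smul_mul_smul_comm, E_sq, smul_zero, sub_zero,
        sub_add_cancel]
    have hE : P.E ∈ S := by
      have hm := hS _ (root_mem hrd) _ h0
      rw [root_val, hN, hi'] at hm
      simp only [add_mul, one_mul, mul_sub, mul_one, smul_mul_assoc, mul_smul_comm, E, r_mul_r, eo_iso, eo'_eo,
        one_smul, zero_smul, smul_zero, sub_zero, add_zero] at hm
      have := S.smul_mem s⁻¹ (sub_mem hm h0)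
      rwa [add_sub_cancel_left, smul_smul, inv_mul_cancel₀ hs, one_smul] at this
    have hu : Matrix.single P.o P.o (1 : F) = P.r P.eo' P.eo := by
      rw [eo', eo, r, rk_single P.nu_nu, P.nu_o']
    have hoo : Matrix.single P.o P.o (1 : F) ∈ S := by
      have hF : P.r P.eo' P.eo' ∈ S := by
        rw [eo', r, rk_single P.nu_nu, P.nu_o']
        exact (inv_offdiag hS hE).1 _ _ P.ne.symm
      have hm := hS _ (root_mem hrd) _ hF
      rw [root_val, hN, hi'] at hm
      simp only [add_mul, one_mul, mul_sub, mul_one, smul_mul_assoc, mul_smul_comm, E, r_mul_r, eo'_eo, eo_eo',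
        one_smul] at hm
      rw [hu]
      have := S.smul_mem s⁻¹ (add_mem (add_mem (sub_mem hm hF) (S.smul_mem s h0)) (S.smul_mem (s * s) hE))
      convert this using 1
      rw [eq_inv_smul_iff₀ hs]
      simp only [E]
      module
    have htop := (inv_offdiag hS hE).2 hoo
    have hfa : f a ∈ S := htop ▸ Submodule.mem_top
    have hfa' : Z * slot a (f a) ∈ rads hX i := hfa
    rw [hsplit, if_pos (Finset.mem_insert_self a A),
      show onSet (J.erase a) (fun l => if l ∈ insert a A then f l else P.r P.eo P.eo') = Z from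
        onSet_congr fun l hl => by simp [Finset.ne_of_mem_erase hl]]
    exact hfa'

theorem mon_union [Finite F] (hX : P.Hyp X) {i : τ} {I J : Finset τ} (hi : i ∉ I ∪ J) (hd : Disjoint I J)
    (h₁ : P.EI I ∈ rads hX i) (h₂ : P.EI J ∈ rads hX i) : P.Mon X (insert i (I ∪ J)) := by
  obtain ⟨θ, hθ⟩ := P.conj.ne_id
  have h := cen_pair hX h₁ h₂ θ
  have hdag : ∀ K : Finset τ, P.dag (P.EI K : Matrix (τ → γ) (τ → γ) F) = P.EI K := fun K => by
    rw [EI, P.dag_onSet]; exact onSet_congr fun l _ => adj_E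
  have e1 : (P.EI J * P.EI I : Matrix (τ → γ) (τ → γ) F) = P.EI (I ∪ J) := by
    rw [EI, EI, EI, Finset.union_comm, onSet_union hd.symm]
  have e2 : (P.EI I * P.EI J : Matrix (τ → γ) (τ → γ) F) = P.EI (I ∪ J) := by rw [EI, EI, EI, onSet_union hd]
  rw [hdag, hdag, e1, e2, ← sub_smul] at h
  exact hX.mon_of_ne hi (sub_ne_zero.mpr (Ne.symm hθ)) (by rw [map_sub, P.invol]; ring) h

theorem mon_perm (hX : P.Hyp X) {i m x : τ} (him : i ≠ m) (hxi : x ≠ i) (h : P.Mon X {i, m}) :
    P.Mon X {i, x} := by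
  by_cases hxm : x = m
  · subst hxm; exact h
  obtain ⟨k, hk, ek⟩ := hX.cyc i x m hxi.symm hxm him
  set π := Equiv.swap i x * Equiv.swap x m
  intro s hs
  have := In.conj' hk (h s hs)
  rwa [map_smul, conjM_apply, EI, onSet, ek, perm_tens, mul_assoc, ← ek, Units.mul_inv, mul_one,
    show (fun l => if π.symm l ∈ ({i, m} : Finset τ) then P.E else 1) =
      fun l => if l ∈ ({i, x} : Finset τ) then P.E else 1 from funext fun l => by
        have h1 : π.symm l ∈ ({i, m} : Finset τ) ↔ l ∈ ({i, x} : Finset τ) := by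
          have hpi : π i = x := by
            show Equiv.swap i x (Equiv.swap x m i) = x
            rw [Equiv.swap_apply_of_ne_of_ne (Ne.symm hxi) him, Equiv.swap_apply_left]
          have hpm : π m = i := by
            show Equiv.swap i x (Equiv.swap x m m) = i
            rw [Equiv.swap_apply_right, Equiv.swap_apply_right]
          simp only [Finset.mem_insert, Finset.mem_singleton, Equiv.symm_apply_eq, hpi, hpm]
          tauto
        simp only [h1]] at this

/-- A non-scalar centre at one slot gives all operators at every slot. -/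
theorem rads_full [Finite F] (hX : P.Hyp X) {i₀ : τ} (hC : ¬ P.CScal X i₀) (i : τ)
    {Y : Matrix (τ → γ) (τ → γ) F} (hY : CM i Y) : Y ∈ rads hX i := by
  classical
  obtain ⟨I₀, hi₀, hcard, hmon⟩ := exists_mon hX hC
  obtain ⟨m₀, hm₀, hne₀⟩ : ∃ m ∈ I₀, m ≠ i₀ := Finset.exists_mem_ne (by omega) i₀
  have hall₀ : AllOn hX i₀ (I₀.erase i₀) :=
    allOn_of_proj hX (Finset.notMem_erase i₀ I₀) (boost hX (Finset.notMem_erase i₀ I₀)
      (by rw [Finset.insert_erase hi₀]; exact hmon))
  have hm0 : P.Mon X {i₀, m₀} := by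
    have h1 : P.EI {m₀} ∈ rads hX i₀ := by
      have := hall₀ fun l => if l = m₀ then P.E else 1
      have hmem : m₀ ∈ I₀.erase i₀ := Finset.mem_erase.mpr ⟨hne₀, hm₀⟩
      rwa [← Finset.insert_erase hmem, onSet_insert (Finset.notMem_erase m₀ _), if_pos rfl,
        show onSet ((I₀.erase i₀).erase m₀) (fun l => if l = m₀ then P.E else 1) = (1 : Matrix (τ → γ) (τ → γ) F) by
          rw [onSet_congr (g := fun _ => 1) fun l hl => if_neg (Finset.ne_of_mem_erase hl)]
          simp [onSet, ← tens_one]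
          rfl, one_mul, ← onSet_singleton m₀ (fun _ => P.E)] at this
    have h2 : P.EI (∅ : Finset τ) ∈ rads hX i₀ := by
      rw [EI, onSet_empty]; exact one_mem_rads hX i₀
    have := mon_union hX (I := {m₀}) (J := ∅) (by simpa using hne₀.symm) (Finset.disjoint_empty_right _) h1 h2
    rwa [Finset.union_empty] at this
  have hpairs : ∀ a b : τ, a ≠ b → P.Mon X {a, b} := by
    intro a b hab
    by_cases ha : a = i₀
    · subst ha; exact mon_perm hX hne₀.symm hab.symm hm0
    · have h1 := mon_perm hX hne₀.symm ha hm0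
      rw [Finset.pair_comm] at h1
      exact mon_perm hX ha hab.symm h1
  have hall : ∀ s : Finset τ, i ∉ s → AllOn hX i s := by
    intro s
    induction s using Finset.induction with
    | empty => intro _ f; rw [onSet_empty]; exact one_mem_rads hX i
    | insert a s ha ih =>
      intro hi
      rw [Finset.mem_insert, not_or] at hi
      have h1 : AllOn hX i {a} := allOn_of_proj hX (by simpa using hi.1) (boost hX (by simpa using hi.1) (hpairs i a hi.1))
      refine allOn_of_proj hX (by simp [hi.1, hi.2]) (boost hX (by simp [hi.1, hi.2]) ?_)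
      rw [Finset.insert_eq a s]
      exact mon_union hX (by simp [hi.1, hi.2]) (Finset.disjoint_singleton_left.mpr ha) (h1 _) (ih hi.2 _)
  obtain ⟨h0, h1⟩ := comm_entries (fun p q => hY (Matrix.single p q (1 : F)))
  have e : Y = ∑ x ∈ Finset.univ.filter (fun x : τ → γ => x i = P.o), ∑ y ∈ Finset.univ.filter (fun y : τ → γ => y i = P.o),
      Y x y • onSet (Finset.univ.erase i) (fun l => Matrix.single (x l) (y l) (1 : F)) := by
    ext a b
    simp only [Matrix.sum_apply, Matrix.smul_apply, smul_eq_mul, onSet, tens_apply]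
    by_cases hab : a i = b i
    · rw [Finset.sum_eq_single (Function.update a i P.o), Finset.sum_eq_single (Function.update b i P.o),
        Finset.prod_eq_one, mul_one, h1 a b P.o hab]
      · intro l _
        by_cases hl : l = i
        · subst hl; simp [hab, Matrix.one_apply]
        · simp [hl]
      · intro y hy hyb
        obtain ⟨l, hl⟩ := Function.ne_iff.mp hyb
        have hli : l ≠ i := fun e => hl (by subst e; rw [Function.update_self]; exact (Finset.mem_filter.mp hy).2)
        rw [Function.update_of_ne hli] at hl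
        rw [Finset.prod_eq_zero (Finset.mem_univ l), mul_zero]
        simp [hli, Matrix.single_apply, hl]
      · simp
      · intro x hx hxa
        obtain ⟨l, hl⟩ := Function.ne_iff.mp hxa
        have hli : l ≠ i := fun e => hl (by subst e; rw [Function.update_self]; exact (Finset.mem_filter.mp hx).2)
        rw [Function.update_of_ne hli] at hl
        refine Finset.sum_eq_zero fun y _ => ?_
        rw [Finset.prod_eq_zero (Finset.mem_univ l), mul_zero]
        simp [hli, Matrix.single_apply, hl]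
      · simp
    · rw [h0 a b hab]
      refine (Finset.sum_eq_zero fun x _ => Finset.sum_eq_zero fun y _ => ?_).symm
      rw [Finset.prod_eq_zero (Finset.mem_univ i), mul_zero]
      simp [Matrix.one_apply_ne hab]
  rw [e]
  exact sum_mem fun x _ => sum_mem fun y _ => (rads hX i).smul_mem _ (hall _ (Finset.notMem_erase i _) _)

/-- All skew operators are centres. -/
theorem cen_full [Finite F] (hX : P.Hyp X) {i₀ : τ} (hC : ¬ P.CScal X i₀) (i : τ)
    {M : Matrix (τ → γ) (τ → γ) F} (hM : CM i M) (hsk : P.dag M = -M) : P.Cen X i M := by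
  obtain ⟨θ, hθ⟩ := P.conj.exists_trace_one
  have := cen_pair hX (rads_full hX hC i hM) (one_mem_rads hX i) θ
  rw [P.dag_one, one_mul, mul_one, hsk] at this
  convert this using 1
  linear_combination (norm := module) -hθ • M

end Pol

end Cfsg.Lib.Classical.TensorPowU
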