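import Cfsg.Agent.Classical.TensorPowU.Local
import Cfsg.Agent.Classical.TensorPowLin.Wreath

/-!
# A group containing the special unitary groups of the slots: radicals, their centres, pure tensors
-/

set_option autoImplicit false
set_option linter.unusedSectionVars false
set_option linter.unusedSimpArgs false
set_option linter.unusedVariables false

namespace Cfsg.Lib.Classical.TensorPowU

open Matrix Finset
open scoped MatrixGroups
open Cfsg.Lib.Classical.TensorPowLin (slot slot_mul slot_one slot_add slot_sub slot_smul slot_zero slot_neg slot_sum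
  slot_comm slot_injective outer outer_comm tens tens_apply tens_mul tens_one tensGL tensGL_val perm perm_tens In)

universe u

variable {τ γ : Type} [Fintype τ] [DecidableEq τ] [Fintype γ] [DecidableEq γ] {F : Type u} [Field F]

/-- A unit in one slot. -/
def slotU (i : τ) (b : GL γ F) : GL (τ → γ) F := tensGL (Pi.mulSingle i b)

theorem slotU_val (i : τ) (b : GL γ F) :
    ((slotU i b : GL (τ → γ) F) : Matrix (τ → γ) (τ → γ) F) = slot i (b : Matrix γ γ F) := by
  rw [slotU, tensGL_val, slot]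
  congr 1
  funext l
  by_cases h : l = i
  · subst h; simp
  · simp [h]

theorem slotU_inv (i : τ) (b : GL γ F) :
    (((slotU i b)⁻¹ : GL (τ → γ) F) : Matrix (τ → γ) (τ → γ) F) = slot i ((b⁻¹ : GL γ F) : Matrix γ γ F) := by
  rw [← slotU_val, slotU, slotU, ← map_inv, Pi.mulSingle_inv]

/-- Commuting with a whole slot. -/
def CM (i : τ) (M : Matrix (τ → γ) (τ → γ) F) : Prop := ∀ A : Matrix γ γ F, Commute (slot i A) M

section CM

variable {i : τ} {M N : Matrix (τ → γ) (τ → γ) F}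

theorem CM.one : CM i (1 : Matrix (τ → γ) (τ → γ) F) := fun A => Commute.one_right _

theorem CM.zero : CM i (0 : Matrix (τ → γ) (τ → γ) F) := fun A => Commute.zero_right _

theorem CM.add (h : CM i M) (h' : CM i N) : CM i (M + N) := fun A => (h A).add_right (h' A)

theorem CM.sub (h : CM i M) (h' : CM i N) : CM i (M - N) := fun A => (h A).sub_right (h' A)

theorem CM.mul (h : CM i M) (h' : CM i N) : CM i (M * N) := fun A => (h A).mul_right (h' A)

theorem CM.smul (h : CM i M) (c : F) : CM i (c • M) := fun A => (h A).smul_right c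

theorem CM.neg (h : CM i M) : CM i (-M) := fun A => (h A).neg_right

theorem CM.sum {κ : Type*} (s : Finset κ) {f : κ → Matrix (τ → γ) (τ → γ) F} (h : ∀ r ∈ s, CM i (f r)) :
    CM i (∑ r ∈ s, f r) := fun A => Commute.sum_right _ _ _ fun r hr => h r hr A

theorem CM.slot {l : τ} (h : i ≠ l) (B : Matrix γ γ F) : CM i (TensorPowLin.slot l B) := fun A => slot_comm h A B

theorem CM.move (h : CM i N) (A B : Matrix γ γ F) :
    M * TensorPowLin.slot i A * (N * TensorPowLin.slot i B) = M * N * TensorPowLin.slot i (A * B) := by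
  rw [slot_mul, mul_assoc M, ← mul_assoc (TensorPowLin.slot i A), (h A).eq]
  simp only [mul_assoc]

end CM

/-- A pure tensor supported on a set of slots. -/
def onSet (I : Finset τ) (f : τ → Matrix γ γ F) : Matrix (τ → γ) (τ → γ) F := tens fun l => if l ∈ I then f l else 1

theorem onSet_empty (f : τ → Matrix γ γ F) : onSet (∅ : Finset τ) f = 1 := by simp [onSet, ← tens_one]; rfl

theorem onSet_congr {I : Finset τ} {f g : τ → Matrix γ γ F} (h : ∀ l ∈ I, f l = g l) : onSet I f = onSet I g := by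
  rw [onSet, onSet]
  congr 1
  funext l
  by_cases hl : l ∈ I
  · rw [if_pos hl, if_pos hl, h l hl]
  · rw [if_neg hl, if_neg hl]

theorem onSet_mul (I : Finset τ) (f g : τ → Matrix γ γ F) : onSet I f * onSet I g = onSet I (f * g) := by
  rw [onSet, onSet, tens_mul, onSet]
  congr 1
  funext l
  simp only [Pi.mul_apply]
  by_cases hl : l ∈ I <;> simp [hl]

theorem onSet_union {I J : Finset τ} (h : Disjoint I J) (f : τ → Matrix γ γ F) :
    onSet (I ∪ J) f = onSet I f * onSet J f := by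
  rw [onSet, onSet, onSet, tens_mul]
  congr 1
  funext l
  simp only [Pi.mul_apply]
  by_cases hI : l ∈ I
  · simp [hI, Finset.disjoint_left.mp h hI]
  · by_cases hJ : l ∈ J <;> simp [hI, hJ]

theorem onSet_singleton (i : τ) (f : τ → Matrix γ γ F) : onSet {i} f = slot i (f i) := by
  rw [onSet, slot]
  congr 1
  funext l
  by_cases h : l = i
  · subst h; simp
  · simp [h]

theorem onSet_insert {I : Finset τ} {i : τ} (h : i ∉ I) (f : τ → Matrix γ γ F) :
    onSet (insert i I) f = onSet I f * slot i (f i) := by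
  rw [Finset.insert_eq, Finset.union_comm, onSet_union (Finset.disjoint_singleton_right.mpr h), onSet_singleton]

theorem cm_onSet {I : Finset τ} {i : τ} (h : i ∉ I) (f : τ → Matrix γ γ F) : CM i (onSet I f) := fun A => by
  show slot i A * onSet I f = onSet I f * slot i A
  rw [slot, onSet, tens_mul, tens_mul]
  congr 1
  funext l
  simp only [Pi.mul_apply]
  by_cases hl : l = i
  · subst hl; simp [h]
  · simp [hl]

namespace Pol

variable (P : Pol γ F)

/-- The adjoint on the tensor power. -/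
abbrev dag (M : Matrix (τ → γ) (τ → γ) F) : Matrix (τ → γ) (τ → γ) F := adj P.σ (pnu τ P.nu) M

theorem pnu_pnu (x : τ → γ) : pnu τ P.nu (pnu τ P.nu x) = x := funext fun l => P.nu_nu (x l)

theorem dag_slot (i : τ) (A : Matrix γ γ F) : P.dag (slot i A) = slot i (P.adjoint A) := adj_slot i A

theorem dag_mul (M N : Matrix (τ → γ) (τ → γ) F) : P.dag (M * N) = P.dag N * P.dag M := adj_mul M N

theorem dag_dag (M : Matrix (τ → γ) (τ → γ) F) : P.dag (P.dag M) = M := adj_adj P.invol P.pnu_pnu M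

theorem dag_onSet (I : Finset τ) (f : τ → Matrix γ γ F) :
    P.dag (onSet I f) = onSet I fun l => P.adjoint (f l) := by
  rw [onSet, dag, adj_tens, onSet]
  congr 1
  funext l
  by_cases hl : l ∈ I
  · rw [if_pos hl, if_pos hl]
  · rw [if_neg hl, if_neg hl, adj_one]

theorem dag_add (M N : Matrix (τ → γ) (τ → γ) F) : P.dag (M + N) = P.dag M + P.dag N := adj_add M N

theorem dag_smul (c : F) (M : Matrix (τ → γ) (τ → γ) F) : P.dag (c • M) = P.σ c • P.dag M := adj_smul c M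

theorem dag_zero : P.dag (0 : Matrix (τ → γ) (τ → γ) F) = 0 := adj_zero

theorem dag_one : P.dag (1 : Matrix (τ → γ) (τ → γ) F) = 1 := adj_one

theorem cm_dag {i : τ} {M : Matrix (τ → γ) (τ → γ) F} (h : CM i M) : CM i (P.dag M) := fun A => by
  have h1 := congrArg P.dag (h (P.adjoint A)).eq
  rw [dag_mul, dag_mul, dag_slot, adjoint, adj_adj P.invol P.nu_nu] at h1
  exact h1.symm

/-- `E` on a set of slots. -/
def EI (I : Finset τ) : Matrix (τ → γ) (τ → γ) F := onSet I fun _ => P.E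

/-- The radical part of a root element with operator `Y`. -/
def U (i : τ) (w : γ → F) (Y C : Matrix (τ → γ) (τ → γ) F) : Matrix (τ → γ) (τ → γ) F :=
  Y * slot i (P.r P.eo w) - P.dag Y * slot i (P.r w P.eo) + C * slot i P.E

variable (X : Subgroup (GL (τ → γ) F))

/-- `X` contains the slot groups and three-cycles and consists of isometries. -/
structure Hyp : Prop where
  room : P.Room
  iso : ∀ g ∈ X, Iso P.σ (pnu τ P.nu) (g : Matrix (τ → γ) (τ → γ) F)
  slotMem : ∀ (i : τ), ∀ b ∈ P.SU, slotU i b ∈ X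
  cyc : ∀ a b c : τ, a ≠ b → b ≠ c → a ≠ c →
    ∃ k ∈ X, (k : Matrix (τ → γ) (τ → γ) F) = perm (Equiv.swap a b * Equiv.swap b c)

/-- A central radical element. -/
def Cen (i : τ) (M : Matrix (τ → γ) (τ → γ) F) : Prop := CM i M ∧ In X (M * slot i P.E)

/-- All central radical elements are scalar. -/
def CScal (i : τ) : Prop := ∀ M, P.Cen X i M → ∃ c : F, M = c • 1

/-- All multiples of `E` on the slots in `I` give transvection-like elements. -/
def Mon (I : Finset τ) : Prop := ∀ s : F, s + P.σ s = 0 → In X (s • P.EI I)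

variable {P} {X}

theorem U_zero (i : τ) (C : Matrix (τ → γ) (τ → γ) F) : P.U i 0 0 C = C * slot i P.E := by
  rw [U, zero_mul, P.dag_zero, zero_mul, sub_zero, zero_add]

theorem U_smul (i : τ) (c : F) (w : γ → F) (Y C : Matrix (τ → γ) (τ → γ) F) :
    P.U i (c • w) Y C = P.U i w (c • Y) C := by
  rw [U, U, P.dag_smul, r_smul_right, r_smul_left, slot_smul, slot_smul, mul_smul_comm, mul_smul_comm,
    smul_mul_assoc, smul_mul_assoc]

theorem U_mul {i : τ} {w w' : γ → F} (hw : P.InQ w) (hw' : P.InQ w') {Y C Y' C' : Matrix (τ → γ) (τ → γ) F}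
    (hY' : CM i Y') (hC' : CM i C') :
    P.U i w Y C * P.U i w' Y' C' = -(P.h w' w • (P.dag Y * Y' * slot i P.E)) := by
  simp only [U, add_mul, sub_mul, mul_add, mul_sub]
  simp only [CM.move hY', CM.move (P.cm_dag hY'), CM.move hC', E, r_mul_r, eo_iso, hw.perp.1, hw'.perp.1, hw.perp'.1,
    hw'.perp'.1, zero_smul, slot_zero, mul_zero, slot_smul, mul_smul_comm, sub_zero, zero_sub, add_zero, zero_add]

theorem in_center {i : τ} {w w' : γ → F} (hw : P.InQ w) (hw' : P.InQ w') {Y C Y' C' : Matrix (τ → γ) (τ → γ) F}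
    (hY : CM i Y) (hY' : CM i Y') (hC : CM i C) (hC' : CM i C') (h : In X (P.U i w Y C))
    (h' : In X (P.U i w' Y' C')) :
    In X ((P.h w w' • (P.dag Y' * Y) - P.h w' w • (P.dag Y * Y')) * slot i P.E) := by
  obtain ⟨g, hg, eg⟩ := h
  obtain ⟨g', hg', eg'⟩ := h'
  set Z := (P.h w w' • (P.dag Y' * Y) - P.h w' w • (P.dag Y * Y')) * slot i P.E with hZ
  refine ⟨g * g' * (g' * g)⁻¹, mul_mem (mul_mem hg hg') (inv_mem (mul_mem hg' hg)), ?_⟩
  have hZU : ∀ (w₁ : γ → F) (Y₁ C₁ : Matrix (τ → γ) (τ → γ) F), P.InQ w₁ → CM i Y₁ → CM i C₁ →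
      Z * P.U i w₁ Y₁ C₁ = 0 := by
    intro w₁ Y₁ C₁ h1 h2 h3
    simp only [hZ, U, mul_add, mul_sub, CM.move h2, CM.move (P.cm_dag h2), CM.move h3, E, r_mul_r, eo_iso, h1.perp.1,
      zero_smul, slot_zero, mul_zero, sub_zero, add_zero]
  have hZE : ∀ M : Matrix (τ → γ) (τ → γ) F, CM i M → Z * (M * slot i P.E) = 0 := fun M hM => by
    rw [hZ, CM.move hM, E_sq, slot_zero, mul_zero]
  have e : ((g * g' : GL (τ → γ) F) : Matrix (τ → γ) (τ → γ) F) = (1 + Z) * ((g' * g : GL (τ → γ) F) :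
      Matrix (τ → γ) (τ → γ) F) := by
    rw [Units.val_mul, Units.val_mul, eg, eg']
    have hD := hZE _ ((P.cm_dag hY').mul hY |>.smul (P.h w w') |>.neg)
    have e1 : (1 + P.U i w' Y' C') * (1 + P.U i w Y C) =
        1 + P.U i w' Y' C' + P.U i w Y C + -(P.h w w' • (P.dag Y' * Y)) * slot i P.E := by
      rw [add_mul, one_mul, mul_add, mul_one, U_mul hw' hw hY hC, neg_mul, smul_mul_assoc]; abel
    have e2 : Z * (1 + P.U i w' Y' C' + P.U i w Y C + -(P.h w w' • (P.dag Y' * Y)) * slot i P.E) = Z := by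
      rw [mul_add, mul_add, mul_add, mul_one, hZU _ _ _ hw' hY' hC', hZU _ _ _ hw hY hC, hD, add_zero, add_zero,
        add_zero]
    rw [e1, add_mul _ Z, one_mul, e2, add_mul, one_mul, mul_add, mul_one, U_mul hw hw' hY' hC', hZ, sub_mul,
      smul_mul_assoc, neg_mul, smul_mul_assoc, smul_mul_assoc]
    abel
  rw [Units.val_mul, e, mul_assoc, Units.mul_inv, mul_one]

theorem cm_cancel {i : τ} {M : Matrix (τ → γ) (τ → γ) F} (hM : CM i M) (h : M * slot i P.E = 0) : M = 0 := by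
  rw [← mul_one M, ← slot_one (τ := τ) (F := F) (γ := γ) i,
    show (1 : Matrix γ γ F) = ∑ a, Matrix.single a P.o 1 * P.E * Matrix.single P.o' a 1 by
      simp only [E_eq, Matrix.single_mul_single_same, mul_one]
      rw [Matrix.sum_single_eq_diagonal, Matrix.diagonal_one], slot_sum, Finset.mul_sum]
  refine Finset.sum_eq_zero fun a _ => ?_
  rw [slot_mul, slot_mul, ← mul_assoc, ← mul_assoc, ← (hM _).eq, mul_assoc (slot i (Matrix.single a P.o 1)) M, h,
    mul_zero, zero_mul]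

theorem cm_conj {i : τ} {k : GL (τ → γ) F} (hk : CM i (k : Matrix (τ → γ) (τ → γ) F))
    {M : Matrix (τ → γ) (τ → γ) F} (hM : CM i M) :
    CM i ((k : Matrix (τ → γ) (τ → γ) F) * M * ((k⁻¹ : GL (τ → γ) F) : Matrix (τ → γ) (τ → γ) F)) := fun A =>
  ((hk A).mul_right (hM A)).mul_right (Commute.units_inv_right (hk A))

namespace Hyp

variable (hX : P.Hyp X)
include hX

theorem inv_eq {g : GL (τ → γ) F} (hg : g ∈ X) :
    ((g⁻¹ : GL (τ → γ) F) : Matrix (τ → γ) (τ → γ) F) = P.dag (g : Matrix (τ → γ) (τ → γ) F) :=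
  Units.inv_eq_of_mul_eq_one_left (hX.iso g hg)

theorem dag_conj {g : GL (τ → γ) F} (hg : g ∈ X) (M : Matrix (τ → γ) (τ → γ) F) :
    P.dag ((g : Matrix (τ → γ) (τ → γ) F) * M * ((g⁻¹ : GL (τ → γ) F) : Matrix (τ → γ) (τ → γ) F)) =
      (g : Matrix (τ → γ) (τ → γ) F) * P.dag M * ((g⁻¹ : GL (τ → γ) F) : Matrix (τ → γ) (τ → γ) F) := by
  rw [hX.inv_eq hg, P.dag_mul, P.dag_mul, P.dag_dag, mul_assoc]

theorem skew {i : τ} {M : Matrix (τ → γ) (τ → γ) F} (h : P.Cen X i M) : P.dag M = -M := by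
  obtain ⟨hM, g, hg, eg⟩ := h
  have h1 : P.dag (g : Matrix (τ → γ) (τ → γ) F) * (g : Matrix (τ → γ) (τ → γ) F) = 1 := hX.iso g hg
  have e : P.dag (M * slot i P.E) = P.dag M * slot i P.E := by
    rw [P.dag_mul, P.dag_slot, adj_E, ((P.cm_dag hM) P.E).eq]
  rw [eg, P.dag_add, P.dag_one, e, add_mul, one_mul, mul_add, mul_one, CM.move hM, E_sq, slot_zero,
    mul_zero, add_zero, add_assoc, add_eq_left, add_comm, ← add_mul] at h1
  have := cm_cancel ((P.cm_dag hM).add hM) h1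
  exact eq_neg_of_add_eq_zero_left this

theorem conj_U {i : τ} {k : GL (τ → γ) F} (hk : k ∈ X) (hkc : CM i (k : Matrix (τ → γ) (τ → γ) F)) (w : γ → F)
    (Y C : Matrix (τ → γ) (τ → γ) F) (h : In X (P.U i w Y C)) :
    In X (P.U i w ((k : Matrix (τ → γ) (τ → γ) F) * Y * ((k⁻¹ : GL (τ → γ) F) : Matrix (τ → γ) (τ → γ) F))
      ((k : Matrix (τ → γ) (τ → γ) F) * C * ((k⁻¹ : GL (τ → γ) F) : Matrix (τ → γ) (τ → γ) F))) := by
  obtain ⟨g, hg, eg⟩ := h
  refine ⟨k * g * k⁻¹, mul_mem (mul_mem hk hg) (inv_mem hk), ?_⟩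
  have hc : ∀ (M : Matrix (τ → γ) (τ → γ) F) (A : Matrix γ γ F),
      (k : Matrix (τ → γ) (τ → γ) F) * (M * slot i A) * ((k⁻¹ : GL (τ → γ) F) : Matrix (τ → γ) (τ → γ) F) =
      (k : Matrix (τ → γ) (τ → γ) F) * M * ((k⁻¹ : GL (τ → γ) F) : Matrix (τ → γ) (τ → γ) F) * slot i A := fun M A => by
    rw [mul_assoc _ (M * slot i A), mul_assoc M, (Commute.units_inv_right (hkc A)).eq]
    simp only [mul_assoc]
  rw [Units.val_mul, Units.val_mul, eg, mul_add, mul_one, add_mul, Units.mul_inv, U, U, hX.dag_conj hk]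
  simp only [mul_add, mul_sub, add_mul, sub_mul, hc]

theorem cen_zero (i : τ) : P.Cen X i 0 := ⟨CM.zero, 1, one_mem X, by rw [zero_mul, add_zero, Units.val_one]⟩

theorem cen_add {i : τ} {M M' : Matrix (τ → γ) (τ → γ) F} (h : P.Cen X i M) (h' : P.Cen X i M') :
    P.Cen X i (M + M') :=
  ⟨h.1.add h'.1, by
    rw [add_mul]
    exact h.2.add h'.2 (by rw [CM.move h'.1, E_sq, slot_zero, mul_zero])⟩

theorem cen_neg {i : τ} {M : Matrix (τ → γ) (τ → γ) F} (h : P.Cen X i M) : P.Cen X i (-M) := by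
  obtain ⟨hM, g, hg, eg⟩ := h
  refine ⟨hM.neg, g⁻¹, inv_mem hg, Units.inv_eq_of_mul_eq_one_right ?_⟩
  rw [eg, neg_mul, add_mul, one_mul, mul_add, mul_one, mul_neg, CM.move hM, E_sq, slot_zero, mul_zero, neg_zero,
    add_zero, neg_add_cancel_right]

theorem cen_conj {i : τ} {k : GL (τ → γ) F} (hk : k ∈ X) (hkc : CM i (k : Matrix (τ → γ) (τ → γ) F))
    {M : Matrix (τ → γ) (τ → γ) F} (h : P.Cen X i M) :
    P.Cen X i ((k : Matrix (τ → γ) (τ → γ) F) * M * ((k⁻¹ : GL (τ → γ) F) : Matrix (τ → γ) (τ → γ) F)) := by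
  refine ⟨cm_conj hkc h.1, ?_⟩
  have := hX.conj_U hk hkc 0 0 M (by rw [U_zero]; exact h.2)
  rwa [mul_zero, zero_mul, U_zero] at this

theorem cen_scale [Finite F] {i : τ} {M : Matrix (τ → γ) (τ → γ) F} (h : P.Cen X i M) {κ : F} (hκ : P.σ κ = κ) :
    P.Cen X i (κ • M) := by
  rcases eq_or_ne κ 0 with rfl | hκ0
  · rw [zero_smul]; exact hX.cen_zero i
  obtain ⟨ρ, hρ⟩ := P.conj.norm_surjective hκ
  obtain ⟨b, hb, hbo⟩ := exists_torus (P := P) (ρ := ρ) (fun e => hκ0 (by rw [← hρ, e, zero_mul]))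
  obtain ⟨hM, g, hg, eg⟩ := h
  refine ⟨hM.smul κ, slotU i b * g * (slotU i b)⁻¹,
    mul_mem (mul_mem (hX.slotMem i b hb) hg) (inv_mem (hX.slotMem i b hb)), ?_⟩
  rw [Units.val_mul, Units.val_mul, slotU_val, slotU_inv, eg, mul_add, mul_one, add_mul, ← slot_mul, Units.mul_inv,
    slot_one, ← mul_assoc, (hM _).eq, mul_assoc M, mul_assoc M, ← slot_mul, ← slot_mul, E, conj_r hb, hbo, r_smul_left,
    r_smul_right, smul_smul, mul_comm (P.σ ρ), hρ, slot_smul, mul_smul_comm, smul_mul_assoc]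

theorem cen_iff {i : τ} {I : Finset τ} (hi : i ∉ I) (s : F) :
    P.Cen X i (s • P.EI I) ↔ In X (s • P.EI (insert i I)) := by
  have e : s • P.EI (insert i I) = s • P.EI I * slot i P.E := by
    rw [EI, EI, onSet_insert hi, smul_mul_assoc]
  rw [Cen, e]
  exact and_iff_right ((cm_onSet hi _).smul s)

theorem mon_of_ne [Finite F] {i : τ} {I : Finset τ} (hi : i ∉ I) {s : F} (hs : s ≠ 0) (hs0 : s + P.σ s = 0)
    (h : P.Cen X i (s • P.EI I)) : P.Mon X (insert i I) := fun s' hs' => by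
  rw [← hX.cen_iff hi]
  have := hX.cen_scale h (κ := s' / s) (by
    rw [map_div₀, eq_neg_of_add_eq_zero_right hs0, eq_neg_of_add_eq_zero_right hs', neg_div_neg_eq])
  rwa [smul_smul, div_mul_cancel₀ _ hs] at this

end Hyp

/-- The operators of radical elements of all directions. -/
def rads (hX : P.Hyp X) (i : τ) : Submodule F (Matrix (τ → γ) (τ → γ) F) where
  carrier := {Y | CM i Y ∧ ∀ w, P.InQ w → ∃ C, CM i C ∧ In X (P.U i w Y C)}
  zero_mem' := ⟨CM.zero, fun w _ => ⟨0, CM.zero, 1, one_mem X, by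
    rw [U, P.dag_zero, zero_mul, zero_mul, zero_mul, sub_zero, add_zero, add_zero, Units.val_one]⟩⟩
  add_mem' {Y Y'} h h' := ⟨h.1.add h'.1, fun w hw => by
    obtain ⟨C, hC, g, hg, eg⟩ := h.2 w hw
    obtain ⟨C', hC', g', hg', eg'⟩ := h'.2 w hw
    refine ⟨C + C' + -(P.h w w • (P.dag Y * Y')), (hC.add hC').add (((P.cm_dag h.1).mul h'.1).smul _).neg,
      g * g', mul_mem hg hg', ?_⟩
    rw [Units.val_mul, eg, eg', add_mul, one_mul, mul_add, mul_one, U_mul hw hw h'.1 hC', U, U, U, P.dag_add]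
    simp only [add_mul, neg_mul, smul_mul_assoc]
    abel⟩
  smul_mem' c Y h := ⟨h.1.smul c, fun w hw => by
    obtain ⟨C, hC, hin⟩ := h.2 (c • w) ⟨by simp [hw.1], by simp [hw.2]⟩
    exact ⟨C, hC, by rwa [U_smul] at hin⟩⟩

theorem mem_rads (hX : P.Hyp X) (i : τ) (Y : Matrix (τ → γ) (τ → γ) F) :
    Y ∈ rads hX i ↔ CM i Y ∧ ∀ w, P.InQ w → ∃ C, CM i C ∧ In X (P.U i w Y C) := Iff.rfl

theorem slot_root_in (hX : P.Hyp X) (i : τ) {w : γ → F} (hw : P.InQ w) {l : F} (hl : l + P.σ l = -P.h w w) :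
    In X (P.U i w 1 (l • 1)) := by
  refine ⟨slotU i (root (rd_eo hw hl)), hX.slotMem i _ (root_mem _), ?_⟩
  rw [slotU_val, root_val, slot_add, slot_one, U, P.dag_one, one_mul, one_mul, smul_one_mul, N, slot_add, slot_sub,
    slot_smul]
  rfl

theorem one_mem_rads [Finite F] (hX : P.Hyp X) (i : τ) : (1 : Matrix (τ → γ) (τ → γ) F) ∈ rads hX i :=
  ⟨CM.one, fun w hw => by
    obtain ⟨l, hl⟩ := exists_l (P := P) w
    exact ⟨_, CM.one.smul l, slot_root_in hX i hw hl⟩⟩

theorem rads_conj (hX : P.Hyp X) {i : τ} {k : GL (τ → γ) F} (hk : k ∈ X)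
    (hkc : CM i (k : Matrix (τ → γ) (τ → γ) F)) {Y : Matrix (τ → γ) (τ → γ) F} (h : Y ∈ rads hX i) :
    (k : Matrix (τ → γ) (τ → γ) F) * Y * ((k⁻¹ : GL (τ → γ) F) : Matrix (τ → γ) (τ → γ) F) ∈ rads hX i :=
  ⟨cm_conj hkc h.1, fun w hw => by
    obtain ⟨C, hC, hin⟩ := h.2 w hw
    exact ⟨_, cm_conj hkc hC, hX.conj_U hk hkc w Y C hin⟩⟩

theorem cen_pair (hX : P.Hyp X) {i : τ} {Y Y' : Matrix (τ → γ) (τ → γ) F} (h : Y ∈ rads hX i)
    (h' : Y' ∈ rads hX i) (ω : F) : P.Cen X i (ω • (P.dag Y' * Y) - P.σ ω • (P.dag Y * Y')) := by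
  refine ⟨(((P.cm_dag h'.1).mul h.1).smul _).sub (((P.cm_dag h.1).mul h'.1).smul _), ?_⟩
  obtain ⟨C, hC, hin⟩ := h.2 (ω • Pi.single P.a₀ 1) ⟨by simp [P.a₀o.symm], by simp [P.a₀o'.symm]⟩
  obtain ⟨C', hC', hin'⟩ := h'.2 _ (inQ_single P.a₀o P.a₀o' 1)
  have := in_center (w := ω • Pi.single P.a₀ 1) ⟨by simp [P.a₀o.symm], by simp [P.a₀o'.symm]⟩
    (inQ_single P.a₀o P.a₀o' 1) h.1 h'.1 hC hC' hin hin'
  rwa [h_smul_left, h_smul_right, h_single_self P.a₀o P.a₀o', map_one, mul_one, mul_one, mul_one] at this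

end Pol

end Cfsg.Lib.Classical.TensorPowU
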