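import Cfsg.Agent.Classical.TensorPowU.Adj
import Cfsg.Agent.Classical.Unitary.Simple
import Cfsg.Agent.Classical.MaxBridge

/-!
# The special unitary group of one factor: root elements, transitivity, invariant subspaces
-/

set_option autoImplicit false
set_option linter.unusedSectionVars false
set_option linter.unusedSimpArgs false

namespace Cfsg.Lib.Classical.TensorPowU

open Matrix Finset
open scoped MatrixGroups

universe u

variable {γ : Type} [Fintype γ] [DecidableEq γ] {F : Type u} [Field F]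

namespace Pol

variable (P : Pol γ F)

/-- Adjoint on one factor. -/
abbrev adjoint (A : Matrix γ γ F) : Matrix γ γ F := adj P.σ P.nu A

/-- The form on one factor. -/
abbrev h (x y : γ → F) : F := hf P.σ P.nu x y

/-- `x ↦ h(x, u) v` on one factor. -/
abbrev r (u v : γ → F) : Matrix γ γ F := rk P.σ P.nu u v

/-- The isotropic basis vector. -/
def eo : γ → F := Pi.single P.o 1

/-- Its partner. -/
def eo' : γ → F := Pi.single P.o' 1

/-- The orthogonal complement of the hyperbolic pair. -/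
def InQ (w : γ → F) : Prop := w P.o = 0 ∧ w P.o' = 0

/-- The central root matrix. -/
def E : Matrix γ γ F := P.r P.eo P.eo

/-- The special unitary group of one factor. -/
def SU : Subgroup (GL γ F) where
  carrier := {b | Iso P.σ P.nu (b : Matrix γ γ F) ∧ (b : Matrix γ γ F).det = 1}
  one_mem' := ⟨by rw [Iso, Units.val_one, adj_one, one_mul], by rw [Units.val_one, det_one]⟩
  mul_mem' {a b} ha hb := ⟨by
      rw [Iso, Units.val_mul, adj_mul, mul_assoc, ← mul_assoc (adj P.σ P.nu (a : Matrix γ γ F)), ha.1, one_mul]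
      exact hb.1,
    by rw [Units.val_mul, det_mul, ha.2, hb.2, one_mul]⟩
  inv_mem' {a} ha := ⟨by
      have e : ((a⁻¹ : GL γ F) : Matrix γ γ F) = adj P.σ P.nu (a : Matrix γ γ F) :=
        Units.inv_eq_of_mul_eq_one_left ha.1
      rw [Iso, e, adj_adj P.invol P.nu_nu]
      exact mul_eq_one_comm.mp ha.1,
    by
      have := congrArg Matrix.det (Units.mul_inv a)
      rwa [det_mul, ha.2, one_mul, det_one] at this⟩

variable {P}

theorem mem_SU {b : GL γ F} : b ∈ P.SU ↔ Iso P.σ P.nu (b : Matrix γ γ F) ∧ (b : Matrix γ γ F).det = 1 := Iff.rfl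

theorem SU_inv {b : GL γ F} (hb : b ∈ P.SU) :
    ((b⁻¹ : GL γ F) : Matrix γ γ F) = adj P.σ P.nu (b : Matrix γ γ F) :=
  Units.inv_eq_of_mul_eq_one_left hb.1

theorem h_single (x : γ → F) (b : γ) : P.h x (Pi.single b 1) = x (P.nu b) := by
  rw [← hf_single_right (σ := P.σ) (ν := P.nu) x (P.nu b), P.nu_nu]

theorem h_eo (x : γ → F) : P.h x P.eo = x P.o' := by rw [eo, h_single, P.nu_o]

theorem h_eo' (x : γ → F) : P.h x P.eo' = x P.o := by rw [eo', h_single, P.nu_o']

theorem h_symm (x y : γ → F) : P.h x y = P.σ (P.h y x) := hf_symm P.invol P.nu_nu x y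

theorem h_add_right (x y z : γ → F) : P.h x (y + z) = P.h x y + P.h x z := P.herm.add_right x y z

theorem h_smul_right (c : F) (x y : γ → F) : P.h x (c • y) = P.σ c * P.h x y := P.herm.smul_right c x y

theorem h_smul_left (c : F) (x y : γ → F) : P.h (c • x) y = c * P.h x y := hf_smul_left c x y

theorem h_add_left (x y z : γ → F) : P.h (x + y) z = P.h x z + P.h y z := hf_add_left x y z

theorem h_zero_left (y : γ → F) : P.h 0 y = 0 := P.herm.zero_left y

theorem h_neg_left (x y : γ → F) : P.h (-x) y = -P.h x y := P.herm.neg_left x y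

theorem r_add_left (u u' v : γ → F) : P.r (u + u') v = P.r u v + P.r u' v := rk_add_left u u' v

theorem r_add_right (u v v' : γ → F) : P.r u (v + v') = P.r u v + P.r u v' := rk_add_right u v v'

theorem r_smul_left (c : F) (u v : γ → F) : P.r (c • u) v = P.σ c • P.r u v := rk_smul_left c u v

theorem r_smul_right (c : F) (u v : γ → F) : P.r u (c • v) = c • P.r u v := rk_smul_right c u v

theorem r_neg_right (u v : γ → F) : P.r u (-v) = -P.r u v := by
  rw [← neg_one_smul F v, r_smul_right, neg_one_smul]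

theorem r_neg_left (u v : γ → F) : P.r (-u) v = -P.r u v := by
  rw [← neg_one_smul F u, r_smul_left, map_neg, map_one, neg_one_smul]

theorem r_zero_left (v : γ → F) : P.r 0 v = 0 := by
  rw [← zero_smul F (0 : γ → F), r_smul_left, map_zero, zero_smul]

theorem r_zero_right (u : γ → F) : P.r u 0 = 0 := by
  rw [← zero_smul F (0 : γ → F), r_smul_right, zero_smul]

theorem eo_iso : P.h P.eo P.eo = 0 := by rw [h_eo, eo, Pi.single_eq_of_ne P.ne.symm]

theorem eo'_iso : P.h P.eo' P.eo' = 0 := by rw [h_eo', eo', Pi.single_eq_of_ne P.ne]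

theorem eo_eo' : P.h P.eo P.eo' = 1 := by rw [h_eo', eo, Pi.single_eq_same]

theorem eo'_eo : P.h P.eo' P.eo = 1 := by rw [h_eo, eo', Pi.single_eq_same]

theorem eo_ne : P.eo ≠ 0 := Pi.single_ne_zero_iff.mpr one_ne_zero

theorem eo'_ne : P.eo' ≠ 0 := Pi.single_ne_zero_iff.mpr one_ne_zero

theorem inQ_single {a : γ} (h : a ≠ P.o) (h' : a ≠ P.o') (c : F) : P.InQ (Pi.single a c) := by
  constructor <;> simp [Ne.symm h, Ne.symm h']

theorem InQ.perp {w : γ → F} (h : P.InQ w) : P.h w P.eo = 0 ∧ P.h w P.eo' = 0 :=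
  ⟨by rw [h_eo]; exact h.2, by rw [h_eo']; exact h.1⟩

theorem InQ.perp' {w : γ → F} (h : P.InQ w) : P.h P.eo w = 0 ∧ P.h P.eo' w = 0 :=
  ⟨by rw [h_symm, h.perp.1, map_zero], by rw [h_symm, h.perp.2, map_zero]⟩

theorem r_mul_r (u v u' v' : γ → F) : P.r u v * P.r u' v' = P.h v' u • P.r u' v := rk_mul_rk u v u' v'

theorem h_single_self {a : γ} (h : a ≠ P.o) (h' : a ≠ P.o') (c : F) :
    P.h (Pi.single a c) (Pi.single a c) = c * P.σ c := by
  rw [show (Pi.single a c : γ → F) = c • Pi.single a 1 by rw [← Pi.single_smul, smul_eq_mul, mul_one],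
    h_smul_left, h_smul_right, h_single, P.nu_of h h', Pi.single_eq_same, mul_one]

theorem r_mulVec (u v x : γ → F) : P.r u v *ᵥ x = P.h x u • v := rk_mulVec u v x

theorem E_eq : P.E = Matrix.single P.o P.o' 1 := by rw [E, eo, r, rk_single P.nu_nu, P.nu_o]

theorem E_sq : P.E * P.E = 0 := by rw [E, r_mul_r, eo_iso, zero_smul]

theorem adj_E : P.adjoint P.E = P.E := adj_rk P.invol P.nu_nu _ _

theorem E_ne : P.E ≠ 0 := by
  rw [E_eq]
  intro h
  have := congrFun (congrFun h P.o) P.o'
  rw [single_apply_same, Matrix.zero_apply] at this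
  exact one_ne_zero this

variable (P)

/-- The nilpotent part of a root element along `e`. -/
def N (e w : γ → F) (l : F) : Matrix γ γ F := P.r e w - P.r w e + l • P.r e e

/-- The data of a root element along `e`. -/
structure RD (e w : γ → F) (l : F) : Prop where
  iso : P.h e e = 0
  perp : P.h w e = 0
  trace : l + P.σ l = -P.h w w

variable {P}

theorem exists_l (w : γ → F) : ∃ l, l + P.σ l = -P.h w w := by
  obtain ⟨θ, hθ⟩ := P.conj.exists_trace_one
  refine ⟨-(θ * P.h w w), ?_⟩
  rw [map_neg, map_mul, ← h_symm]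
  linear_combination (-P.h w w) * hθ

theorem rd_eo {w : γ → F} (hw : P.InQ w) {l : F} (hl : l + P.σ l = -P.h w w) : P.RD P.eo w l :=
  ⟨eo_iso, hw.perp.1, hl⟩

theorem RD.perp' {e w : γ → F} {l : F} (h : P.RD e w l) : P.h e w = 0 := by rw [h_symm, h.perp, map_zero]

theorem RD.iso_mat {e w : γ → F} {l : F} (h : P.RD e w l) : Iso P.σ P.nu (1 + P.N e w l) := by
  have hadj : adj P.σ P.nu (P.N e w l) = P.r w e - P.r e w + P.σ l • P.r e e := by
    simp only [N, adj_add, adj_sub, adj_smul, adj_rk P.invol P.nu_nu]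
  rw [Iso, adj_add, adj_one, hadj, add_mul, mul_add, one_mul, mul_add, one_mul, mul_one]
  simp only [N, mul_add, add_mul, mul_sub, sub_mul, smul_mul_assoc, mul_smul_comm, r_mul_r, h.iso, h.perp, h.perp',
    zero_smul, smul_zero, add_zero, zero_add, sub_zero, zero_sub]
  linear_combination (norm := module) h.trace • P.r e e

theorem RD.det {e w : γ → F} {l : F} (h : P.RD e w l) : (1 + P.N e w l).det = 1 := by
  have e1 : 1 + P.N e w l = (1 + P.r e (w + l • e)) * (1 + P.r w (-e)) := by
    rw [mul_add, mul_one, add_mul, one_mul, r_mul_r, h_neg_left, h.iso, neg_zero, zero_smul, add_zero, N,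
      r_add_right, r_smul_right, r_neg_right]
    abel
  have hd : ∀ u v, P.h v u = 0 → (1 + P.r u v).det = 1 := fun u v huv => by
    show (1 + vecMulVec v (fun a => P.σ (u (P.nu a)))).det = 1
    rw [Matrix.vecMulVec_eq Unit, Matrix.det_one_add_replicateCol_mul_replicateRow, add_eq_left,
      dotProduct_comm]
    exact huv
  rw [e1, det_mul, hd, hd, mul_one]
  · rw [h_neg_left, h.perp', neg_zero]
  · rw [h_add_left, h_smul_left, h.perp, h.iso, mul_zero, add_zero]

/-- A root element. -/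
noncomputable def root {e w : γ → F} {l : F} (h : P.RD e w l) : GL γ F :=
  GeneralLinearGroup.mkOfDetNeZero (1 + P.N e w l) (by rw [h.det]; exact one_ne_zero)

theorem root_val {e w : γ → F} {l : F} (h : P.RD e w l) :
    ((root h : GL γ F) : Matrix γ γ F) = 1 + P.N e w l := rfl

theorem root_mem {e w : γ → F} {l : F} (h : P.RD e w l) : root h ∈ P.SU := ⟨h.iso_mat, h.det⟩

theorem N_mul_N {e w w' : γ → F} (l l' : F) (he : P.h e e = 0) (hw : P.h w e = 0) (hw' : P.h w' e = 0) :
    P.N e w l * P.N e w' l' = -P.h w' w • P.r e e := by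
  have hw2 : P.h e w = 0 := by rw [h_symm, hw, map_zero]
  simp only [N, mul_add, add_mul, mul_sub, sub_mul, smul_mul_assoc, mul_smul_comm, r_mul_r, he, hw', hw2, zero_smul,
    smul_zero, add_zero, zero_add, sub_zero, zero_sub, neg_smul]

/-- The torus element. -/
def torusFun (P : Pol γ F) (ρ : F) : γ → F :=
  Function.update (Function.update (Function.update (fun _ => 1) P.o ρ) P.o' (P.σ ρ)⁻¹) P.a₀ (P.σ ρ / ρ)

theorem exists_torus {ρ : F} (hρ : ρ ≠ 0) : ∃ b ∈ P.SU, (b : Matrix γ γ F) *ᵥ P.eo = ρ • P.eo := by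
  have hσρ : P.σ ρ ≠ 0 := (map_ne_zero P.σ).mpr hρ
  set f := P.torusFun ρ with hf0
  have ho : f P.o = ρ := by simp [hf0, torusFun, P.ne, P.a₀o.symm]
  have ho' : f P.o' = (P.σ ρ)⁻¹ := by simp [hf0, torusFun, P.a₀o'.symm]
  have ha : f P.a₀ = P.σ ρ / ρ := by simp [hf0, torusFun]
  have hone : ∀ a, a ≠ P.o → a ≠ P.o' → a ≠ P.a₀ → f a = 1 := fun a h1 h2 h3 => by simp [hf0, torusFun, h1, h2, h3]
  have hdet : (Matrix.diagonal f).det = 1 := by
    rw [det_diagonal, ← Finset.prod_subset (Finset.subset_univ {P.o, P.o', P.a₀})]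
    · rw [Finset.prod_insert (by simp [P.ne, P.a₀o.symm]), Finset.prod_insert (by simp [P.a₀o'.symm]),
        Finset.prod_singleton, ho, ho', ha]
      field_simp
    · intro a _ h
      simp only [Finset.mem_insert, Finset.mem_singleton, not_or] at h
      exact hone a h.1 h.2.1 h.2.2
  have hiso : Iso P.σ P.nu (Matrix.diagonal f) := by
    have e : adj P.σ P.nu (Matrix.diagonal f) = Matrix.diagonal fun a => P.σ (f (P.nu a)) := by
      ext a b
      by_cases h : a = b
      · subst h; simp [adj_apply]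
      · rw [adj_apply, diagonal_apply_ne _ (fun e => h (P.nu.injective e).symm), map_zero, diagonal_apply_ne _ h]
    rw [Iso, e, diagonal_mul_diagonal, ← diagonal_one]
    congr 1
    funext a
    by_cases h1 : a = P.o
    · subst h1; rw [P.nu_o, ho, ho', map_inv₀, P.invol, inv_mul_cancel₀ hρ]
    by_cases h2 : a = P.o'
    · subst h2; rw [P.nu_o', ho, ho', mul_inv_cancel₀ hσρ]
    rw [P.nu_of h1 h2]
    by_cases h3 : a = P.a₀
    · subst h3; rw [ha, map_div₀, P.invol]; field_simp
    · rw [hone a h1 h2 h3, map_one, mul_one]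
  refine ⟨GeneralLinearGroup.mkOfDetNeZero (Matrix.diagonal f) (by rw [hdet]; exact one_ne_zero), ⟨hiso, hdet⟩, ?_⟩
  show Matrix.diagonal f *ᵥ P.eo = ρ • P.eo
  funext a
  rw [mulVec_diagonal]
  by_cases h : a = P.o
  · subst h; simp [eo, ho]
  · simp [eo, h]

theorem conj_r {b : GL γ F} (hb : b ∈ P.SU) (u v : γ → F) :
    (b : Matrix γ γ F) * P.r u v * ((b⁻¹ : GL γ F) : Matrix γ γ F) =
      P.r ((b : Matrix γ γ F) *ᵥ u) ((b : Matrix γ γ F) *ᵥ v) := by
  rw [SU_inv hb]; exact conj_rk P.invol P.nu_nu hb.1 u v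

theorem h_map {b : GL γ F} (hb : b ∈ P.SU) (x y : γ → F) :
    P.h ((b : Matrix γ γ F) *ᵥ x) ((b : Matrix γ γ F) *ᵥ y) = P.h x y := hb.1.hf_eq P.invol P.nu_nu x y

variable (P)

/-- The special isometries as matrices. -/
noncomputable def toGL : P.herm.SIsom →* GL γ F :=
  (linToGL γ F).toMonoidHom.comp (P.herm.Isom.subtype.comp P.herm.SIsom.subtype)

variable {P}

theorem toGL_mulVec (g : P.herm.SIsom) (x : γ → F) : (P.toGL g : Matrix γ γ F) *ᵥ x = g.1.1 x :=
  linToGL_mulVec _ x

theorem toGL_mem (g : P.herm.SIsom) : P.toGL g ∈ P.SU := by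
  refine ⟨iso_of_hf P.invol P.nu_nu fun x y => ?_, ?_⟩
  · rw [toGL_mulVec, toGL_mulVec]; exact g.1.2 x y
  · have h1 : (LinearEquiv.det g.1.1 : F) = 1 := by rw [(P.herm.mem_SIsom).mp g.2]; rfl
    rw [LinearEquiv.coe_det] at h1
    rw [← LinearMap.det_toLin', ← h1]
    congr 1
    exact LinearMap.ext fun x => by rw [Matrix.toLin'_apply, toGL_mulVec]; rfl

theorem exists_toGL {b : GL γ F} (hb : b ∈ P.SU) : ∃ g, P.toGL g = b := by
  refine ⟨⟨⟨(linToGL γ F).symm b, fun x y => ?_⟩, ?_⟩, (linToGL γ F).apply_symm_apply b⟩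
  · rw [linToGL_symm_apply, linToGL_symm_apply]; exact h_map hb x y
  · refine (P.herm.mem_SIsom).mpr (Units.ext ?_)
    rw [LinearEquiv.coe_det, Units.val_one, ← hb.2, ← LinearMap.det_toLin']
    congr 1

theorem toGL_injective : Function.Injective P.toGL :=
  (linToGL γ F).injective.comp (Subtype.val_injective.comp Subtype.val_injective)

variable [Finite F]

/-- `SU` is transitive on non-zero isotropic vectors. -/
theorem exists_move {e : γ → F} (he : e ≠ 0) (hee : P.h e e = 0) :
    ∃ b ∈ P.SU, (b : Matrix γ γ F) *ᵥ P.eo = e := by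
  have heo : P.herm.h P.eo P.eo = 0 := eo_iso (P := P)
  have hee' : P.herm.h e e = 0 := hee
  haveI := P.herm.isoPt_pretransitive
  obtain ⟨g, hg⟩ := MulAction.exists_smul_eq P.herm.SIsom (P.herm.isoMk P.eo eo_ne heo) (P.herm.isoMk e he hee')
  rw [HermSpace.smul_isoMk, HermSpace.isoMk_eq_iff] at hg
  obtain ⟨a, ha⟩ := hg
  have ha' : a • e = (P.toGL g : Matrix γ γ F) *ᵥ P.eo := by rw [toGL_mulVec]; exact ha
  have ha0 : a ≠ 0 := by
    rintro rfl
    rw [zero_smul, toGL_mulVec] at ha'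
    exact eo_ne ((LinearEquiv.map_eq_zero_iff g.1.1).mp ha'.symm)
  obtain ⟨t, ht, hte⟩ := exists_torus (P := P) (inv_ne_zero ha0)
  exact ⟨P.toGL g * t, mul_mem (toGL_mem g) ht, by
    rw [Units.val_mul, ← mulVec_mulVec, hte, mulVec_smul, ← ha', smul_smul, inv_mul_cancel₀ ha0, one_smul]⟩

omit [Finite F]

/-- A subspace invariant under conjugation. -/
def Inv (S : Submodule F (Matrix γ γ F)) : Prop :=
  ∀ b ∈ P.SU, ∀ A ∈ S, (b : Matrix γ γ F) * A * ((b⁻¹ : GL γ F) : Matrix γ γ F) ∈ S

theorem half_step {S : Submodule F (Matrix γ γ F)} (hS : P.Inv S) {e f w : γ → F} (he : P.h e e = 0)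
    (hfe : P.h f e = 1) (hwe : P.h w e = 0) (hwf : P.h w f = 0) (hE : P.r e e ∈ S)
    (hh : P.r f e - P.r e f ∈ S) : P.r e w ∈ S ∧ P.r w e ∈ S := by
  have hef : P.h e f = 1 := by rw [h_symm, hfe, map_one]
  have hew : P.h e w = 0 := by rw [h_symm, hwe, map_zero]
  have hfw : P.h f w = 0 := by rw [h_symm, hwf, map_zero]
  have hT : ∀ c : F, P.σ c • P.r w e - c • P.r e w ∈ S := by
    intro c
    obtain ⟨l, hl⟩ := exists_l (P := P) (c • w)
    have hrd : P.RD e (c • w) l := ⟨he, by rw [h_smul_left, hwe, mul_zero], hl⟩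
    have hmem := hS _ (root_mem hrd) _ hh
    set N := P.N e (c • w) l with hN
    set H := P.r f e - P.r e f with hH
    have hNH : N * H = -(c • P.r e w) - l • P.r e e := by
      simp only [hN, hH, Pol.N, r_smul_left, r_smul_right]
      simp only [mul_add, add_mul, mul_sub, sub_mul, smul_mul_assoc, mul_smul_comm, r_mul_r, he, hfe, hef, hew, hfw,
        hwe, hwf, zero_smul, smul_zero, add_zero, zero_add, sub_zero, zero_sub, one_smul]
      module
    have hHN : H * N = -(P.σ c • P.r w e) + l • P.r e e := by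
      simp only [hN, hH, Pol.N, r_smul_left, r_smul_right]
      simp only [mul_add, add_mul, mul_sub, sub_mul, smul_mul_assoc, mul_smul_comm, r_mul_r, he, hfe, hef, hew, hfw,
        hwe, hwf, zero_smul, smul_zero, add_zero, zero_add, sub_zero, zero_sub, one_smul]
    have hi : ((root hrd)⁻¹ : GL γ F).1 = 1 - N + N * N := by
      refine Units.inv_eq_of_mul_eq_one_right ?_
      rw [root_val]
      have h3 : N * (N * N) = 0 := by
        rw [hN, N_mul_N l l he hrd.perp hrd.perp, mul_smul_comm, show P.r e e = P.N e 0 1 by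
          simp [Pol.N, r, rk, vecMulVec], N_mul_N l 1 he hrd.perp (P.herm.zero_left e)]
        rw [show P.h 0 (c • w) = 0 from P.herm.zero_left _]
        simp
      calc (1 + N) * (1 - N + N * N) = 1 + N * (N * N) := by noncomm_ring
        _ = 1 := by rw [h3, add_zero]
    rw [root_val, hi, ← hN] at hmem
    have hNN : N * N = -P.h (c • w) (c • w) • P.r e e := N_mul_N l l he hrd.perp hrd.perp
    have hNE : N * P.r e e = 0 := by
      simp only [hN, Pol.N, mul_add, add_mul, mul_sub, sub_mul, smul_mul_assoc, r_mul_r, he, hrd.perp, hrd.perp',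
        zero_smul, smul_zero, add_zero, sub_zero]
    have hHE : H * P.r e e = P.r e e := by
      simp only [hH, sub_mul, r_mul_r, he, hef, zero_smul, one_smul, sub_zero]
    have hNHN : N * H * N = 0 := by
      rw [mul_assoc, hHN, mul_add, mul_neg, mul_smul_comm, mul_smul_comm, hNE, smul_zero, add_zero]
      simp only [hN, Pol.N, r_smul_left, r_smul_right]
      simp only [add_mul, sub_mul, smul_mul_assoc, r_mul_r, he, hew, zero_smul, smul_zero, sub_zero, add_zero,
        neg_zero]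
    have e3 : (1 + N) * H * (1 - N + N * N) =
        H + (N * H - H * N) + H * (N * N) - N * H * N + N * H * N * N := by noncomm_ring
    rw [e3, hNHN, zero_mul, sub_zero, add_zero, hNH, hHN, hNN, mul_smul_comm, hHE] at hmem
    have := sub_mem (sub_mem hmem hh) (S.smul_mem (-P.h (c • w) (c • w) - (l + l)) hE)
    convert this using 1
    module
  have h1 := hT 1
  rw [map_one, one_smul, one_smul] at h1
  obtain ⟨θ, hθ⟩ := P.conj.ne_id
  have hne : P.σ θ - θ ≠ 0 := sub_ne_zero.mpr hθ
  have h2 : P.r e w ∈ S := by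
    have := S.smul_mem (P.σ θ - θ)⁻¹ (sub_mem (hT θ) (S.smul_mem (P.σ θ) h1))
    convert this using 1
    rw [eq_inv_smul_iff₀ hne]
    module
  refine ⟨h2, ?_⟩
  have := add_mem h1 h2
  rwa [sub_add_cancel] at this

variable [Finite F]

/-- An invariant subspace containing the central root matrix contains all off-diagonal units, and with one diagonal
unit it is everything. -/
theorem inv_offdiag {S : Submodule F (Matrix γ γ F)} (hS : P.Inv S) (hE : P.E ∈ S) :
    (∀ a b, a ≠ b → Matrix.single a b (1 : F) ∈ S) ∧ (Matrix.single P.o P.o (1 : F) ∈ S → S = ⊤) := by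
  have hiso : ∀ e, e ≠ 0 → P.h e e = 0 → P.r e e ∈ S := fun e he hee => by
    obtain ⟨b, hb, hbe⟩ := exists_move (P := P) he hee
    have := hS b hb _ hE
    rwa [E, conj_r hb, hbe] at this
  have hE' : P.r P.eo' P.eo' ∈ S := hiso _ eo'_ne eo'_iso
  obtain ⟨s, hs, hs0⟩ := P.conj.exists_skew
  have hh : P.r P.eo' P.eo - P.r P.eo P.eo' ∈ S := by
    have hrd : P.RD P.eo 0 s := rd_eo ⟨rfl, rfl⟩ (by rw [h_zero_left, neg_zero]; exact hs0)
    have hmem := hS _ (root_mem hrd) _ hE'
    have hN : P.N P.eo 0 s = s • P.E := by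
      rw [Pol.N, r_zero_left, r_zero_right, sub_zero, zero_add, E]
    have hi : ((root hrd)⁻¹ : GL γ F).1 = 1 - s • P.E := by
      refine Units.inv_eq_of_mul_eq_one_right ?_
      rw [root_val, hN, add_mul, one_mul, mul_sub, mul_one, smul_mul_smul_comm, E_sq, smul_zero, sub_zero,
        sub_add_cancel]
    rw [root_val, hN, hi] at hmem
    simp only [add_mul, one_mul, mul_sub, mul_one, smul_mul_assoc, mul_smul_comm, E, r_mul_r, eo'_eo, eo_eo',
      one_smul] at hmem
    have := S.smul_mem s⁻¹ (add_mem (sub_mem hmem hE') (S.smul_mem (s * s) hE))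
    convert this using 1
    rw [eq_inv_smul_iff₀ hs]
    simp only [E]
    module
  have hQ : ∀ w, P.InQ w → (P.r P.eo w ∈ S ∧ P.r w P.eo ∈ S) ∧ (P.r P.eo' w ∈ S ∧ P.r w P.eo' ∈ S) := fun w hw => by
    refine ⟨half_step hS eo_iso eo'_eo hw.perp.1 hw.perp.2 hE hh, half_step hS eo'_iso eo_eo' hw.perp.2 hw.perp.1 hE' ?_⟩
    rw [← neg_sub]; exact neg_mem hh
  have hX : ∀ w w', P.InQ w → P.InQ w' → P.r w w' - P.h w' w • P.r P.eo' P.eo ∈ S := by
    intro w w' hw hw'
    obtain ⟨l, hl⟩ := exists_l (P := P) w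
    have hrd := rd_eo hw hl
    have hmem := hS _ (root_mem hrd) _ (hQ w' hw').2.1
    rw [conj_r (root_mem hrd), root_val, add_mulVec, add_mulVec, one_mulVec, one_mulVec] at hmem
    have e1 : P.N P.eo w l *ᵥ P.eo' = w + l • P.eo := by
      rw [Pol.N, add_mulVec, sub_mulVec, smul_mulVec, r_mulVec, r_mulVec, r_mulVec, eo'_eo, hw.perp'.2, one_smul,
        zero_smul, sub_zero, one_smul]
    have e2 : P.N P.eo w l *ᵥ w' = -(P.h w' w • P.eo) := by
      rw [Pol.N, add_mulVec, sub_mulVec, smul_mulVec, r_mulVec, r_mulVec, r_mulVec, hw'.perp.1, zero_smul, zero_smul,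
        smul_zero, zero_sub, add_zero]
    rw [e1, e2] at hmem
    simp only [r_add_left, r_add_right, r_smul_left, r_smul_right, ← neg_one_smul F (P.h w' w • P.eo), map_neg,
      map_one, smul_add, smul_smul] at hmem
    have h1 := sub_mem (sub_mem hmem (hQ w' hw').2.1) (S.smul_mem (P.σ l) (hQ w' hw').1.1)
    have h2 := add_mem h1 (add_mem (S.smul_mem (P.h w' w) (hQ w hw).1.2) (S.smul_mem (P.σ l * P.h w' w) hE))
    convert h2 using 1
    simp only [E, r]
    module
  have hu : ∀ a b : γ, P.r (Pi.single (P.nu b) 1) (Pi.single a 1) = Matrix.single a b (1 : F) := fun a b => by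
    rw [r, rk_single P.nu_nu, P.nu_nu]
  have hoff : ∀ a b : γ, a ≠ b → Matrix.single a b (1 : F) ∈ S := by
    intro a b hab
    rw [← hu]
    by_cases ha : a = P.o
    · subst ha
      by_cases hb : b = P.o'
      · subst hb; rw [P.nu_o']; exact hE
      · rw [P.nu_of hab.symm hb]
        exact (hQ _ (inQ_single hab.symm hb 1)).1.2
    by_cases ha' : a = P.o'
    · subst ha'
      by_cases hb : b = P.o
      · subst hb; rw [P.nu_o]; exact hE'
      · rw [P.nu_of hb hab.symm]
        exact (hQ _ (inQ_single hb hab.symm 1)).2.2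
    by_cases hb : b = P.o
    · subst hb; rw [P.nu_o]; exact (hQ _ (inQ_single ha ha' 1)).2.1
    by_cases hb' : b = P.o'
    · subst hb'; rw [P.nu_o']; exact (hQ _ (inQ_single ha ha' 1)).1.1
    rw [P.nu_of hb hb']
    have := hX _ _ (inQ_single hb hb' 1) (inQ_single ha ha' 1)
    rwa [h_single, P.nu_of hb hb', Pi.single_eq_of_ne (Ne.symm hab), zero_smul, sub_zero] at this
  refine ⟨hoff, fun hoo => ?_⟩
  · have hfe : P.r P.eo' P.eo ∈ S := by
      rwa [← hu, P.nu_o] at hoo
    have hef : P.r P.eo P.eo' ∈ S := by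
      have := sub_mem hfe hh
      rwa [sub_sub_cancel] at this
    have hdiag : ∀ a, Matrix.single a a (1 : F) ∈ S := fun a => by
      rw [← hu]
      by_cases ha : a = P.o
      · subst ha; rw [P.nu_o]; exact hfe
      by_cases ha' : a = P.o'
      · subst ha'; rw [P.nu_o']; exact hef
      rw [P.nu_of ha ha']
      have := add_mem (hX _ _ (inQ_single ha ha' 1) (inQ_single ha ha' 1))
        (S.smul_mem (P.h (Pi.single a 1) (Pi.single a 1)) hfe)
      rwa [sub_add_cancel] at this
    rw [eq_top_iff]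
    intro A _
    rw [matrix_eq_sum_single A]
    refine sum_mem fun a _ => sum_mem fun b _ => ?_
    rw [show Matrix.single a b (A a b) = A a b • Matrix.single a b (1 : F) by
      rw [Matrix.smul_single, smul_eq_mul, mul_one]]
    refine S.smul_mem _ ?_
    by_cases hab : a = b
    · subst hab; exact hdiag a
    · exact hoff a b hab

variable (P)

/-- The hypothesis under which the group of one factor is quasi-simple. -/
def Room : Prop := 4 ≤ Fintype.card γ ∨ (Fintype.card γ = 3 ∧ 3 ≤ P.herm.q)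

/-- Combinations of conjugates of `E` reducing `E` to a non-zero multiple of a conjugate and killing scalars. -/
def Sieve : Prop :=
  ∃ (n : ℕ) (b : Fin n → GL γ F) (g : GL γ F) (c : F), (∀ m, b m ∈ P.SU) ∧ g ∈ P.SU ∧ c ≠ 0 ∧
    ∑ m, ((b m : Matrix γ γ F) * P.E * ((b m)⁻¹ : GL γ F).1 - P.E) =
      c • ((g : Matrix γ γ F) * P.E * (g⁻¹ : GL γ F).1) ∧
    (∀ m, P.E * ((b m : Matrix γ γ F) * P.E * ((b m)⁻¹ : GL γ F).1) = 0 ∧
      (b m : Matrix γ γ F) * P.E * ((b m)⁻¹ : GL γ F).1 * P.E = 0) ∧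
    ∀ m m', (b m : Matrix γ γ F) * P.E * ((b m)⁻¹ : GL γ F).1 *
      ((b m' : Matrix γ γ F) * P.E * ((b m')⁻¹ : GL γ F).1) = 0

variable {P}

omit [Finite F] in
theorem three_le_card (P : Pol γ F) : 3 ≤ Fintype.card γ := by
  have e : ({P.o, P.o', P.a₀} : Finset γ).card = 3 :=
    Finset.card_eq_three.mpr ⟨P.o, P.o', P.a₀, P.ne, P.a₀o.symm, P.a₀o'.symm, rfl⟩
  exact e ▸ Finset.card_le_univ _

/-- The centraliser of `SU` consists of scalars. -/
theorem scalar_of_comm_SU {M : Matrix γ γ F} (h : ∀ b ∈ P.SU, Commute (b : Matrix γ γ F) M) :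
    ∃ c : F, M = c • 1 := by
  let S : Submodule F (Matrix γ γ F) :=
    { carrier := {A | Commute A M}
      add_mem' := fun ha hb => Commute.add_left ha hb
      zero_mem' := Commute.zero_left M
      smul_mem' := fun c A hA => Commute.smul_left hA c }
  have hS : P.Inv S := fun b hb A hA => ((h b hb).mul_left hA).mul_left (h b⁻¹ (inv_mem hb))
  have hE : P.E ∈ S := by
    obtain ⟨s, hs, hs0⟩ := P.conj.exists_skew
    have hrd : P.RD P.eo 0 s := rd_eo ⟨rfl, rfl⟩ (by rw [h_zero_left, neg_zero]; exact hs0)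
    have h1 := h _ (root_mem hrd)
    rw [root_val, Pol.N, r_zero_left, r_zero_right, sub_zero, zero_add] at h1
    have h2 := ((h1.sub_left (Commute.one_left M)).smul_left s⁻¹)
    rwa [add_sub_cancel_left, smul_smul, inv_mul_cancel₀ hs, one_smul] at h2
  obtain ⟨c, hc⟩ := Matrix.mem_range_scalar_of_commute_single (M := M) fun a b hab => (inv_offdiag hS hE).1 a b hab
  exact ⟨c, by rw [← hc, Matrix.smul_one_eq_diagonal]; rfl⟩

theorem exists_fixed_ne (hq : 3 ≤ P.herm.q) : ∃ κ : F, P.σ κ = κ ∧ κ ≠ 0 ∧ κ ≠ 1 := by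
  by_contra hh
  push Not at hh
  have h2 : Nat.card (fixedField P.σ) ≤ Nat.card Bool := by
    refine Nat.card_le_card_of_surjective (fun b => bif b then 1 else 0) fun x => ?_
    by_cases hx : (x : F) = 0
    · exact ⟨false, Subtype.ext hx.symm⟩
    · exact ⟨true, Subtype.ext (hh x x.2 hx).symm⟩
  rw [Nat.card_eq_fintype_card (α := Bool), Fintype.card_bool] at h2
  have hq' : P.herm.q = Nat.card (fixedField P.σ) := rfl
  omega

/-- For `q = 2` the fixed elements are `0` and `1`. -/
theorem fixed_of_two (hq : ¬ 3 ≤ P.herm.q) {κ : F} (hκ : P.σ κ = κ) : κ = 0 ∨ κ = 1 := by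
  by_contra hh
  push Not at hh
  haveI : Finite (fixedField P.σ) := Subtype.finite
  apply hq
  show 3 ≤ Nat.card (fixedField P.σ)
  have hinj : Function.Injective (fun i : Fin 3 => (![0, 1, ⟨κ, hκ⟩] i : fixedField P.σ)) := by
    have h01 : (0 : fixedField P.σ) ≠ 1 := zero_ne_one
    have h0 : (0 : fixedField P.σ) ≠ ⟨κ, hκ⟩ := fun e => hh.1 (congrArg Subtype.val e).symm
    have h1 : (1 : fixedField P.σ) ≠ ⟨κ, hκ⟩ := fun e => hh.2 (congrArg Subtype.val e).symm
    intro i j e
    fin_cases i <;> fin_cases j <;> simp_all [eq_comm]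
  simpa using Nat.card_le_card_of_injective _ hinj

/-- An isotropic vector orthogonal to the hyperbolic pair, in dimension at least four. -/
theorem exists_iso_Q (h4 : 4 ≤ Fintype.card γ) : ∃ w : γ → F, w ≠ 0 ∧ P.InQ w ∧ P.h w w = 0 := by
  obtain ⟨b, hb⟩ : ∃ b, b ∉ ({P.o, P.o', P.a₀} : Finset γ) := by
    by_contra hh
    push Not at hh
    have := (Finset.card_le_card (fun x _ => hh x : (Finset.univ : Finset γ) ⊆ _)).trans Finset.card_le_three
    rw [Finset.card_univ] at this
    omega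
  simp only [Finset.mem_insert, Finset.mem_singleton, not_or] at hb
  obtain ⟨z, hz⟩ := P.conj.norm_surjective (a := (-1 : F)) (by rw [map_neg, map_one])
  refine ⟨Pi.single P.a₀ 1 + Pi.single b z, fun e => ?_, ?_, ?_⟩
  · have := congrFun e P.a₀
    simp [Ne.symm hb.2.2] at this
  · constructor <;> simp [P.a₀o.symm, P.a₀o'.symm, Ne.symm hb.1, Ne.symm hb.2.1]
  · rw [h_add_left, h_add_right, h_add_right, h_single_self P.a₀o P.a₀o', h_single_self hb.1 hb.2.1,
      show (Pi.single b z : γ → F) = z • Pi.single b 1 by rw [← Pi.single_smul, smul_eq_mul, mul_one],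
      h_smul_left, h_smul_right, h_single, h_single, P.nu_of hb.1 hb.2.1, P.nu_of P.a₀o P.a₀o',
      Pi.single_eq_of_ne hb.2.2, Pi.single_eq_of_ne (Ne.symm hb.2.2), map_one]
    linear_combination hz

theorem sieve (hr : P.Room) : P.Sieve := by
  by_cases hq : 3 ≤ P.herm.q
  · obtain ⟨κ, hκ, hκ0, hκ1⟩ := exists_fixed_ne hq
    obtain ⟨ρ, hρ⟩ := P.conj.norm_surjective hκ
    obtain ⟨b, hb, hbo⟩ := exists_torus (P := P) (ρ := ρ) (fun e => hκ0 (by rw [← hρ, e, zero_mul]))
    have e : (b : Matrix γ γ F) * P.E * (b⁻¹ : GL γ F).1 = (P.σ ρ * ρ) • P.E := by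
      rw [E, conj_r hb, hbo, r_smul_left, r_smul_right, smul_smul]
    refine ⟨1, fun _ => b, 1, κ - 1, fun _ => hb, one_mem _, sub_ne_zero.mpr hκ1, ?_, fun _ => ⟨?_, ?_⟩,
      fun _ _ => ?_⟩
    swap; · rw [e, mul_smul_comm, E_sq, smul_zero]
    swap; · rw [e, smul_mul_assoc, E_sq, smul_zero]
    swap; · rw [e, smul_mul_smul_comm, E_sq, smul_zero]
    rw [Fin.sum_univ_one, E, conj_r hb, hbo, r_smul_left, r_smul_right, smul_smul, mul_comm, hρ, Units.val_one,
      inv_one, Units.val_one, one_mul, mul_one, sub_smul, one_smul]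
  · have h4 : 4 ≤ Fintype.card γ := hr.resolve_right fun h => hq h.2
    obtain ⟨w, hw0, hwQ, hww⟩ := exists_iso_Q (P := P) h4
    obtain ⟨θ, hθ⟩ := P.conj.exists_trace_one
    have h2 : (1 : F) + 1 = 0 := by
      rcases fixed_of_two hq (κ := -1) (by rw [map_neg, map_one]) with h | h
      · exact absurd h (neg_ne_zero.mpr one_ne_zero)
      · linear_combination -h
    have hθ0 : θ ≠ 0 := fun e => by rw [e, map_zero, zero_add] at hθ; exact zero_ne_one hθ
    have hN : θ * P.σ θ = 1 :=
      (fixed_of_two hq (P.conj.norm_mem θ)).resolve_left (mul_ne_zero hθ0 ((map_ne_zero P.σ).mpr hθ0))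
    have hex : ∀ ρ : F, ∃ b ∈ P.SU, (b : Matrix γ γ F) *ᵥ P.eo = P.eo + ρ • w := fun ρ => by
      refine exists_move ?_ ?_
      · intro e
        have := congrFun e P.o
        simp [eo, hwQ.1] at this
      · rw [h_add_left, h_add_right, h_add_right, eo_iso, h_smul_right, h_smul_right, h_smul_left, h_smul_left, hww,
          hwQ.perp.1, hwQ.perp'.1]
        ring
    choose b hb hbo using hex
    obtain ⟨g, hg, hgo⟩ := exists_move (P := P) hw0 hww
    have hB : ∀ m : Fin 3, ∃ ρ, ![b 1, b θ, b (P.σ θ)] m = b ρ := fun m => by fin_cases m <;> exact ⟨_, rfl⟩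
    refine ⟨3, ![b 1, b θ, b (P.σ θ)], g, 1, fun m => by fin_cases m <;> simp [hb], hg, one_ne_zero, ?_,
      fun m => ?_, fun m m' => ?_⟩
    swap
    · obtain ⟨ρ, hρ⟩ := hB m
      rw [hρ, E, conj_r (hb _), hbo, r_mul_r, r_mul_r]
      simp [h_add_left, h_add_right, h_smul_left, h_smul_right, eo_iso, hwQ.perp.1, hwQ.perp'.1]
    swap
    · obtain ⟨ρ, hρ⟩ := hB m
      obtain ⟨ρ', hρ'⟩ := hB m'
      rw [hρ, hρ', E, conj_r (hb _), conj_r (hb _), hbo, hbo, r_mul_r]
      simp [h_add_left, h_add_right, h_smul_left, h_smul_right, eo_iso, hww, hwQ.perp.1, hwQ.perp'.1]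
    simp only [Fin.sum_univ_three, Matrix.cons_val_zero, Matrix.cons_val_one, Matrix.cons_val_two, Matrix.head_cons,
      Matrix.tail_cons, E, conj_r (hb _), conj_r hg, hbo, hgo, r_add_left, r_add_right, r_smul_left, r_smul_right,
      smul_add, smul_smul, P.invol, map_one]
    linear_combination (norm := module) hθ • (P.r P.eo w + P.r w P.eo) + hN • P.r w w + hN • P.r w w +
      h2 • (P.r P.eo w + P.r w P.eo + P.r w w)

end Pol

end Cfsg.Lib.Classical.TensorPowU
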