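import Cfsg.Agent.Classical.TensorPowU.Avg
import Cfsg.Agent.Classical.TensorPowLin.Main
import Cfsg.Agent.Classical.TensorF.UnitaryMatrix

/-!
# The stabiliser of a unitary tensor power decomposition is maximal in `SU`
-/

set_option autoImplicit false
set_option linter.unusedSectionVars false
set_option linter.unusedSimpArgs false
set_option linter.unusedVariables false
set_option linter.style.haveILetI false

namespace Cfsg.Lib.Classical.TensorPowU

open Matrix Finset
open scoped MatrixGroups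
open Cfsg.Lib.Classical.TensorPowLin (slot slot_single_apply slot_apply_ne tens tens_apply tens_mul tens_one perm permGL
  permGL_val tensGL tensGL_val permuting conjM_apply Eqj decomp mem_wreath_of_tens wreath_le_permuting det_perm_cyc
  det_slot single_mul_sl sl_mul_single_eq)
open Cfsg.Lib.Classical.TensorMax (mem_specialLinear isMaximalIn_map)
open Cfsg.Lib.Classical.TensorF (formPow_expand)

universe u

namespace Pol

section big

variable {τ γ : Type} [Fintype τ] [DecidableEq τ] [Fintype γ] [DecidableEq γ] {F : Type u} [Field F] (P : Pol γ F)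

/-- The special unitary group of the tensor power. -/
def bigSU (τ : Type) [Fintype τ] [DecidableEq τ] : Subgroup (GL (τ → γ) F) where
  carrier := {g | Iso P.σ (pnu τ P.nu) (g : Matrix (τ → γ) (τ → γ) F) ∧ (g : Matrix (τ → γ) (τ → γ) F).det = 1}
  one_mem' := ⟨by rw [Iso, Units.val_one, adj_one, one_mul], by rw [Units.val_one, det_one]⟩
  mul_mem' := by
    rintro a b ⟨ha, ha'⟩ ⟨hb, hb'⟩
    refine ⟨?_, by rw [Units.val_mul, det_mul, ha', hb', one_mul]⟩
    rw [Iso, Units.val_mul, adj_mul, mul_assoc, ← mul_assoc (adj P.σ (pnu τ P.nu) (a : Matrix (τ → γ) (τ → γ) F)),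
      show adj P.σ (pnu τ P.nu) (a : Matrix (τ → γ) (τ → γ) F) * a = 1 from ha, one_mul]
    exact hb
  inv_mem' := by
    rintro a ⟨ha, ha'⟩
    have hinv : ((a⁻¹ : GL (τ → γ) F) : Matrix (τ → γ) (τ → γ) F) = adj P.σ (pnu τ P.nu) (a : Matrix (τ → γ) (τ → γ) F) :=
      Units.inv_eq_of_mul_eq_one_left ha
    refine ⟨?_, ?_⟩
    · rw [Iso, hinv, adj_adj P.invol P.pnu_pnu, ← hinv, Units.mul_inv]
    · have h := congrArg Matrix.det (Units.mul_inv a)
      rwa [det_mul, ha', one_mul, det_one] at h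

theorem mem_bigSU {g : GL (τ → γ) F} : g ∈ P.bigSU τ ↔
    Iso P.σ (pnu τ P.nu) (g : Matrix (τ → γ) (τ → γ) F) ∧ (g : Matrix (τ → γ) (τ → γ) F).det = 1 := Iff.rfl

/-- The Hermitian space of the tensor power. -/
def bigHerm (τ : Type) [Fintype τ] [DecidableEq τ] : HermSpace F ((τ → γ) → F) where
  σ := P.σ
  h := hf P.σ (pnu τ P.nu)
  conj := P.conj
  add_left := hf_add_left
  smul_left := hf_smul_left
  symm := hf_symm P.invol P.pnu_pnu
  nondeg v hv := funext fun a => by
    have h1 := hv (Pi.single (pnu τ P.nu a) 1)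
    rw [hf_symm P.invol P.pnu_pnu, hf_single_right] at h1
    exact (map_eq_zero P.σ).mp h1

theorem slotU_mem_bigSU (i : τ) {b : GL γ F} (hb : b ∈ P.SU) : slotU i b ∈ P.bigSU τ := by
  refine ⟨?_, by rw [slotU_val]; exact det_slot i hb.2⟩
  show P.dag _ * _ = 1
  rw [slotU_val, P.dag_slot, ← TensorPowLin.slot_mul, show P.adjoint (b : Matrix γ γ F) * b = 1 from hb.1,
    TensorPowLin.slot_one]

theorem perm_iso (π : Equiv.Perm τ) :
    Iso P.σ (pnu τ P.nu) (perm π : Matrix (τ → γ) (τ → γ) F) := by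
  rw [Iso, adj_perm, TensorPowLin.perm_mul, inv_mul_cancel, TensorPowLin.perm_one]

variable [Fintype F]

/-- With all unitary transvections a group contains the special unitary group. -/
theorem le_of_transv (h4 : 4 ≤ Fintype.card (τ → γ)) {Y : Subgroup (GL (τ → γ) F)}
    (h : ∀ (y : (τ → γ) → F) (s : F), P.H y y = 0 → s + P.σ s = 0 → TensorPowLin.In Y (s • P.RK y y)) :
    P.bigSU τ ≤ Y := by
  set H := P.bigHerm τ
  set ψ : H.SIsom →* GL (τ → γ) F := (linToGL (τ → γ) F).toMonoidHom.comp (H.Isom.subtype.comp H.SIsom.subtype)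
  have hψ : ∀ (g : H.SIsom) x, (ψ g : Matrix (τ → γ) (τ → γ) F) *ᵥ x = g.1.1 x := fun g x => linToGL_mulVec _ x
  have htop : Y.comap ψ = ⊤ := by
    refine H.eq_top_of_uCentres (Or.inl (by rw [Module.finrank_fintype_fun_eq_card]; exact h4)) fun v hv => ⟨hv, ?_⟩
    intro c hc
    obtain ⟨k, hk, ek⟩ := h v c hv hc
    rw [Subgroup.mem_comap]
    convert hk using 1
    refine Units.ext (Matrix.ext_of_mulVec_single fun a => ?_)
    rw [hψ, HermSpace.uT_apply, ek, add_mulVec, one_mulVec, smul_mulVec, RK, rk_mulVec, smul_smul]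
    rfl
  intro g hg
  set g' : H.Isom := ⟨(linToGL (τ → γ) F).symm g, fun x y => by
    rw [linToGL_symm_apply, linToGL_symm_apply]; exact hg.1.hf_eq P.invol P.pnu_pnu x y⟩
  have hS : g' ∈ H.SIsom := by
    refine H.mem_SIsom.mpr (Units.ext ?_)
    rw [LinearEquiv.coe_det, Units.val_one, ← hg.2, ← LinearMap.det_toLin']
    congr 1
  have : (⟨g', hS⟩ : H.SIsom) ∈ Y.comap ψ := htop ▸ Subgroup.mem_top _
  rw [Subgroup.mem_comap] at this
  convert this using 1
  exact ((linToGL (τ → γ) F).apply_symm_apply g).symm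

end big

section std

variable {F : Type u} [Field F] [Fintype F] {m t : ℕ} {P : Pol (Fin m) F}

theorem standard_hyp (hr : P.Room) {Y : Subgroup (GL (Fin t → Fin m) F)}
    (h₁ : Cfsg.Geo.tensorWreathStandard m t F ⊓ P.bigSU (Fin t) ≤ Y) (h₂ : Y ≤ P.bigSU (Fin t)) : P.Hyp Y where
  room := hr
  iso g hg := (h₂ hg).1
  slotMem i b hb := h₁ ⟨Subgroup.subset_closure (Or.inl ⟨_, fun x y => rfl⟩), P.slotU_mem_bigSU i hb⟩
  cyc a b c hab hbc hac := by
    refine ⟨permGL (Equiv.swap a b * Equiv.swap b c), h₁ ⟨?_, P.perm_iso _, det_perm_cyc hab hbc hac⟩, rfl⟩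
    exact Subgroup.subset_closure (Or.inr ⟨_, fun x y => rfl⟩)

theorem standard_lt (ht : 2 ≤ t) :
    Cfsg.Geo.tensorWreathStandard m t F ⊓ P.bigSU (Fin t) < P.bigSU (Fin t) := by
  haveI : Nontrivial (Fin m) := ⟨⟨P.o, P.o', P.ne⟩⟩
  refine lt_of_le_of_ne inf_le_right fun h => ?_
  set i : Fin t := ⟨0, by omega⟩
  set o : Fin t := ⟨1, by omega⟩
  have hio : i ≠ o := by simp [i, o]
  set x : Fin t → Fin m := fun _ => P.o
  set y : Fin t → Fin m := fun _ => P.o'
  have hxy : x ≠ y := fun e => P.ne (congrFun e i)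
  obtain ⟨s, hs, hs0⟩ := P.conj.exists_skew
  have hdet : (1 + s • Matrix.single x y (1 : F)).det = 1 := by
    rw [Matrix.smul_single, smul_eq_mul, mul_one]
    exact Matrix.det_transvection_of_ne _ _ hxy _
  set g : GL (Fin t → Fin m) F := Matrix.GeneralLinearGroup.mkOfDetNeZero (1 + s • Matrix.single x y (1 : F))
    (by rw [hdet]; exact one_ne_zero)
  have hxν : pnu (Fin t) P.nu y = x := funext fun l => P.nu_o'
  have hyν : pnu (Fin t) P.nu x = y := funext fun l => P.nu_o
  have hg : g ∈ Cfsg.Geo.tensorWreathStandard m t F ⊓ P.bigSU (Fin t) := by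
    rw [h]
    refine ⟨?_, hdet⟩
    show adj P.σ (pnu (Fin t) P.nu) (1 + s • Matrix.single x y (1 : F)) * (1 + s • Matrix.single x y (1 : F)) = 1
    rw [adj_add, adj_one, adj_smul, adj_single P.pnu_pnu, hxν, hyν, map_one, add_mul, one_mul, mul_add, mul_one,
      smul_mul_smul_comm, Matrix.single_mul_single_of_ne _ _ _ _ hxy.symm, smul_zero, add_zero,
      eq_neg_of_add_eq_zero_right hs0, neg_smul]
    abel
  obtain ⟨j, hj⟩ := wreath_le_permuting hg.1 i
  obtain ⟨A, hA⟩ := hj (Matrix.single P.o P.o (1 : F))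
  have hgv : (g : Matrix (Fin t → Fin m) (Fin t → Fin m) F) = 1 + s • Matrix.single x y 1 := rfl
  have hgi : ((g⁻¹ : GL (Fin t → Fin m) F) : Matrix (Fin t → Fin m) (Fin t → Fin m) F) =
      1 - s • Matrix.single x y 1 := by
    rw [Matrix.coe_units_inv, hgv]
    exact Matrix.inv_eq_right_inv (by
      rw [add_mul, one_mul, mul_sub, mul_one, smul_mul_smul_comm, Matrix.single_mul_single_of_ne _ _ _ _ hxy.symm,
        smul_zero, sub_zero, sub_add_cancel])
  have e1 : Matrix.single x y (1 : F) * slot i (Matrix.single P.o P.o (1 : F)) = 0 :=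
    single_mul_sl x y i (Ne.symm P.ne)
  have e2 : slot i (Matrix.single P.o P.o (1 : F)) * Matrix.single x y (1 : F) = Matrix.single x y 1 := by
    have h' := sl_mul_single_eq (F := F) x y i (p := P.o) (q := P.o) rfl
    rwa [show Function.update x i P.o = x from Function.update_eq_self i x] at h'
  have hA' : slot j A = slot i (Matrix.single P.o P.o (1 : F)) - s • Matrix.single x y 1 := by
    rw [← hA, conjM_apply, hgv, hgi, add_mul, one_mul, smul_mul_assoc, e1, smul_zero, add_zero, mul_sub, mul_one,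
      mul_smul_comm, e2]
  obtain ⟨l, hlj⟩ : ∃ l, l ≠ j := by
    by_cases h : i = j
    · exact ⟨o, fun e => hio (h.trans e.symm)⟩
    · exact ⟨i, h⟩
  have h0 := slot_apply_ne j A (x := x) (y := y) hlj P.ne
  rw [hA', Matrix.sub_apply, Matrix.smul_apply, Matrix.single_apply_same, slot_single_apply, if_neg, zero_sub,
    neg_eq_zero, smul_eq_mul, mul_one] at h0
  · exact hs h0
  · rintro ⟨-, e⟩
    exact P.ne (by simpa [x, y, Function.update_of_ne hio.symm] using (congrFun e o).symm)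

/-- The standard stabiliser is maximal in the special unitary group of the tensor power. -/
theorem isMaximalIn_standard (hr : P.Room) (ht : 2 ≤ t) :
    Cfsg.Geo.IsMaximalIn (P.bigSU (Fin t))
      (Cfsg.Geo.tensorWreathStandard m t F ⊓ P.bigSU (Fin t)) := by
  haveI : Nonempty (Fin t) := Fin.pos_iff_nonempty.mp (by omega)
  haveI : Nontrivial (Fin m) := ⟨⟨P.o, P.o', P.ne⟩⟩
  refine ⟨standard_lt ht, fun M h₁ h₂ => ?_⟩
  have hX := standard_hyp hr h₁ h₂
  by_cases hC : ∀ i, P.CScal M i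
  · refine Or.inl (le_antisymm (le_inf (fun g hg => ?_) h₂) h₁)
    obtain ⟨π, b, h⟩ := decomp (fun i => (⟨hX, hC⟩ : P.Good M).permutes_slots hg i : g ∈ permuting (Fin t) (Fin m) F)
    exact mem_wreath_of_tens h
  · push Not at hC
    obtain ⟨i₀, hi₀⟩ := hC
    refine Or.inr (le_antisymm h₂ (P.le_of_transv ?_ fun y s hy hs => P.transv_in hX hi₀ hy hs))
    rw [Fintype.card_fun, Fintype.card_fin, Fintype.card_fin]
    have h3 : 3 ≤ m := by simpa using three_le_card P
    calc 4 ≤ 3 ^ 2 := by norm_num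
      _ ≤ m ^ 2 := Nat.pow_le_pow_left h3 2
      _ ≤ m ^ t := Nat.pow_le_pow_right (by omega) ht

end std

end Pol

section transport

variable {F : Type u} [Field F] [Fintype F]

set_option maxHeartbeats 1000000 in
/-- The stabiliser of a unitary tensor power decomposition is maximal in `SU`. -/
theorem isMaximalIn_unitary_tensorWreath (n q : ℕ) (hF : Fintype.card F = q ^ 2) (k t : ℕ) (hk : 3 ≤ k) (ht : 2 ≤ t)
    (hex : ¬ (q = 2 ∧ k = 3)) (e : Fin n ≃ (Fin t → Fin k)) (Q : GL (Fin n) F)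
    (f₁ : (Fin k → F) → (Fin k → F) → F) (hf₁ : Cfsg.Geo.IsUnitaryFormPow q f₁)
    (hT : Cfsg.Geo.IsTensorPowerFormStructure (fun x : F => x ^ q) (Cfsg.hermForm n F q) f₁ e Q) :
    Cfsg.Geo.IsMaximalIn (Cfsg.GU n F q ⊓ Cfsg.Geo.specialLinear (Fin n) F)
      (Cfsg.Geo.tensorWreathSubgroup k t e Q ⊓ (Cfsg.GU n F q ⊓ Cfsg.Geo.specialLinear (Fin n) F)) := by
  classical
  obtain ⟨c, hc0, hT⟩ := hT
  have hσ := powConj_apply hF
  let P : Pol (Fin k) F :=
    { σ := powConj hF
      conj := powConj_isConj hF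
      o := ⟨0, by omega⟩
      o' := ⟨1, by omega⟩
      ne := by simp
      a₀ := ⟨2, by omega⟩
      a₀o := by simp
      a₀o' := by simp }
  have hq : P.herm.q = q := (stdHerm_q (n := n) hF)
  have hr : P.Room := by
    have h2 : 2 ≤ P.herm.q := P.conj.two_le_card_fixed
    show 4 ≤ Fintype.card (Fin k) ∨ (Fintype.card (Fin k) = 3 ∧ 3 ≤ P.herm.q)
    rw [Fintype.card_fin]
    rw [hq] at h2 ⊢
    omega
  -- normalise the form on a factor
  let H₁ : HermSpace F (Fin k → F) :=
    { σ := powConj hF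
      h := f₁
      conj := powConj_isConj hF
      add_left := hf₁.add_left
      smul_left := hf₁.smul_left
      symm := fun a b => by rw [hσ]; exact hf₁.herm _ _
      nondeg := fun v hv => by
        by_contra h
        obtain ⟨⟨x, hx⟩, -⟩ := hf₁.nondegenerate v h
        exact hx (hv x) }
  obtain ⟨A, hA⟩ := P.herm.exists_isometry H₁ rfl rfl
  set b₀ : GL (Fin k) F := linToGL (Fin k) F A with hb₀
  set G : Matrix (Fin k) (Fin k) F := Matrix.of fun a b => Cfsg.Geo.gramMatrix f₁ a b with hG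
  set J : Matrix (Fin k) (Fin k) F := Matrix.of fun a b => if b = P.nu a then 1 else 0 with hJ
  have hf₁G : ∀ x y : Fin k → F, f₁ x y = x ⬝ᵥ (G *ᵥ ((powConj hF) ∘ y)) := fun x y => by
    rw [formPow_expand hF hf₁, Cfsg.Geo.formOfGram]
    simp only [dotProduct, Matrix.mulVec, Finset.mul_sum, hG, Matrix.of_apply, Function.comp_apply, hσ, mul_assoc]
  have hfac : (b₀ : Matrix (Fin k) (Fin k) F)ᵀ * G * (b₀ : Matrix (Fin k) (Fin k) F).map (powConj hF) = J := by
    ext a b
    have h1 : f₁ ((b₀ : Matrix (Fin k) (Fin k) F) *ᵥ Pi.single a 1) ((b₀ : Matrix (Fin k) (Fin k) F) *ᵥ Pi.single b 1) =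
        J a b := by
      rw [hb₀, linToGL_mulVec, linToGL_mulVec]
      refine (hA _ _).trans ?_
      show P.h (Pi.single a 1) (Pi.single b 1) = _
      rw [Pol.h_single, hJ, Matrix.of_apply, Pi.single_apply]
      refine if_congr ⟨fun h => ?_, fun h => ?_⟩ rfl rfl
      · rw [← h, P.nu_nu]
      · rw [h, P.nu_nu]
    rw [← h1, hf₁G, mulVec_single_one, mulVec_single_one, Matrix.mul_assoc]
    simp only [Matrix.mul_apply, dotProduct, Matrix.mulVec, Matrix.transpose_apply, Matrix.map_apply,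
      Function.comp_apply, Matrix.col_apply]
  set B : GL (Fin t → Fin k) F := tensGL fun _ => b₀ with hB
  let L : ((Fin t → Fin k) → F) → Fin n → F := fun x =>
    (Q : Matrix (Fin n) (Fin n) F) *ᵥ (((B : Matrix (Fin t → Fin k) (Fin t → Fin k) F) *ᵥ x) ∘ e)
  have hsurj : ∀ u, ∃ x, L x = u := fun u =>
    ⟨(B⁻¹ : GL (Fin t → Fin k) F).1 *ᵥ ((((Q⁻¹ : GL (Fin n) F) : Matrix (Fin n) (Fin n) F) *ᵥ u) ∘ e.symm), by
      show (Q : Matrix (Fin n) (Fin n) F) *ᵥ _ = u
      rw [mulVec_mulVec, Units.mul_inv, one_mulVec, Function.comp_assoc, Equiv.symm_comp_self, Function.comp_id,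
        mulVec_mulVec, Units.mul_inv, one_mulVec]⟩
  have hform : ∀ x y, Cfsg.hermForm n F q (L x) (L y) = c * hf P.σ (pnu (Fin t) P.nu) x y := by
    intro x y
    show Cfsg.hermForm n F q ((Q : Matrix (Fin n) (Fin n) F) *ᵥ _) ((Q : Matrix (Fin n) (Fin n) F) *ᵥ _) = _
    rw [hT]
    congr 1
    set BM := (B : Matrix (Fin t → Fin k) (Fin t → Fin k) F) with hBM
    have hmap : BM.map (powConj hF) = tens fun _ => (b₀ : Matrix (Fin k) (Fin k) F).map (powConj hF) := by
      ext a b
      simp only [hBM, hB, tensGL_val, Matrix.map_apply, tens_apply, map_prod]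
    have htr : BMᵀ = tens fun _ => (b₀ : Matrix (Fin k) (Fin k) F)ᵀ := by
      ext a b
      simp only [hBM, hB, tensGL_val, Matrix.transpose_apply, tens_apply]
    have htJ : BMᵀ * tens (fun _ => G) * BM.map (powConj hF) =
        tens fun _ : Fin t => J := by
      rw [hmap, htr, tens_mul, tens_mul]
      congr 1
      funext l
      exact hfac
    calc ∑ a, ∑ b, (BM *ᵥ x) a * (∏ l, Cfsg.Geo.gramMatrix f₁ (a l) (b l)) * (BM *ᵥ y) b ^ q
        = (BM *ᵥ x) ⬝ᵥ (tens (fun _ => G) *ᵥ ((powConj hF) ∘ (BM *ᵥ y))) := by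
          simp only [dotProduct, Matrix.mulVec, tens_apply, Finset.mul_sum, hG, Matrix.of_apply, Function.comp_apply,
            hσ, mul_assoc]
      _ = x ⬝ᵥ ((BMᵀ * tens (fun _ => G) * BM.map (powConj hF)) *ᵥ ((powConj hF) ∘ y)) := by
          rw [show (powConj hF) ∘ (BM *ᵥ y) = BM.map (powConj hF) *ᵥ ((powConj hF) ∘ y) from
            funext fun a => RingHom.map_mulVec _ _ _ _, mul_assoc, ← mulVec_mulVec, ← mulVec_mulVec,
            dotProduct_mulVec x, vecMul_transpose]
      _ = _ := by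
          rw [htJ]
          simp only [dotProduct, hf]
          refine Finset.sum_congr rfl fun a _ => ?_
          congr 1
          rw [Matrix.mulVec, dotProduct, Finset.sum_eq_single (pnu (Fin t) P.nu a)]
          · rw [tens_apply, Finset.prod_eq_one fun l _ => by rw [hJ, Matrix.of_apply, pnu_apply, if_pos rfl], one_mul]
            rfl
          · intro b _ hb
            obtain ⟨l, hl⟩ := Function.ne_iff.mp hb
            rw [tens_apply, Finset.prod_eq_zero (Finset.mem_univ l) (by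
              rw [hJ, Matrix.of_apply, if_neg]; exact hl), zero_mul]
          · simp
  let φ : GL (Fin t → Fin k) F ≃* GL (Fin n) F :=
    (MulAut.conj B).trans ((Cfsg.Geo.glReindex e.symm).trans (MulAut.conj Q))
  have hact : ∀ g x, ((φ g : GL (Fin n) F) : Matrix (Fin n) (Fin n) F) *ᵥ L x =
      L ((g : Matrix (Fin t → Fin k) (Fin t → Fin k) F) *ᵥ x) := by
    intro g x
    show ((Q * Cfsg.Geo.glReindex e.symm (B * g * B⁻¹) * Q⁻¹ : GL (Fin n) F) : Matrix (Fin n) (Fin n) F) *ᵥ
      ((Q : Matrix (Fin n) (Fin n) F) *ᵥ _) = (Q : Matrix (Fin n) (Fin n) F) *ᵥ _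
    rw [mulVec_mulVec, ← Units.val_mul, inv_mul_cancel_right, Units.val_mul, ← mulVec_mulVec]
    congr 1
    show (((B * g * B⁻¹ : GL (Fin t → Fin k) F) : Matrix (Fin t → Fin k) (Fin t → Fin k) F).submatrix e e) *ᵥ _ = _
    rw [Matrix.submatrix_mulVec_equiv, Function.comp_assoc, Equiv.self_comp_symm, Function.comp_id, mulVec_mulVec,
      ← Units.val_mul, inv_mul_cancel_right, Units.val_mul, ← mulVec_mulVec]
  have hdet : ∀ g, ((φ g : GL (Fin n) F) : Matrix (Fin n) (Fin n) F).det =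
      (g : Matrix (Fin t → Fin k) (Fin t → Fin k) F).det := by
    intro g
    show ((Q * Cfsg.Geo.glReindex e.symm (B * g * B⁻¹) * Q⁻¹ : GL (Fin n) F) : Matrix (Fin n) (Fin n) F).det = _
    rw [Units.val_mul, Units.val_mul, det_mul, det_mul, mul_right_comm, ← det_mul, Units.mul_inv, det_one, one_mul]
    refine (Matrix.det_reindex_self e.symm _).trans ?_
    rw [Units.val_mul, Units.val_mul, det_mul, det_mul, mul_right_comm, ← det_mul, Units.mul_inv, det_one, one_mul]
  have hS : (P.bigSU (Fin t)).map φ.toMonoidHom = Cfsg.GU n F q ⊓ Cfsg.Geo.specialLinear (Fin n) F := by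
    ext g
    obtain ⟨g, rfl⟩ := φ.surjective g
    rw [Subgroup.mem_map_equiv, MulEquiv.symm_apply_apply, Subgroup.mem_inf, mem_specialLinear, hdet, Pol.mem_bigSU]
    refine and_congr ⟨fun hg u v => ?_, fun hg => iso_of_hf P.invol P.pnu_pnu fun x y => ?_⟩ Iff.rfl
    · obtain ⟨x, rfl⟩ := hsurj u
      obtain ⟨y, rfl⟩ := hsurj v
      show Cfsg.hermForm n F q (((φ g : GL (Fin n) F) : Matrix (Fin n) (Fin n) F) *ᵥ L x)
        (((φ g : GL (Fin n) F) : Matrix (Fin n) (Fin n) F) *ᵥ L y) = _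
      rw [hact, hact, hform, hform, hg.hf_eq P.invol P.pnu_pnu]
    · have h1 : Cfsg.hermForm n F q (((φ g : GL (Fin n) F) : Matrix (Fin n) (Fin n) F) *ᵥ L x)
        (((φ g : GL (Fin n) F) : Matrix (Fin n) (Fin n) F) *ᵥ L y) = Cfsg.hermForm n F q (L x) (L y) := hg (L x) (L y)
      rw [hact, hact, hform, hform] at h1
      exact mul_left_cancel₀ hc0 h1
  have hBW : B ∈ Cfsg.Geo.tensorWreathStandard k t F := Subgroup.subset_closure (Or.inl ⟨_, fun x y => rfl⟩)
  have hW : (Cfsg.Geo.tensorWreathStandard k t F).map φ.toMonoidHom = Cfsg.Geo.tensorWreathSubgroup k t e Q := by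
    have h1 : (Cfsg.Geo.tensorWreathStandard k t F).map (MulAut.conj B).toMonoidHom =
        Cfsg.Geo.tensorWreathStandard k t F := by
      ext g
      rw [Subgroup.mem_map_equiv, MulAut.conj_symm_apply]
      refine ⟨fun h => ?_, fun h => mul_mem (mul_mem (inv_mem hBW) h) hBW⟩
      have := mul_mem (mul_mem hBW h) (inv_mem hBW)
      simpa [mul_assoc] using this
    conv_rhs => rw [Cfsg.Geo.tensorWreathSubgroup, ← h1, Subgroup.map_map, Subgroup.map_map]
    rfl
  have := isMaximalIn_map φ (Pol.isMaximalIn_standard (t := t) hr ht)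
  rwa [Subgroup.map_inf _ _ _ φ.injective, hS, hW] at this

end transport

end Cfsg.Lib.Classical.TensorPowU
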