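import Cfsg.Agent.Classical.TensorPowU.Blk
import Cfsg.Agent.Classical.TensorPowU.Gen

/-!
# Elements commuting with a nilpotent of a slot; the fixed points of roots on the conjugates of a slot
-/

set_option autoImplicit false
set_option linter.unusedSectionVars false
set_option linter.unusedSimpArgs false
set_option linter.unusedVariables false
set_option linter.style.haveILetI false

namespace Cfsg.Lib.Classical.TensorPowU

open Matrix Finset
open scoped MatrixGroups commutatorElement
open Cfsg.Lib.Classical.TensorPowLin (slot slot_mul slot_one slot_add slot_sub slot_smul slot_zero slot_neg slot_sum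
  slot_comm slot_injective In conjM conjM_apply conjM_mul conjM_one conjM_conjM conjM_id conjM_inv_conjM
  conjM_conjM_inv commute_conjM commute_conjM_left Comm comm_slot_of_offdiag Eqj eq_slot_of_comm slot_scalar)

universe u

variable {τ γ : Type} [Fintype τ] [DecidableEq τ] [Fintype γ] [DecidableEq γ] {F : Type u} [Field F]

/-- An element of a slot normalises every slot. -/
theorem slotU_normal [Nonempty γ] (j l : τ) (b : GL γ F) : Eqj (slotU j b : GL (τ → γ) F) l l := by
  intro A
  by_cases h : l = j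
  · subst h
    exact ⟨(b : Matrix γ γ F) * A * (b⁻¹ : GL γ F).1, by rw [conjM_apply, slotU_val, slotU_inv, slot_mul, slot_mul]⟩
  · refine ⟨A, ?_⟩
    rw [conjM_apply, slotU_val, (slot_comm (Ne.symm h) _ _).eq, mul_assoc, ← slotU_val j b, Units.mul_inv, mul_one]

theorem conjM_slotU (j : τ) (b : GL γ F) (A : Matrix γ γ F) :
    conjM (slotU j b : GL (τ → γ) F) (slot j A) = slot j ((b : Matrix γ γ F) * A * (b⁻¹ : GL γ F).1) := by
  rw [conjM_apply, slotU_val, slotU_inv, slot_mul, slot_mul]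

/-- A slot as a homomorphism. -/
noncomputable def slotHom (i : τ) : GL γ F →* GL (τ → γ) F where
  toFun b := slotU i b
  map_one' := Units.ext (by rw [slotU_val, Units.val_one, slot_one, Units.val_one])
  map_mul' a b := Units.ext (by rw [slotU_val, Units.val_mul, slot_mul, Units.val_mul, slotU_val, slotU_val])

theorem mk_eq_of_conj_eq {b b' : GL γ F}
    (h : ∀ A : Matrix γ γ F, (b : Matrix γ γ F) * A * (b⁻¹ : GL γ F).1 = (b' : Matrix γ γ F) * A * (b'⁻¹ : GL γ F).1) :
    QuotientGroup.mk' (Subgroup.center (GL γ F)) b = QuotientGroup.mk' (Subgroup.center (GL γ F)) b' := by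
  refine QuotientGroup.eq.mpr (Subgroup.mem_center_iff.mpr fun k => ?_)
  have h1 : b * k * b⁻¹ = b' * k * b'⁻¹ := Units.ext (by rw [Units.val_mul, Units.val_mul, Units.val_mul, Units.val_mul]; exact h k)
  calc k * (b⁻¹ * b') = b⁻¹ * (b * k * b⁻¹) * b' := by group
    _ = b⁻¹ * (b' * k * b'⁻¹) * b' := by rw [h1]
    _ = _ := by group

theorem exists_scalar_of_mem_center {z : GL γ F} (hz : z ∈ Subgroup.center (GL γ F)) :
    ∃ c : F, (z : Matrix γ γ F) = c • 1 := by
  rw [GeneralLinearGroup.center_eq_range_scalar] at hz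
  obtain ⟨a, rfl⟩ := hz
  exact ⟨a, by simp [GeneralLinearGroup.scalar, Matrix.smul_one_eq_diagonal]⟩

namespace Pol

variable {P : Pol γ F} {X : Subgroup (GL (τ → γ) F)}

theorem exists_h_one {e : γ → F} (he : e ≠ 0) : ∃ x, P.h x e = 1 := by
  by_contra hh
  push Not at hh
  refine he (P.herm.nondeg e fun x => ?_)
  by_contra hx
  exact hh ((P.h x e)⁻¹ • x) (by rw [h_smul_left]; exact inv_mul_cancel₀ hx)

theorem r_ne {e : γ → F} (he : e ≠ 0) : P.r e e ≠ 0 := by
  intro h0
  obtain ⟨x, hx⟩ := exists_h_one (P := P) he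
  have h1 := congrArg (fun M : Matrix γ γ F => M *ᵥ x) h0
  simp only [r_mulVec, hx, one_smul, zero_mulVec] at h1
  exact he h1

/-- A skew matrix of rank one. -/
theorem skew_rankOne {v φ : γ → F} (hv : v ≠ 0) (hφ : φ ≠ 0) (hφv : φ ⬝ᵥ v = 0)
    (hsk : P.adjoint (vecMulVec v φ) = -vecMulVec v φ) :
    ∃ c : F, c ≠ 0 ∧ P.h v v = 0 ∧ vecMulVec v φ = c • P.r v v := by
  set u : γ → F := fun a => P.σ (φ (P.nu a))
  have hK : vecMulVec v φ = P.r u v := by
    show _ = vecMulVec v (fun a => P.σ (u (P.nu a)))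
    congr 1
    funext a
    show _ = P.σ (P.σ (φ (P.nu (P.nu a))))
    rw [P.invol, P.nu_nu]
  rw [hK, adjoint, adj_rk P.invol P.nu_nu] at hsk
  obtain ⟨x, hx⟩ := exists_h_one (P := P) hv
  have h1 := congrArg (fun M : Matrix γ γ F => M *ᵥ x) hsk
  simp only [r_mulVec, neg_mulVec, hx, one_smul] at h1
  obtain ⟨d, hu⟩ : ∃ d : F, u = d • v := ⟨-P.h x u, h1.trans (neg_smul _ _).symm⟩
  have hc : d ≠ 0 := by
    intro h0
    rw [h0, zero_smul] at hu
    exact hφ (funext fun a => (map_eq_zero P.σ).mp (by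
      have := congrFun hu (P.nu a)
      simpa [u, P.nu_nu] using this))
  refine ⟨P.σ d, (map_ne_zero P.σ).mpr hc, ?_, ?_⟩
  · have h2 : P.h v u = 0 := by
      rw [← hφv]
      show ∑ a, v a * P.σ (P.σ (φ (P.nu (P.nu a)))) = ∑ a, φ a * v a
      exact Finset.sum_congr rfl fun a _ => by rw [P.invol, P.nu_nu, mul_comm]
    rw [hu, h_smul_right] at h2
    exact (mul_eq_zero.mp h2).resolve_left ((map_ne_zero P.σ).mpr hc)
  · rw [hK, hu, r_smul_left]

/-- A nilpotent reaching an isotropic vector which it preserves. -/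
def Tight (P : Pol γ F) (Nm : Matrix γ γ F) : Prop :=
  ∃ e z : γ → F, e ≠ 0 ∧ P.h e e = 0 ∧ Nm *ᵥ z = e ∧ P.r e e * Nm = 0

theorem tight_r {v : γ → F} (hv : v ≠ 0) (hvv : P.h v v = 0) : P.Tight (P.r v v) := by
  obtain ⟨x, hx⟩ := exists_h_one (P := P) hv
  exact ⟨v, x, hv, hvv, by rw [r_mulVec, hx, one_smul], by rw [r_mul_r, hvv, zero_smul]⟩

theorem Hyp.dag_conj_slot (hX : P.Hyp X) {g : GL (τ → γ) F} (hg : g ∈ X) (i : τ) (A : Matrix γ γ F) :
    P.dag (conjM g (slot i A)) = conjM g (slot i (P.adjoint A)) := by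
  rw [conjM_apply, hX.dag_conj hg, P.dag_slot, conjM_apply]

/-- An automorphism of a slot induced from `X` is a similitude. -/
theorem Hyp.similitude [Nonempty γ] (hX : P.Hyp X) {x : GL (τ → γ) F} (hx : x ∈ X) {i : τ} {b : GL γ F}
    (hb : ∀ A, conjM x (slot i A) = slot i ((b : Matrix γ γ F) * A * (b⁻¹ : GL γ F).1)) :
    ∃ μ : F, P.adjoint (b : Matrix γ γ F) * (b : Matrix γ γ F) = μ • 1 := by
  have h1 : ∀ A : Matrix γ γ F,
      A * (P.adjoint (b : Matrix γ γ F) * b) = P.adjoint (b : Matrix γ γ F) * b * A := fun A => by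
    have h := hX.dag_conj_slot hx i (P.adjoint A)
    rw [hb, hb, P.dag_slot, adjoint, adj_mul, adj_mul, adj_adj P.invol P.nu_nu] at h
    have h2 := congrArg (fun M => P.adjoint (b : Matrix γ γ F) * M * (b : Matrix γ γ F)) (slot_injective i h)
    simp only [adjoint, adj_adj P.invol P.nu_nu, mul_assoc, Units.inv_mul, mul_one] at h2 ⊢
    rw [← mul_assoc (adj P.σ P.nu (b : Matrix γ γ F)), ← adj_mul, Units.inv_mul, adj_one, one_mul] at h2
    exact h2
  obtain ⟨c, hc⟩ := Matrix.mem_range_scalar_of_commute_single (M := P.adjoint (b : Matrix γ γ F) * (b : Matrix γ γ F))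
    fun p q _ => h1 _
  exact ⟨c, by rw [← hc, Matrix.smul_one_eq_diagonal]; rfl⟩

variable [Fintype F]

/-- A conjugate of a root of slot `j` normalising slot `i`. -/
theorem Good.small_cases (hG : P.Good X) {g : GL (τ → γ) F} (hg : g ∈ X) {i j : τ} {e : γ → F} (he : e ≠ 0)
    (hee : P.h e e = 0) {sk : F} (hsk : sk ≠ 0) (hsk0 : sk + P.σ sk = 0) {h : GL (τ → γ) F}
    (hh : (h : Matrix (τ → γ) (τ → γ) F) = 1 + conjM g (slot j (sk • P.r e e))) (hn : Eqj h i i) :
    CM i (h : Matrix (τ → γ) (τ → γ) F) ∨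
      ∃ (c : F) (e' : γ → F), c ≠ 0 ∧ e' ≠ 0 ∧ P.h e' e' = 0 ∧
        conjM g (slot j (sk • P.r e e)) = slot i (c • P.r e' e') := by
  classical
  have hX := hG.hyp
  haveI : Nonempty γ := ⟨P.o⟩
  obtain ⟨p, hp⟩ := CharP.exists F
  haveI : Fact p.Prime := ⟨CharP.char_is_prime F p⟩
  haveI : CharP (Matrix (τ → γ) (τ → γ) F) p := by
    haveI : Nonempty (τ → γ) := ⟨fun _ => P.o⟩
    exact Matrix.charP p
  set N := conjM g (slot j (sk • P.r e e)) with hN
  have hNN : N * N = 0 := by
    rw [hN, ← conjM_mul, ← slot_mul, smul_mul_smul_comm, r_mul_r, hee, zero_smul, smul_zero, slot_zero, map_zero]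
  have hhp : (TensorPowLin.coord i h) ^ p = 1 := by
    rw [← map_pow, show h ^ p = 1 from Units.ext (by
      rw [Units.val_pow_eq_pow_val, hh, TensorPowLin.root_pow hNN, ← Nat.cast_smul_eq_nsmul F, CharP.cast_eq_zero,
        zero_smul, add_zero, Units.val_one]), map_one]
  have hrank : ((TensorPowLin.coord i h : GL ((TensorPowLin.Rest i → γ) × γ) F) :
      Matrix ((TensorPowLin.Rest i → γ) × γ) ((TensorPowLin.Rest i → γ) × γ) F) - 1 =
      (TensorPowLin.toBig i).symm N := by
    rw [AlgEquiv.eq_symm_apply, map_sub, map_one, TensorPowLin.coord_val, hh, add_sub_cancel_left]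
  have hr : (((TensorPowLin.coord i h : GL ((TensorPowLin.Rest i → γ) × γ) F) :
      Matrix ((TensorPowLin.Rest i → γ) × γ) ((TensorPowLin.Rest i → γ) × γ) F) - 1).rank ≤
      Fintype.card (TensorPowLin.Rest i → γ) := by
    rw [hrank]
    show (Matrix.reindex (TensorPowLin.slotE i) (TensorPowLin.slotE i) N).rank ≤ _
    rw [Matrix.rank_reindex, hN, conjM_apply,
      Matrix.rank_mul_eq_left_of_isUnit_det _ _ ((Matrix.isUnit_iff_isUnit_det _).mp (Units.isUnit _)),
      Matrix.rank_mul_eq_right_of_isUnit_det _ _ ((Matrix.isUnit_iff_isUnit_det _).mp (Units.isUnit _)),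
      TensorPowLin.card_rest i j, TensorPowLin.slot_eq, r, rk, ← smul_vecMulVec]
    show (Matrix.reindex (TensorPowLin.slotE j).symm (TensorPowLin.slotE j).symm _).rank ≤ _
    rw [Matrix.rank_reindex]
    exact TensorMax.rank_rootMat_le _ _
  rcases TensorPowLin.kron_cases (three_le_card P) (TensorPowLin.kron_of_normal hn) hhp hr with
    ⟨a, ha⟩ | ⟨e', φ', he', hφ', hφe, ha⟩
  · left
    intro A
    rw [← TensorPowLin.coord_val i h, ha]
    exact (TensorPowLin.outer_comm i a A).symm
  · right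
    have hbig : N = slot i (vecMulVec e' φ') := by
      have h1 : (h : Matrix (τ → γ) (τ → γ) F) = slot i (1 + vecMulVec e' φ') := by
        rw [← TensorPowLin.coord_val i h, ha, TensorPowLin.slot_eq]
      rw [hh, slot_add, slot_one] at h1
      exact add_left_cancel h1
    have hskew : P.adjoint (vecMulVec e' φ') = -vecMulVec e' φ' := by
      refine slot_injective (τ := τ) i ?_
      rw [← P.dag_slot, slot_neg, ← hbig, hN, hX.dag_conj_slot hg, adjoint, adj_smul, adj_rk P.invol P.nu_nu,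
        eq_neg_of_add_eq_zero_right hsk0, neg_smul, slot_neg, map_neg]
    obtain ⟨c, hc, hiso, hce⟩ := skew_rankOne he' hφ' hφe hskew
    exact ⟨c, e', hc, he', hiso, by rw [hbig, hce]⟩

set_option maxHeartbeats 1000000 in
/-- An element commuting with a tight nilpotent of a slot normalises the slot. -/
theorem Good.normal_of_comm (hG : P.Good X) {x : GL (τ → γ) F} (hx : x ∈ X) {j : τ} {Nm : Matrix γ γ F}
    (ht : P.Tight Nm) (hfix : Commute (x : Matrix (τ → γ) (τ → γ) F) (slot j Nm)) : Eqj x j j := by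
  classical
  have hX := hG.hyp
  haveI : Nonempty γ := ⟨P.o⟩
  -- move the isotropic vector to `eo`
  suffices key : ∀ (x : GL (τ → γ) F), x ∈ X → ∀ (Nm : Matrix γ γ F) (z : γ → F), Nm *ᵥ z = P.eo → P.E * Nm = 0 →
      Commute (x : Matrix (τ → γ) (τ → γ) F) (slot j Nm) → Eqj x j j by
    obtain ⟨e, z, he, hee, hz, hk⟩ := ht
    obtain ⟨b, hb, hbe⟩ := exists_move (P := P) he hee
    have h1 := key ((slotU j b)⁻¹ * x * slotU j b)
      (mul_mem (mul_mem (inv_mem (hX.slotMem j b hb)) hx) (hX.slotMem j b hb))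
      ((b⁻¹ : GL γ F).1 * Nm * (b : Matrix γ γ F)) ((b⁻¹ : GL γ F).1 *ᵥ z) ?_ ?_ ?_
    · have e : x = slotU j b * ((slotU j b)⁻¹ * x * slotU j b) * (slotU j b)⁻¹ := by group
      rw [e]
      exact Eqj.trans (slotU_normal j j b).inv (Eqj.trans h1 (slotU_normal j j b))
    · rw [mulVec_mulVec, mul_assoc, Units.mul_inv, mul_one, ← mulVec_mulVec, hz, ← hbe, mulVec_mulVec, Units.inv_mul,
        one_mulVec]
    · have e2 : P.E = (b⁻¹ : GL γ F).1 * P.r e e * (b : Matrix γ γ F) := by
        rw [← hbe, ← conj_r hb, E]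
        simp only [mul_assoc, Units.inv_mul, mul_one]
        rw [← mul_assoc, Units.inv_mul, one_mul]
      rw [e2]
      calc (b⁻¹ : GL γ F).1 * P.r e e * (b : Matrix γ γ F) * ((b⁻¹ : GL γ F).1 * Nm * (b : Matrix γ γ F))
          = (b⁻¹ : GL γ F).1 * (P.r e e * Nm) * (b : Matrix γ γ F) := by
            simp only [mul_assoc, Units.mul_inv_cancel_left]
        _ = 0 := by rw [hk, mul_zero, zero_mul]
    · have h2 := commute_conjM (slotU j b)⁻¹ hfix
      have e3 : conjM (slotU j b)⁻¹ (slot j Nm : Matrix (τ → γ) (τ → γ) F) =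
          slot j ((b⁻¹ : GL γ F).1 * Nm * (b : Matrix γ γ F)) := by
        rw [conjM_apply, inv_inv, slotU_inv, slotU_val, slot_mul, slot_mul]
      rw [e3, conjM_apply, inv_inv] at h2
      exact h2
  clear hfix ht hx Nm x
  intro x hx Nm z hz hk hfix
  obtain ⟨sk, hsk, hsk0⟩ := P.conj.exists_skew
  have hrd : P.RD P.eo 0 sk := rd_eo ⟨rfl, rfl⟩ (by rw [h_zero_left, neg_zero]; exact hsk0)
  have hN : P.N P.eo 0 sk = sk • P.E := by rw [Pol.N, r_zero_left, r_zero_right, sub_zero, zero_add, E]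
  set s := x * slotU j (root hrd) * x⁻¹ with hs
  have hsX : s ∈ X := mul_mem (mul_mem hx (hX.slotMem j _ (root_mem hrd))) (inv_mem hx)
  have hsv : (s : Matrix (τ → γ) (τ → γ) F) = 1 + conjM x (slot j (sk • P.r P.eo P.eo)) := by
    rw [hs, Units.val_mul, Units.val_mul, slotU_val, root_val, hN, slot_add, slot_one, mul_add, mul_one, add_mul,
      Units.mul_inv, conjM_apply]
    rfl
  have hxN : conjM x (slot j Nm : Matrix (τ → γ) (τ → γ) F) = slot j Nm := by
    rw [conjM_apply, hfix.eq, mul_assoc, Units.mul_inv, mul_one]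
  have hsN : (s : Matrix (τ → γ) (τ → γ) F) * slot j Nm = slot j Nm := by
    rw [hsv, add_mul, one_mul]
    nth_rewrite 2 [← hxN]
    rw [← conjM_mul, ← slot_mul, smul_mul_assoc, show P.r P.eo P.eo * Nm = 0 from hk, smul_zero, slot_zero, map_zero,
      add_zero]
  set Pm : Matrix γ γ F := Matrix.single P.o P.o 1 with hPm0
  have hPm : Nm * vecMulVec z (Pi.single P.o 1) = Pm := by
    rw [mul_vecMulVec, hz, eo, show Pm = Matrix.single P.o P.o 1 from rfl, Matrix.single_eq_single_vecMulVec_single]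
  have hsP : (s : Matrix (τ → γ) (τ → γ) F) * slot j Pm = slot j Pm := by
    rw [← hPm, slot_mul, ← mul_assoc, hsN]
  have hblk : ∀ a, blk j (s : Matrix (τ → γ) (τ → γ) F) a P.o =
      if a = P.o then (1 : Matrix (τ → γ) (τ → γ) F) else 0 := fun a => by
    have h1 := congrArg (fun M => blk j M a P.o) hsP
    simp only [hPm0] at h1
    rw [blk_mul, Finset.sum_eq_single P.o (fun b _ hb => by
      rw [blk_slot, Matrix.single_apply_of_ne _ _ _ _ _ (fun e => hb e.1.symm), zero_smul, mul_zero]) (by simp),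
      blk_slot, blk_slot, Matrix.single_apply_same, one_smul, mul_one] at h1
    rw [h1, Matrix.single_apply]
    by_cases ha : a = P.o
    · simp [ha]
    · simp [ha, Ne.symm ha]
  have hn : Eqj s j j := hG.normal_of_stab hsX fun a ha => by rw [hblk, if_neg ha]
  have hE0 : ∀ c : F, c ≠ 0 → conjM x (slot j (c • P.r P.eo P.eo) : Matrix (τ → γ) (τ → γ) F) ≠ 0 := by
    intro c hc h0
    have h1 := congrArg (conjM x⁻¹) h0
    rw [conjM_inv_conjM, map_zero, ← slot_zero j] at h1
    exact r_ne eo_ne ((smul_eq_zero.mp (slot_injective j h1)).resolve_left hc)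
  rcases hG.small_cases hx (eo_ne) eo_iso hsk hsk0 hsv hn with hcm | ⟨c, e', hc, he', hee', hconj⟩
  · exfalso
    have hb : ∀ a b, blk j (s : Matrix (τ → γ) (τ → γ) F) a b =
        (1 : Matrix γ γ F) a b • (s : Matrix (τ → γ) (τ → γ) F) := fun a b => by
      conv_lhs => rw [← mul_one (s : Matrix (τ → γ) (τ → γ) F), ← slot_one j]
      exact blk_cm_mul_slot hcm 1 a b
    have h1 := hblk P.o
    rw [hb, Matrix.one_apply_eq, one_smul, if_pos rfl, hsv, add_eq_left] at h1
    exact hE0 sk hsk h1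
  · -- conjugate the image back to `eo`
    obtain ⟨b, hb, hbe⟩ := exists_move (P := P) he' hee'
    set y := (slotU j b)⁻¹ * x with hy
    have hyX : y ∈ X := mul_mem (inv_mem (hX.slotMem j b hb)) hx
    set μ := sk⁻¹ * c
    have h1 : conjM x (slot j P.E : Matrix (τ → γ) (τ → γ) F) = μ • slot j (P.r e' e') := by
      rw [slot_smul, map_smul, slot_smul] at hconj
      rw [E, mul_smul, ← hconj, smul_smul, inv_mul_cancel₀ hsk, one_smul]
    have h2 : conjM y (slot j P.E : Matrix (τ → γ) (τ → γ) F) = μ • slot j P.E := by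
      rw [hy, ← conjM_conjM, h1, map_smul, conjM_apply, inv_inv, slotU_inv, slotU_val, ← slot_mul, ← slot_mul, E,
        ← hbe, ← conj_r hb]
      simp only [mul_assoc, Units.inv_mul, mul_one]
      rw [← mul_assoc, Units.inv_mul, one_mul]
    have h3 : (y : Matrix (τ → γ) (τ → γ) F) * slot j P.E = μ • (slot j P.E * (y : Matrix (τ → γ) (τ → γ) F)) := by
      have := congrArg (· * (y : Matrix (τ → γ) (τ → γ) F)) h2
      simp only [conjM_apply, mul_assoc, Units.inv_mul, mul_one, smul_mul_assoc] at this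
      exact this
    have hcol : ∀ a, a ≠ P.o → blk j (y : Matrix (τ → γ) (τ → γ) F) a P.o = 0 := fun a ha => by
      have := congrArg (fun M => blk j M a P.o') h3
      rw [blk_smul, blk_mul, blk_mul, Finset.sum_eq_single P.o (fun d _ hd => by
        rw [blk_slot, E_eq, Matrix.single_apply_of_ne _ _ _ _ _ (fun e => hd e.1.symm), zero_smul, mul_zero]) (by simp),
        blk_slot, E_eq, Matrix.single_apply_same, one_smul, mul_one, Finset.sum_eq_zero fun d _ => by
        rw [blk_slot, Matrix.single_apply_of_ne _ _ _ _ _ (fun e => ha e.1.symm), zero_smul, zero_mul], smul_zero] at this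
      exact this
    have h4 := hG.normal_of_stab hyX hcol
    have e : x = slotU j b * y := by rw [hy, mul_inv_cancel_left]
    rw [e]
    exact Eqj.trans h4 (slotU_normal j j b)

set_option maxHeartbeats 1000000 in
/-- A representation of `SU` fixing a tight nilpotent of a slot fixes the slot. -/
theorem Good.proj (hG : P.Good X) (ρ : P.herm.SIsom →* GL (τ → γ) F) (hρ : ∀ g, ρ g ∈ X) {j : τ}
    {Nm : Matrix γ γ F} (ht : P.Tight Nm)
    (hfix : ∀ g, Commute (ρ g : Matrix (τ → γ) (τ → γ) F) (slot j Nm)) (g : P.herm.SIsom) :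
    CM j (ρ g : Matrix (τ → γ) (τ → γ) F) := by
  classical
  have hX := hG.hyp
  haveI : Nonempty γ := ⟨P.o⟩
  have hd : 4 ≤ Module.finrank F (γ → F) ∨ (Module.finrank F (γ → F) = 3 ∧ 3 ≤ P.herm.q) := by
    rw [Module.finrank_fintype_fun_eq_card]; exact hX.room
  choose bb hbb using fun g => (hG.normal_of_comm (hρ g) ht (hfix g)).inner
  set mk := QuotientGroup.mk' (Subgroup.center (GL γ F)) with hmk
  let ψ : P.herm.SIsom →* GL γ F ⧸ Subgroup.center (GL γ F) := MonoidHom.mk' (fun g => mk (bb g)) fun a b => by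
    rw [← map_mul]
    refine mk_eq_of_conj_eq fun A => slot_injective (τ := τ) j ?_
    rw [← hbb, map_mul, ← conjM_conjM, hbb, hbb, Units.val_mul, _root_.mul_inv_rev, Units.val_mul]
    simp only [mul_assoc]
  have hψ : ∀ g, ψ g = mk (bb g) := fun g => rfl
  have hbN : ∀ g, (bb g : Matrix γ γ F) * Nm = Nm * (bb g : Matrix γ γ F) := fun g => by
    have h1 : slot j ((bb g : Matrix γ γ F) * Nm * (bb g)⁻¹.1) = (slot j Nm : Matrix (τ → γ) (τ → γ) F) := by
      rw [← hbb, conjM_apply, (hfix g).eq, mul_assoc, Units.mul_inv, mul_one]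
    have h2 := congrArg (· * (bb g : Matrix γ γ F)) (slot_injective j h1)
    simpa only [mul_assoc, Units.inv_mul, mul_one] using h2
  suffices hker : ψ g = 1 by
    obtain ⟨c, hc⟩ := exists_scalar_of_mem_center ((QuotientGroup.eq_one_iff _).mp hker)
    intro A
    have h1 := hbb g A
    rw [hc, smul_one_mul, smul_mul_assoc, ← mul_smul_comm] at h1
    have hinv : c • (bb g)⁻¹.1 = 1 := by rw [← smul_one_mul c ((bb g)⁻¹.1), ← hc, Units.mul_inv]
    rw [hinv, mul_one, conjM_apply] at h1
    have h2 := congrArg (· * (ρ g : Matrix (τ → γ) (τ → γ) F)) h1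
    simp only [mul_assoc, Units.inv_mul, mul_one] at h2
    exact h2.symm
  set Z := Subgroup.center P.herm.SIsom
  have hperf : commutator P.herm.SIsom = ⊤ := P.herm.commutator_SIsom hd
  haveI : IsSimpleGroup (P.herm.SIsom ⧸ Z) := P.herm.isSimpleGroup_SIsom_quotient hd
  rcases Subgroup.Normal.eq_bot_or_eq_top
    ((MonoidHom.normal_ker ψ).map (QuotientGroup.mk' Z) (QuotientGroup.mk'_surjective Z)) with hN | hN
  · exfalso
    have hle : ψ.ker ≤ Z := by
      have := (Subgroup.map_eq_bot_iff _).mp hN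
      rwa [QuotientGroup.ker_mk'] at this
    set φ := mk.comp P.toGL with hφ
    have hsim : ∀ g, ∃ μ : F, P.adjoint (bb g : Matrix γ γ F) * (bb g : Matrix γ γ F) = μ • 1 := fun g =>
      hX.similitude (hρ g) (hbb g)
    have hrange : ψ.range ≤ φ.range := by
      rw [MonoidHom.range_eq_map, ← hperf, commutator_def, Subgroup.map_commutator, Subgroup.commutator_le]
      rintro _ ⟨a, -, rfl⟩ _ ⟨b, -, rfl⟩
      set A := bb a
      set B := bb b
      obtain ⟨μ, hμ⟩ := hsim a
      obtain ⟨ν, hν⟩ := hsim b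
      have hμ0 : μ ≠ 0 := by
        intro h0
        rw [h0, zero_smul] at hμ
        have this : adj P.σ P.nu (A : Matrix γ γ F) = 0 := A.isUnit.mul_left_eq_zero.mp hμ
        have h2 := congrArg (adj P.σ P.nu) this
        rw [adj_adj P.invol P.nu_nu, adj_zero] at h2
        exact A.ne_zero h2
      have hν0 : ν ≠ 0 := by
        intro h0
        rw [h0, zero_smul] at hν
        have this : adj P.σ P.nu (B : Matrix γ γ F) = 0 := B.isUnit.mul_left_eq_zero.mp hν
        have h2 := congrArg (adj P.σ P.nu) this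
        rw [adj_adj P.invol P.nu_nu, adj_zero] at h2
        exact B.ne_zero h2
      have hinv : ∀ (C : GL γ F) (κ : F), κ ≠ 0 → P.adjoint (C : Matrix γ γ F) * C = κ • 1 →
          P.adjoint (C⁻¹ : GL γ F).1 * (C⁻¹ : GL γ F).1 = κ⁻¹ • 1 := by
        intro C κ hκ hC
        have h1 : (C : Matrix γ γ F) * P.adjoint (C : Matrix γ γ F) = κ • 1 := by
          calc (C : Matrix γ γ F) * P.adjoint (C : Matrix γ γ F)
              = C * (P.adjoint (C : Matrix γ γ F) * C) * (C⁻¹ : GL γ F).1 := by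
                simp only [mul_assoc, Units.mul_inv, mul_one]
            _ = κ • 1 := by rw [hC, mul_smul_comm, mul_one, smul_mul_assoc, Units.mul_inv]
        calc P.adjoint (C⁻¹ : GL γ F).1 * (C⁻¹ : GL γ F).1
            = κ⁻¹ • (P.adjoint (C⁻¹ : GL γ F).1 * (C⁻¹ : GL γ F).1 * (κ • 1)) := by
              rw [mul_smul_comm, mul_one, smul_smul, inv_mul_cancel₀ hκ, one_smul]
          _ = _ := by
              rw [← h1, mul_assoc, ← mul_assoc (C⁻¹ : GL γ F).1, Units.inv_mul, one_mul, adjoint, adjoint, ← adj_mul,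
                Units.mul_inv, adj_one]
      have hcomp : ∀ (C D : GL γ F) (κ l : F), P.adjoint (C : Matrix γ γ F) * C = κ • 1 →
          P.adjoint (D : Matrix γ γ F) * D = l • 1 →
          P.adjoint ((C * D : GL γ F) : Matrix γ γ F) * ((C * D : GL γ F) : Matrix γ γ F) = (κ * l) • 1 := by
        intro C D κ l hC hD
        rw [Units.val_mul, adjoint, adj_mul, mul_assoc, ← mul_assoc (adj P.σ P.nu (C : Matrix γ γ F)), hC,
          smul_mul_assoc, one_mul, mul_smul_comm, hD, smul_smul]
      have hc := hcomp _ _ _ _ (hcomp _ _ _ _ (hcomp _ _ _ _ hμ hν) (hinv _ _ hμ0 hμ)) (hinv _ _ hν0 hν)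
      rw [show μ * ν * μ⁻¹ * ν⁻¹ = 1 by field_simp, one_smul] at hc
      have hmem : ⁅A, B⁆ ∈ P.SU := by
        refine ⟨by rw [commutatorElement_def]; exact hc, ?_⟩
        have h1 : Matrix.GeneralLinearGroup.det ⁅A, B⁆ = 1 := by
          rw [map_commutatorElement, commutatorElement_eq_one_iff_mul_comm, mul_comm]
        have := congrArg Units.val h1
        rwa [Matrix.GeneralLinearGroup.val_det_apply, Units.val_one] at this
      obtain ⟨k, hk⟩ := exists_toGL hmem
      exact ⟨k, by rw [hφ, MonoidHom.comp_apply, hk, map_commutatorElement, hψ, hψ]⟩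
    haveI : Finite P.herm.SIsom := Finite.of_injective _ toGL_injective
    have hZker : Z ≤ φ.ker := by
      intro z hz
      rw [MonoidHom.mem_ker, hφ, MonoidHom.comp_apply, hmk, QuotientGroup.mk'_apply, QuotientGroup.eq_one_iff]
      obtain ⟨c, hc⟩ := scalar_of_comm_SU (P := P) (M := (P.toGL z : Matrix γ γ F)) fun b hb => by
        obtain ⟨k, rfl⟩ := exists_toGL hb
        show _ * _ = _ * _
        rw [← Units.val_mul, ← Units.val_mul, ← map_mul, ← map_mul, Subgroup.mem_center_iff.mp hz k]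
      refine Subgroup.mem_center_iff.mpr fun k => Units.ext ?_
      rw [Units.val_mul, Units.val_mul, hc, mul_smul_comm, mul_one, smul_one_mul]
    have hcard : ∀ θ : P.herm.SIsom →* GL γ F ⧸ Subgroup.center (GL γ F),
        Nat.card θ.range * Nat.card θ.ker = Nat.card P.herm.SIsom := fun θ => by
      rw [← Nat.card_congr (QuotientGroup.quotientKerEquivRange θ).toEquiv]
      exact (Subgroup.card_eq_card_quotient_mul_card_subgroup _).symm
    have heq : ψ.range = φ.range := by
      refine Subgroup.eq_of_le_of_card_ge hrange ?_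
      refine Nat.le_of_mul_le_mul_right (c := Nat.card φ.ker) ?_ Nat.card_pos
      rw [hcard φ, ← hcard ψ]
      exact Nat.mul_le_mul_left _ (Subgroup.card_le_of_le (hle.trans hZker))
    obtain ⟨c, hc⟩ := scalar_of_comm_SU (P := P) (M := Nm) fun b hb => by
      obtain ⟨k, rfl⟩ := exists_toGL hb
      obtain ⟨a, ha⟩ : φ k ∈ ψ.range := heq ▸ ⟨k, rfl⟩
      obtain ⟨w, hw⟩ := exists_scalar_of_mem_center (QuotientGroup.eq.mp (show mk (bb a) = mk (P.toGL k) from ha))
      have h1 : (P.toGL k : Matrix γ γ F) = w • (bb a : Matrix γ γ F) := by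
        have h2 := congrArg ((bb a : Matrix γ γ F) * ·) hw
        simpa only [Units.val_mul, ← mul_assoc, Units.mul_inv, one_mul, mul_smul_comm, mul_one] using h2
      show _ * _ = _ * _
      rw [h1, smul_mul_assoc, mul_smul_comm, hbN a]
    obtain ⟨e, z, he, hee, hz, hk⟩ := ht
    rw [hc, mul_smul_comm, mul_one] at hk
    have hc0 : c = 0 := (smul_eq_zero.mp hk).resolve_right (r_ne he)
    rw [hc, hc0, zero_smul, zero_mulVec] at hz
    exact he hz.symm
  · have htop : ψ.ker ⊔ Z = ⊤ := by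
      have := congrArg (Subgroup.comap (QuotientGroup.mk' Z)) hN
      rwa [Subgroup.comap_map_eq, Subgroup.comap_top, QuotientGroup.ker_mk'] at this
    have hker : ψ.ker = ⊤ := by
      refine eq_top_iff.mpr ?_
      rw [← hperf, commutator_def, Subgroup.commutator_le]
      intro x _ y _
      obtain ⟨a, ha, z, hz, rfl⟩ := Subgroup.mem_sup_of_normal_right.mp (htop.symm ▸ Subgroup.mem_top x)
      obtain ⟨a', ha', z', hz', rfl⟩ := Subgroup.mem_sup_of_normal_right.mp (htop.symm ▸ Subgroup.mem_top y)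
      rw [MonoidHom.mem_ker] at ha ha' ⊢
      have hc : ⁅ψ z, ψ z'⁆ = 1 := by
        rw [← map_commutatorElement, commutatorElement_eq_one_iff_mul_comm.mpr (Subgroup.mem_center_iff.mp hz' z),
          map_one]
      rw [map_commutatorElement, map_mul, map_mul, ha, ha', one_mul, one_mul, hc]
    exact MonoidHom.mem_ker.mp (hker ▸ Subgroup.mem_top g)

/-- A conjugate of `SU` of one slot fixing a tight nilpotent of another slot commutes with that slot. -/
theorem Good.proj_conj (hG : P.Good X) {g : GL (τ → γ) F} (hg : g ∈ X) {l j : τ} {Nm : Matrix γ γ F}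
    (ht : P.Tight Nm) (hfix : ∀ b ∈ P.SU, Commute (conjM g (slot l (b : Matrix γ γ F))) (slot j Nm)) :
    Comm g l j := by
  classical
  have hX := hG.hyp
  haveI : Nontrivial γ := ⟨⟨P.o, P.o', P.ne⟩⟩
  set ρ : P.herm.SIsom →* GL (τ → γ) F := (MulAut.conj g).toMonoidHom.comp ((slotHom l).comp P.toGL)
  have hval : ∀ k, ((ρ k : GL (τ → γ) F) : Matrix (τ → γ) (τ → γ) F) =
      conjM g (slot l (P.toGL k : Matrix γ γ F)) := fun k => by
    show ((g * slotU l (P.toGL k) * g⁻¹ : GL (τ → γ) F) : Matrix (τ → γ) (τ → γ) F) = _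
    rw [Units.val_mul, Units.val_mul, slotU_val, conjM_apply]
  have h := hG.proj ρ (fun k => mul_mem (mul_mem hg (hX.slotMem l _ (toGL_mem k))) (inv_mem hg)) ht
    fun k => by rw [hval]; exact hfix _ (toGL_mem k)
  intro A B
  let S : Submodule F (Matrix γ γ F) :=
    { carrier := {M | Commute (slot l M) (conjM g⁻¹ (slot j B))}
      add_mem' := fun ha hb => by
        show Commute (slot l _) _
        rw [slot_add]; exact Commute.add_left ha hb
      zero_mem' := by
        show Commute (slot l 0) _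
        rw [slot_zero]; exact Commute.zero_left _
      smul_mem' := fun c M hM => by
        show Commute (slot l (c • M)) _
        rw [slot_smul]; exact Commute.smul_left hM c }
  have hb : ∀ b ∈ P.SU, (b : Matrix γ γ F) ∈ S := fun b hb => by
    obtain ⟨k, rfl⟩ := exists_toGL hb
    refine commute_conjM_left ?_
    rw [← hval]
    exact (h k B).symm
  have hS : P.Inv S := fun b hb' M hM => by
    show Commute (slot l _) _
    rw [slot_mul, slot_mul]
    exact ((hb b hb').mul_left hM).mul_left (hb b⁻¹ (inv_mem hb'))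
  have hE : P.E ∈ S := by
    obtain ⟨s, hs, hs0⟩ := P.conj.exists_skew
    have hrd : P.RD P.eo 0 s := rd_eo ⟨rfl, rfl⟩ (by rw [h_zero_left, neg_zero]; exact hs0)
    have h1 := sub_mem (hb _ (root_mem hrd)) (show (1 : Matrix γ γ F) ∈ S by
      show Commute (slot l 1) _
      rw [slot_one]; exact Commute.one_left _)
    rw [root_val, Pol.N, r_zero_left, r_zero_right, sub_zero, zero_add, add_sub_cancel_left] at h1
    have h2 := S.smul_mem s⁻¹ h1
    rwa [smul_smul, inv_mul_cancel₀ hs, one_smul] at h2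
  have h2 : Commute (slot l A) (conjM g⁻¹ (slot j B)) :=
    comm_slot_of_offdiag (fun p q hpq => (inv_offdiag hS hE).1 p q hpq) A
  have := commute_conjM g h2
  rwa [conjM_conjM_inv] at this

theorem conj_pow {h : GL (τ → γ) F} {i : τ} {b₀ : GL γ F}
    (hb : ∀ A, conjM h (slot i A) = slot i ((b₀ : Matrix γ γ F) * A * (b₀⁻¹ : GL γ F).1)) (n : ℕ) :
    ∀ A, conjM (h ^ n) (slot i A) =
      slot i (((b₀ ^ n : GL γ F) : Matrix γ γ F) * A * ((b₀ ^ n)⁻¹ : GL γ F).1) := by
  induction n with
  | zero => intro A; rw [pow_zero, pow_zero, conjM_id, inv_one, Units.val_one, one_mul, mul_one]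
  | succ n ih =>
    intro A
    rw [pow_succ, pow_succ, ← conjM_conjM, hb, ih, Units.val_mul, _root_.mul_inv_rev, Units.val_mul]
    simp only [mul_assoc]

set_option maxHeartbeats 1000000 in
/-- A root of slot `j` normalising the conjugate of slot `i` forces it to be slot `j` or to commute with it. -/
theorem Good.root_cases (hG : P.Good X) {g : GL (τ → γ) F} (hg : g ∈ X) {i j : τ} {p : ℕ} [Fact p.Prime] [CharP F p]
    {b : GL γ F} (hbSU : b ∈ P.SU) (hbp : b ^ (p ^ 2) = 1) (ht : P.Tight ((b : Matrix γ γ F) - 1))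
    (hK : Eqj (g⁻¹ * slotU j b * g) i i) : Eqj g i j ∨ Comm g i j := by
  classical
  have hX := hG.hyp
  haveI : Nonempty γ := ⟨P.o⟩
  haveI : CharP (Matrix γ γ F) p := Matrix.charP p
  set k : GL (τ → γ) F := slotU j b with hk
  set h := g⁻¹ * k * g with hh
  have hhX : h ∈ X := mul_mem (mul_mem (inv_mem hg) (hX.slotMem j b hbSU)) hg
  obtain ⟨b₀, hb₀⟩ := hK.inner
  have hhp : h ^ (p ^ 2) = 1 := by
    have h1 : k ^ (p ^ 2) = 1 := by
      rw [hk, show slotU j b = slotHom j b from rfl, ← map_pow, hbp, map_one]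
    rw [hh, show g⁻¹ * k * g = MulAut.conj g⁻¹ k by simp, ← map_pow, h1, map_one]
  obtain ⟨c, hc⟩ : ∃ c : F, (((b₀ ^ (p ^ 2) : GL γ F)) : Matrix γ γ F) = c • 1 := by
    have h1 := mk_eq_of_conj_eq (b := b₀ ^ (p ^ 2)) (b' := 1) fun A => slot_injective (τ := τ) i (by
      rw [← conj_pow hb₀, hhp, conjM_id, inv_one, Units.val_one, one_mul, mul_one])
    rw [map_one] at h1
    exact exists_scalar_of_mem_center ((QuotientGroup.eq_one_iff _).mp h1)
  haveI : ExpChar F p := ExpChar.prime Fact.out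
  obtain ⟨ν₁, hν₁⟩ := Finite.injective_iff_surjective.mp (frobenius_inj F p) c
  obtain ⟨ν, hν⟩ := Finite.injective_iff_surjective.mp (frobenius_inj F p) ν₁
  rw [frobenius_def] at hν hν₁
  have hνp : ν ^ (p ^ 2) = c := by rw [pow_two, pow_mul, hν, hν₁]
  have hc0 : c ≠ 0 := fun e => by
    rw [e, zero_smul] at hc
    exact (b₀ ^ (p ^ 2)).ne_zero hc
  have hν0 : ν ≠ 0 := fun e => hc0 (by rw [← hνp, e, zero_pow (pow_ne_zero _ (Fact.out : p.Prime).ne_zero)])
  set B := ν⁻¹ • (b₀ : Matrix γ γ F) with hB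
  have hBp : B ^ (p ^ 2) = 1 := by
    rw [hB, smul_pow, ← Units.val_pow_eq_pow_val, hc, smul_smul, inv_pow, hνp, inv_mul_cancel₀ hc0, one_smul]
  have hBi : B * (ν • (b₀⁻¹ : GL γ F).1) = 1 := by
    rw [hB, smul_mul_smul_comm, inv_mul_cancel₀ hν0, one_smul, Units.mul_inv]
  have hBconj : ∀ A, conjM h (slot i A) = slot i (B * A * (ν • (b₀⁻¹ : GL γ F).1)) := fun A => by
    rw [hb₀, hB, smul_mul_assoc, smul_mul_smul_comm, inv_mul_cancel₀ hν0, one_smul]
  obtain ⟨μ₀, hμ₀⟩ := hX.similitude hhX hb₀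
  obtain ⟨μ, hμ⟩ : ∃ μ : F, P.adjoint B * B = μ • 1 :=
    ⟨P.σ ν⁻¹ * ν⁻¹ * μ₀, by rw [hB, adjoint, adj_smul, smul_mul_smul_comm, hμ₀, smul_smul]⟩
  have hiso : Iso P.σ P.nu B := by
    have h1 : Commute (P.adjoint B) B := by
      show _ = _
      rw [hμ]
      calc μ • 1 = B * ((μ • 1) * (ν • (b₀⁻¹ : GL γ F).1)) := by rw [smul_one_mul, mul_smul_comm, hBi]
        _ = B * P.adjoint B := by rw [← hμ, mul_assoc, hBi, mul_one]
    have h2 : (P.adjoint B * B) ^ (p ^ 2) = 1 := by
      rw [h1.mul_pow, hBp, mul_one, adjoint, ← adj_pow, hBp, adj_one]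
    rw [hμ, smul_pow, one_pow] at h2
    have h3 : μ ^ (p ^ 2) = 1 := by
      have := congrFun (congrFun h2 P.o) P.o
      simpa using this
    have h4 : μ = 1 := by
      have : (μ - 1) ^ (p ^ 2) = 0 := by rw [sub_pow_char_pow, h3, one_pow, sub_self]
      exact sub_eq_zero.mp ((pow_eq_zero_iff (pow_ne_zero _ (Fact.out : p.Prime).ne_zero)).mp this)
    rw [h4, one_smul] at hμ
    exact hμ
  by_cases hB1 : B = 1
  · right
    refine hG.proj_conj hg ht fun b' _ => ?_
    have h1 : conjM h (slot i (b' : Matrix γ γ F)) = slot i (b' : Matrix γ γ F) := by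
      rw [hB1, one_mul] at hBi
      rw [hBconj, hB1, hBi, one_mul, mul_one]
    have h2 : conjM k (conjM g (slot i (b' : Matrix γ γ F))) = conjM g (slot i (b' : Matrix γ γ F)) := by
      rw [conjM_conjM, show k * g = g * h by rw [hh]; group, ← conjM_conjM, h1]
    have h3 : Commute (k : Matrix (τ → γ) (τ → γ) F) (conjM g (slot i (b' : Matrix γ γ F))) := by
      have := congrArg (· * (k : Matrix (τ → γ) (τ → γ) F)) h2
      simp only [conjM_apply (g := k), mul_assoc, Units.inv_mul, mul_one] at this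
      exact this
    rw [slot_sub, slot_one, ← slotU_val j b]
    exact (h3.sub_left (Commute.one_left _)).symm
  -- an isotropic fixed vector of `B`
  set M := B - 1 with hM
  have hMn : M ^ (p ^ 2) = 0 := by rw [hM, sub_pow_char_pow_of_commute p 2 (Commute.one_right B), hBp, one_pow, sub_self]
  have hex : ∃ n, M ^ (n + 1) = 0 := ⟨p ^ 2, by rw [pow_succ, hMn, zero_mul]⟩
  set m := Nat.find hex with hm
  have hm0 : m ≠ 0 := fun e => hB1 (sub_eq_zero.mp (by
    have := Nat.find_spec hex
    rwa [← hm, e, zero_add, pow_one] at this))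
  obtain ⟨m', hm'⟩ : ∃ m', m = m' + 1 := ⟨m - 1, by omega⟩
  have hMm : M ^ m ≠ 0 := by
    rw [hm']
    exact Nat.find_min hex (by omega)
  obtain ⟨w, hw⟩ : ∃ w, (M ^ m) *ᵥ w ≠ 0 := by
    by_contra hh
    push Not at hh
    exact hMm (Matrix.ext_of_mulVec_single fun a => by rw [hh, zero_mulVec])
  set v := (M ^ m) *ᵥ w with hv
  have hMv : M *ᵥ v = 0 := by
    rw [hv, mulVec_mulVec, ← pow_succ', hm, Nat.find_spec hex, zero_mulVec]
  have hBv : B *ᵥ v = v := by
    have := hMv
    rwa [hM, sub_mulVec, one_mulVec, sub_eq_zero] at this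
  have hvu : v = M *ᵥ ((M ^ m') *ᵥ w) := by rw [mulVec_mulVec, ← pow_succ', ← hm', hv]
  have hvv : P.h v v = 0 := by
    have h1 : ∀ u, P.h (M *ᵥ u) v = 0 := fun u => by
      rw [hM, sub_mulVec, one_mulVec, sub_eq_add_neg, h_add_left, h_neg_left]
      conv_lhs => arg 1; rw [← hBv]
      show hf P.σ P.nu _ _ + -_ = 0
      rw [hiso.hf_eq P.invol P.nu_nu, add_neg_cancel]
    calc P.h v v = P.h (M *ᵥ ((M ^ m') *ᵥ w)) v := by rw [← hvu]
      _ = 0 := h1 _
  obtain ⟨sk, hsk, hsk0⟩ := P.conj.exists_skew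
  have hrd : P.RD v 0 sk := ⟨hvv, P.herm.zero_left v, by rw [h_zero_left, neg_zero]; exact hsk0⟩
  have hN : P.N v 0 sk = sk • P.r v v := by rw [Pol.N, r_zero_left, r_zero_right, sub_zero, zero_add]
  set u := g * slotU i (root hrd) * g⁻¹ with hu
  have huX : u ∈ X := mul_mem (mul_mem hg (hX.slotMem i _ (root_mem hrd))) (inv_mem hg)
  have huv : (u : Matrix (τ → γ) (τ → γ) F) = 1 + conjM g (slot i (sk • P.r v v)) := by
    rw [hu, Units.val_mul, Units.val_mul, slotU_val, root_val, hN, slot_add, slot_one, mul_add, mul_one, add_mul,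
      Units.mul_inv, conjM_apply]
  have hcomm : Commute (conjM g (slot i (P.r v v))) (slot j ((b : Matrix γ γ F) - 1)) := by
    have h1 : conjM h (slot i (P.r v v)) = slot i (P.r v v) := by
      rw [hBconj]
      congr 1
      have hBi' : ν • (b₀⁻¹ : GL γ F).1 = P.adjoint B := by
        calc ν • (b₀⁻¹ : GL γ F).1 = P.adjoint B * B * (ν • (b₀⁻¹ : GL γ F).1) := by
              rw [show P.adjoint B * B = 1 from hiso, one_mul]
          _ = _ := by rw [mul_assoc, hBi, mul_one]
      rw [hBi', r, adjoint, conj_rk P.invol P.nu_nu hiso, hBv]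
    have h2 : conjM k (conjM g (slot i (P.r v v))) = conjM g (slot i (P.r v v)) := by
      rw [conjM_conjM, show k * g = g * h by rw [hh]; group, ← conjM_conjM, h1]
    have h3 : Commute (k : Matrix (τ → γ) (τ → γ) F) (conjM g (slot i (P.r v v))) := by
      have := congrArg (· * (k : Matrix (τ → γ) (τ → γ) F)) h2
      simp only [conjM_apply (g := k), mul_assoc, Units.inv_mul, mul_one] at this
      exact this
    rw [slot_sub, slot_one, ← slotU_val j b]
    exact (h3.sub_left (Commute.one_left _)).symm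
  have hun : Eqj u j j := hG.normal_of_comm huX ht (by
    rw [huv, slot_smul, map_smul]
    exact (Commute.one_left _).add_left (hcomm.smul_left sk))
  have hvne : v ≠ 0 := hw
  rcases hG.small_cases hg hvne hvv hsk hsk0 huv hun with hcm | ⟨c', e', hc', he', hee', hconj⟩
  · right
    have h1 : ∀ A, Commute (slot j A) (conjM g (slot i (P.r v v))) := fun A => by
      have := ((hcm A).sub_right (Commute.one_right _))
      rw [huv, add_sub_cancel_left, slot_smul, map_smul] at this
      have := this.smul_right sk⁻¹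
      rwa [smul_smul, inv_mul_cancel₀ hsk, one_smul] at this
    have h2 := hG.proj_conj (inv_mem hg) (tight_r hvne hvv) (l := j) (j := i) fun b' _ => by
      have := commute_conjM g⁻¹ (h1 (b' : Matrix γ γ F))
      rwa [conjM_inv_conjM] at this
    intro A B
    have := commute_conjM g (h2 B A)
    rw [conjM_conjM_inv] at this
    exact this.symm
  · left
    have hl : ∀ l, l ≠ i → Comm g l j := fun l hl => by
      refine hG.proj_conj hg (tight_r he' hee') fun b' _ => ?_
      have h1 : Commute (conjM g (slot l (b' : Matrix γ γ F))) (conjM g (slot i (sk • P.r v v))) :=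
        commute_conjM g (slot_comm hl _ _)
      rw [hconj, slot_smul] at h1
      have := h1.smul_right c'⁻¹
      rwa [smul_smul, inv_mul_cancel₀ hc', one_smul] at this
    have h2 : Eqj g⁻¹ j i := fun A => by
      refine eq_slot_of_comm fun l hl' B => ?_
      have := commute_conjM g⁻¹ (hl l hl' B A)
      rwa [conjM_inv_conjM] at this
    have h3 := h2.inv
    rwa [inv_inv] at h3

end Pol

end Cfsg.Lib.Classical.TensorPowU
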